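import Groth.Prelude.Def_GrLC
import Mathlib.RingTheory.GradedAlgebra.Homogeneous.Submodule

/-!
Homogeneous components in modules graded by the integers over a graded ring.
-/

universe u

open DirectSum

namespace Groth.Agent.GrSyz54

section Components

variable {M : Type u} [AddCommGroup M] {τ : Type u} [SetLike τ M] [AddSubgroupClass τ M]
  (ℳ : ℤ → τ) [Decomposition ℳ]

/-- The degree `d` component, as an additive map. -/
noncomputable def cmp (d : ℤ) : M →+ M where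
  toFun m := (decompose ℳ m d : M)
  map_zero' := by simp
  map_add' x y := by simp

theorem cmp_apply (d : ℤ) (m : M) : cmp ℳ d m = (decompose ℳ m d : M) := rfl

theorem cmp_mem (d : ℤ) (m : M) : cmp ℳ d m ∈ ℳ d := (decompose ℳ m d).2

theorem cmp_of_mem {d : ℤ} {m : M} (h : m ∈ ℳ d) : cmp ℳ d m = m :=
  decompose_of_mem_same ℳ h

theorem cmp_of_ne {d e : ℤ} {m : M} (h : m ∈ ℳ d) (hne : d ≠ e) : cmp ℳ e m = 0 :=
  decompose_of_mem_ne ℳ h hne

theorem exists_sum_cmp (m : M) : ∃ t : Finset ℤ, ∑ d ∈ t, cmp ℳ d m = m := by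
  classical
  exact ⟨_, sum_support_decompose ℳ m⟩

theorem eq_of_cmp {m m' : M} (h : ∀ d, cmp ℳ d m = cmp ℳ d m') : m = m' := by
  apply (decompose ℳ).injective
  ext d
  exact h d

theorem eq_zero_of_cmp {m : M} (h : ∀ d, cmp ℳ d m = 0) : m = 0 :=
  eq_of_cmp ℳ (by simpa using h)

theorem piece_induction {p : M → Prop} (m : M) (h0 : p 0) (hadd : ∀ x y, p x → p y → p (x + y))
    (hp : ∀ d, ∀ x ∈ ℳ d, p x) : p m := by
  obtain ⟨t, ht⟩ := exists_sum_cmp ℳ m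
  rw [← ht]
  exact Finset.sum_induction _ p hadd h0 (fun d _ => hp d _ (cmp_mem ℳ d m))

end Components

section Module

variable {R : Type u} [CommRing R] {σ : Type u} [SetLike σ R] [AddSubgroupClass σ R]
  (𝒜 : ℤ → σ) [GradedRing 𝒜]
  {M : Type u} [AddCommGroup M] [Module R M] {τ : Type u} [SetLike τ M] [AddSubgroupClass τ M]
  (ℳ : ℤ → τ) [Decomposition ℳ] [SetLike.GradedSMul 𝒜 ℳ]

omit [AddSubgroupClass σ R] [GradedRing 𝒜] [Decomposition ℳ] [AddSubgroupClass τ M] in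
theorem smul_mem_add {i j : ℤ} {c : R} {m : M} (hc : c ∈ 𝒜 i) (hm : m ∈ ℳ j) :
    c • m ∈ ℳ (i + j) := by
  simpa [vadd_eq_add] using SetLike.GradedSMul.smul_mem (A := 𝒜) (B := ℳ) hc hm

theorem cmp_smul_homog_right (d : ℤ) {j : ℤ} {m : M} (hm : m ∈ ℳ j) (c : R) :
    cmp ℳ d (c • m) = cmp 𝒜 (d - j) c • m := by
  induction c using piece_induction 𝒜 with
  | h0 => simp
  | hadd x y hx hy => simp [add_smul, hx, hy]
  | hp i x hx =>
    rcases eq_or_ne (i + j) d with h | h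
    · rw [cmp_of_mem ℳ (h ▸ smul_mem_add 𝒜 ℳ hx hm), cmp_of_mem 𝒜 (d := d - j)]
      rwa [show d - j = i by omega]
    · rw [cmp_of_ne ℳ (smul_mem_add 𝒜 ℳ hx hm) h, cmp_of_ne 𝒜 hx (by omega), zero_smul]

omit [AddSubgroupClass σ R] [GradedRing 𝒜] in
theorem cmp_smul_homog_left (d : ℤ) {i : ℤ} {c : R} (hc : c ∈ 𝒜 i) (m : M) :
    cmp ℳ d (c • m) = c • cmp ℳ (d - i) m := by
  induction m using piece_induction ℳ with
  | h0 => simp
  | hadd x y hx hy => simp [smul_add, hx, hy]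
  | hp j x hx =>
    rcases eq_or_ne (i + j) d with h | h
    · rw [cmp_of_mem ℳ (h ▸ smul_mem_add 𝒜 ℳ hc hx), cmp_of_mem ℳ (d := d - i)]
      rwa [show d - i = j by omega]
    · rw [cmp_of_ne ℳ (smul_mem_add 𝒜 ℳ hc hx) h, cmp_of_ne ℳ hx (by omega), smul_zero]

theorem cmp_linearCombination {β : Type*} [Fintype β] (deg : β → ℤ) (g : β → M)
    (hg : ∀ b, g b ∈ ℳ (deg b)) (c : β → R) (d : ℤ) :
    cmp ℳ d (∑ b, c b • g b) = ∑ b, cmp 𝒜 (d - deg b) (c b) • g b := by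
  rw [map_sum]
  exact Finset.sum_congr rfl fun b _ => cmp_smul_homog_right 𝒜 ℳ d (hg b) (c b)

omit [AddSubgroupClass τ M] [Decomposition ℳ] [SetLike.GradedSMul 𝒜 ℳ] [GradedRing 𝒜]
  [AddSubgroupClass σ R] in
theorem span_le_of_homog {s : Set M} {N : Submodule R M} (h : s ⊆ N) : Submodule.span R s ≤ N :=
  Submodule.span_le.2 h

include 𝒜 in
/-- A submodule spanned by homogeneous elements is stable under taking components. -/
theorem cmp_mem_span {s : Set M} (hs : ∀ x ∈ s, ∃ j, x ∈ ℳ j) {m : M}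
    (hm : m ∈ Submodule.span R s) (d : ℤ) : cmp ℳ d m ∈ Submodule.span R s := by
  induction hm using Submodule.span_induction generalizing d with
  | mem x hx =>
    obtain ⟨j, hj⟩ := hs x hx
    rcases eq_or_ne j d with h | h
    · rw [cmp_of_mem ℳ (h ▸ hj)]
      exact Submodule.subset_span hx
    · rw [cmp_of_ne ℳ hj h]
      exact zero_mem _
  | zero => simp
  | add x y _ _ hx hy => rw [map_add]; exact add_mem (hx d) (hy d)
  | smul c x _ hx =>
    induction c using piece_induction 𝒜 with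
    | h0 => simp
    | hadd a b ha hb => rw [add_smul, map_add]; exact add_mem ha hb
    | hp i a ha =>
      rw [cmp_smul_homog_left 𝒜 ℳ d ha]
      exact Submodule.smul_mem _ _ (hx _)

end Module

section GrHom

variable {R : Type u} [CommRing R]
  {M N : Type u} [AddCommGroup M] [Module R M] [AddCommGroup N] [Module R N]
  {τ τ' : Type u} [SetLike τ M] [AddSubgroupClass τ M] [SetLike τ' N] [AddSubgroupClass τ' N]
  (ℳ : ℤ → τ) [Decomposition ℳ] (𝒩 : ℤ → τ') [Decomposition 𝒩]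

theorem map_cmp {f : M →ₗ[R] N} (hf : GrLC.IsGrHom ℳ 𝒩 f) (d : ℤ) (m : M) :
    f (cmp ℳ d m) = cmp 𝒩 d (f m) := by
  induction m using piece_induction ℳ with
  | h0 => simp
  | hadd x y hx hy => simp [hx, hy]
  | hp j x hx =>
    rcases eq_or_ne j d with h | h
    · subst h
      rw [cmp_of_mem ℳ hx, cmp_of_mem 𝒩 (hf _ _ hx)]
    · rw [cmp_of_ne ℳ hx h, cmp_of_ne 𝒩 (hf _ _ hx) h, map_zero]

theorem cmp_mem_ker {f : M →ₗ[R] N} (hf : GrLC.IsGrHom ℳ 𝒩 f) {m : M}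
    (hm : m ∈ LinearMap.ker f) (d : ℤ) : cmp ℳ d m ∈ LinearMap.ker f := by
  rw [LinearMap.mem_ker] at hm ⊢
  rw [map_cmp ℳ 𝒩 hf, hm, map_zero]

theorem cmp_mem_range {f : M →ₗ[R] N} (hf : GrLC.IsGrHom ℳ 𝒩 f) {y : N}
    (hy : y ∈ LinearMap.range f) (d : ℤ) : cmp 𝒩 d y ∈ LinearMap.range f := by
  obtain ⟨x, rfl⟩ := hy
  exact ⟨cmp ℳ d x, map_cmp ℳ 𝒩 hf d x⟩

theorem exists_homog_preimage {f : M →ₗ[R] N} (hf : GrLC.IsGrHom ℳ 𝒩 f) {y : N} {d : ℤ}
    (hy : y ∈ LinearMap.range f) (hd : y ∈ 𝒩 d) : ∃ x ∈ ℳ d, f x = y := by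
  obtain ⟨x, rfl⟩ := hy
  exact ⟨cmp ℳ d x, cmp_mem ℳ d x, by rw [map_cmp ℳ 𝒩 hf, cmp_of_mem 𝒩 hd]⟩

end GrHom

end Groth.Agent.GrSyz54
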