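import Groth.Prelude.Def_GrSyz
import Groth.Agent.GrSyz54.Basic
import Mathlib.RingTheory.MvPolynomial.Basic
import Mathlib.RingTheory.Polynomial.Basic
import Mathlib.RingTheory.MvPolynomial.Homogeneous
import Mathlib.RingTheory.MvPolynomial.Ideal
import Mathlib.LinearAlgebra.InvariantBasisNumber
import Mathlib.LinearAlgebra.FreeModule.StrongRankCondition
import Mathlib.LinearAlgebra.Dimension.StrongRankCondition
import Mathlib.Algebra.Order.Antidiag.FinsuppEquiv
import Mathlib.LinearAlgebra.Dimension.Finite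

/-!
Facts about the standard grading of a polynomial ring.
-/

universe u v

open MvPolynomial

namespace Groth.Agent.GrSyz54

variable {k : Type u} [CommRing k] {σ : Type v}

theorem weight_one_eq (d : σ →₀ ℕ) : Finsupp.weight (fun _ : σ => (1 : ℤ)) d = (d.degree : ℤ) := by
  simp [Finsupp.weight_apply, Finsupp.sum, Finsupp.degree_apply]

theorem mem_stdGr {n : ℤ} {p : MvPolynomial σ k} :
    p ∈ GrSyz.stdGr k σ n ↔ ∀ d : σ →₀ ℕ, coeff d p ≠ 0 → (d.degree : ℤ) = n := by
  rw [GrSyz.mem_stdGr_iff]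
  constructor
  · intro h d hd
    rw [← weight_one_eq]
    exact h hd
  · intro h d hd
    rw [weight_one_eq]
    exact h d hd

theorem stdGr_natCast (n : ℕ) : GrSyz.stdGr k σ (n : ℤ) = homogeneousSubmodule σ k n := by
  ext p
  rw [mem_stdGr, mem_homogeneousSubmodule]
  constructor
  · intro h d hd
    have := h d hd
    simp [Finsupp.degree_eq_weight_one] at this ⊢
    exact this
  · intro h d hd
    have := h hd
    simp [Finsupp.degree_eq_weight_one] at this ⊢
    exact this

theorem stdGr_neg {n : ℤ} (hn : n < 0) : GrSyz.stdGr k σ n = ⊥ := by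
  rw [eq_bot_iff]
  intro p hp
  rw [Submodule.mem_bot]
  ext d
  rw [coeff_zero]
  by_contra h
  have := mem_stdGr.1 hp d h
  omega

theorem C_mem_stdGr (c : k) : (C c : MvPolynomial σ k) ∈ GrSyz.stdGr k σ 0 := by
  classical
  rw [mem_stdGr]
  intro d hd
  rw [coeff_C] at hd
  split_ifs at hd with h
  · subst h; simp
  · exact absurd rfl hd

theorem X_mem_stdGr (i : σ) : (X i : MvPolynomial σ k) ∈ GrSyz.stdGr k σ 1 := by
  classical
  rw [mem_stdGr]
  intro d hd
  rw [coeff_X'] at hd
  split_ifs at hd with h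
  · subst h; simp
  · exact absurd rfl hd

theorem one_mem_stdGr : (1 : MvPolynomial σ k) ∈ GrSyz.stdGr k σ 0 := by
  simpa using C_mem_stdGr (σ := σ) (1 : k)

theorem cmp_stdGr_eq (n : ℤ) (p : MvPolynomial σ k) :
    cmp (GrSyz.stdGr k σ) n p = weightedHomogeneousComponent (fun _ : σ => (1 : ℤ)) n p :=
  MvPolynomial.decompose'_apply k (fun _ : σ => (1 : ℤ)) p n

theorem coeff_cmp (n : ℤ) (p : MvPolynomial σ k) (d : σ →₀ ℕ) :
    coeff d (cmp (GrSyz.stdGr k σ) n p) = if (d.degree : ℤ) = n then coeff d p else 0 := by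
  rw [cmp_stdGr_eq, coeff_weightedHomogeneousComponent, weight_one_eq]

theorem cmp_zero_eq (p : MvPolynomial σ k) :
    cmp (GrSyz.stdGr k σ) 0 p = C (constantCoeff p) := by
  classical
  ext d
  rw [coeff_cmp, coeff_C, constantCoeff_eq]
  have key : (d.degree : ℤ) = 0 ↔ 0 = d := by
    rw [Int.natCast_eq_zero, Finsupp.degree_eq_zero_iff, eq_comm]
  simp only [key]
  split_ifs with h
  · subst h; rfl
  · rfl

theorem stdGr_zero_eq {p : MvPolynomial σ k} (hp : p ∈ GrSyz.stdGr k σ 0) :
    p = C (constantCoeff p) := by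
  rw [← cmp_zero_eq, cmp_of_mem _ hp]

theorem constantCoeff_eq_zero_of_mem {n : ℤ} (hn : n ≠ 0) {p : MvPolynomial σ k}
    (hp : p ∈ GrSyz.stdGr k σ n) : constantCoeff p = 0 := by
  rw [constantCoeff_eq]
  by_contra h
  have := mem_stdGr.1 hp 0 h
  simp only [map_zero, Nat.cast_zero] at this
  exact hn this.symm

theorem mem_irrel {p : MvPolynomial σ k} :
    p ∈ (GrSyz.irrel (GrSyz.stdGr k σ)).toIdeal ↔ constantCoeff p = 0 := by
  constructor
  · intro hp
    have : (GrSyz.irrel (GrSyz.stdGr k σ)).toIdeal ≤ RingHom.ker constantCoeff := by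
      change Ideal.span _ ≤ _
      rw [Ideal.span_le]
      rintro x ⟨n, hn, hx⟩
      exact constantCoeff_eq_zero_of_mem hn.ne' hx
    exact this hp
  · intro hp
    obtain ⟨t, ht⟩ := exists_sum_cmp (GrSyz.stdGr k σ) p
    rw [← ht]
    refine sum_mem fun n _ => ?_
    rcases lt_trichotomy n 0 with h | h | h
    · have := cmp_mem (GrSyz.stdGr k σ) n p
      rw [stdGr_neg h, Submodule.mem_bot] at this
      rw [this]
      exact zero_mem _
    · subst h
      rw [cmp_zero_eq, hp, map_zero]
      exact zero_mem _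
    · exact Ideal.subset_span ⟨n, h, cmp_mem _ n p⟩

theorem irrel_eq_ker :
    (GrSyz.irrel (GrSyz.stdGr k σ)).toIdeal = RingHom.ker (constantCoeff : MvPolynomial σ k →+* k) := by
  ext p
  rw [mem_irrel, RingHom.mem_ker]

theorem irrel_eq_span_X :
    (GrSyz.irrel (GrSyz.stdGr k σ)).toIdeal = Ideal.span (Set.range (X : σ → MvPolynomial σ k)) := by
  ext p
  rw [mem_irrel, ← pow_one (Ideal.span _), show Ideal.span (Set.range X) = idealOfVars σ k from rfl,
    mem_pow_idealOfVars_iff']
  constructor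
  · intro h x hx
    have : x = 0 := (Finsupp.degree_eq_zero_iff x).1 (by omega)
    rw [this, ← constantCoeff_eq, h]
  · intro h
    rw [constantCoeff_eq]
    exact h 0 (by simp)

theorem stdGr_eq_supported (n : ℕ) :
    GrSyz.stdGr k σ (n : ℤ) = restrictSupport k {d : σ →₀ ℕ | d.degree = n} := by
  ext p
  rw [mem_stdGr, mem_restrictSupport_iff, Set.subset_def]
  simp

instance finite_stdGr [Finite σ] (n : ℤ) : Module.Finite k (GrSyz.stdGr k σ n) := by
  rcases lt_or_ge n 0 with h | h
  · rw [stdGr_neg h]; infer_instance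
  · obtain ⟨m, rfl⟩ := Int.eq_ofNat_of_zero_le h
    rw [stdGr_eq_supported]
    have : Finite {d : σ →₀ ℕ | d.degree = m} := by
      refine (Set.Finite.subset (Finsupp.finite_of_degree_le m) ?_).to_subtype
      intro d hd
      exact le_of_eq hd
    exact Module.Finite.of_basis (basisRestrictSupport k _)

theorem card_degree_eq [Fintype σ] [DecidableEq σ] (n : ℕ) :
    Nat.card {d : σ →₀ ℕ | d.degree = n} = (Fintype.card σ + n - 1).choose n := by
  rw [← Finset.card_univ, ← Finset.card_finsuppAntidiag_nat_eq_choose (s := (Finset.univ : Finset σ)) n,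
    ← Nat.card_eq_finsetCard]
  refine Nat.card_congr (Equiv.subtypeEquivRight fun d => ?_)
  simp [Finsupp.degree_eq_sum]

theorem finrank_stdGr [Fintype σ] [Nontrivial k] (n : ℕ) :
    Module.finrank k (GrSyz.stdGr k σ (n : ℤ)) = (Fintype.card σ + n - 1).choose n := by
  classical
  rw [stdGr_eq_supported, Module.finrank_eq_nat_card_basis (basisRestrictSupport k _),
    card_degree_eq]

theorem finrank_stdGr_fin {r : ℕ} [Nontrivial k] (d : ℤ) :
    Module.finrank k (GrSyz.stdGr k (Fin (r + 1)) d) =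
      if 0 ≤ d then (r + d.toNat).choose r else 0 := by
  split_ifs with h
  · obtain ⟨m, rfl⟩ := Int.eq_ofNat_of_zero_le h
    rw [finrank_stdGr, Int.toNat_natCast, Fintype.card_fin,
      show r + 1 + m - 1 = r + m by omega]
    exact (Nat.choose_symm_add).symm
  · rw [stdGr_neg (lt_of_not_ge h)]
    exact finrank_bot k _

end Groth.Agent.GrSyz54
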