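import Groth.Agent.GrSyz54.LCReg
import Groth.Agent.LC17.IDepth

/-!
The formula relating the length of a minimal free resolution and the depth at the origin.
-/

universe u

open MvPolynomial
open scoped Pointwise

namespace Groth.Agent.GrSyz54

variable {k : Type u} [Field k] {n : ℕ}

set_option quotPrecheck false in
local notation "𝔪" => (GrSyz.irrel (GrSyz.stdGr k (Fin n))).toIdeal

theorem subsingleton_H_quot_varSub {β : Type} [Finite β] (j : ℕ) :
    ∀ m : ℕ, m + j = n → ∀ i, i < j → Subsingleton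
      (LocCoh.H 𝔪 i ((β → MvPolynomial (Fin n) k) ⧸ varSub k n β m)) := by
  induction j with
  | zero => intro m _ i hi; omega
  | succ j ih =>
    intro m hm i hi
    let x : Fin n := ⟨m, by omega⟩
    have hreg := isSMulRegular_quot_varSub (k := k) (β := β) x
    have hX : (X x : MvPolynomial (Fin n) k) ∈ 𝔪 := by rw [mem_irrel]; simp
    cases i with
    | zero =>
      exact (LC15.subsingleton_H0_iff 𝔪 _).2 (LC17.gamma_eq_bot_of_regular hX hreg)
    | succ i =>
      refine LC17.subsingleton_H_of_quot 𝔪 hX hreg i ?_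
      have := ih (m + 1) (by omega) i (by omega)
      let e := (Submodule.quotEquivOfEq _ _ ((range_smul_id_eq (X x : MvPolynomial (Fin n) k)).symm.trans
        (ker_factor_varSub (k := k) (β := β) x).symm)).trans
          (LinearMap.quotKerEquivOfSurjective _ (Submodule.factor_surjective (varSub_le_succ x)))
      exact (LC15.Hequiv 𝔪 i e).toEquiv.subsingleton

theorem subsingleton_H_free {β : Type} [Finite β] {i : ℕ} (hi : i < n) :
    Subsingleton (LocCoh.H 𝔪 i (β → MvPolynomial (Fin n) k)) := by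
  have h0 : varSub k n β 0 = ⊥ := by
    refine (Submodule.eq_bot_iff _).2 fun v hv => funext fun b => ?_
    have := mem_varSub.1 hv b
    simpa [varIdeal] using this
  have := subsingleton_H_quot_varSub (k := k) (β := β) n 0 (zero_add n) i hi
  exact (LC15.Hequiv 𝔪 i (Submodule.quotEquivOfEqBot _ h0)).toEquiv.symm.subsingleton

/-- Short resolutions force vanishing of low local cohomology. -/
theorem subsingleton_H_of_length (L : ℕ) :
    ∀ (C : FC (MvPolynomial (Fin n) k)) {M : Type u} [AddCommGroup M]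
      [Module (MvPolynomial (Fin n) k) M]
      (ε : (C.ι 0 → MvPolynomial (Fin n) k) →ₗ[MvPolynomial (Fin n) k] M),
      C.IsRes ε → (∀ i, L ≤ i → IsEmpty (C.ι i)) → ∀ i, i + L ≤ n →
        Subsingleton (LocCoh.H 𝔪 i M) := by
  induction L with
  | zero =>
    intro C M _ _ ε hC hL i _
    have := hL 0 le_rfl
    have : Subsingleton M := hC.surj.subsingleton
    exact LC15.subsingleton_H_of_subsingleton 𝔪 i
  | succ L ih =>
    intro C M _ _ ε hC hL i hi
    exact LC15.subsingleton_H_right 𝔪 i (LinearMap.ker ε).injective_subtype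
      (LinearMap.exact_subtype_ker_map ε) hC.surj (subsingleton_H_free (by omega))
      (ih C.tail _ (FC.tail_isRes hC) (fun j hj => hL (j + 1) (by omega)) (i + 1) (by omega))

/-- A long minimal resolution bounds the depth from above. -/
theorem add_le_of_minimal (j : ℕ) :
    ∀ (C : FC (MvPolynomial (Fin n) k)) {M : Type u} [AddCommGroup M]
      [Module (MvPolynomial (Fin n) k) M]
      (ε : (C.ι 0 → MvPolynomial (Fin n) k) →ₗ[MvPolynomial (Fin n) k] M),
      C.IsRes ε → (∀ i, C.MinAt 𝔪 i) → ∀ ℓ, Nonempty (C.ι ℓ) →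
        (∀ i, i < j → Subsingleton (LocCoh.H 𝔪 i M)) → j + ℓ ≤ n := by
  induction j with
  | zero =>
    intro C M _ _ ε hC hmin ℓ hne _
    rw [zero_add]
    by_contra h
    obtain ⟨m, rfl⟩ := Nat.exists_eq_add_one_of_ne_zero (n := ℓ) (by omega)
    have := FC.isEmpty_of_minimal n m (by omega) C hC.exact_succ
      (irrel_eq_ker (k := k) (σ := Fin n) ▸ hmin m) (irrel_eq_ker (k := k) (σ := Fin n) ▸ hmin (m + 1))
    exact this.false hne.some
  | succ j ih =>
    intro C M _ _ ε hC hmin ℓ hne hH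
    have : Finite (C.ι 0) := C.fin 0
    have : Module.Finite (MvPolynomial (Fin n) k) M := Module.Finite.of_surjective ε hC.surj
    obtain ⟨x, hxI, hx⟩ := LC17.exists_isSMulRegular_mem (M := M)
      ((LC15.subsingleton_H0_iff 𝔪 M).1 (hH 0 j.succ_pos))
    let φ : ∀ i, (C.ι i → MvPolynomial (Fin n) k) →ₗ[MvPolynomial (Fin n) k]
        (C.ι i → MvPolynomial (Fin n) k) := fun i => x • LinearMap.id
    have hres := FC.cone_isRes hC hC φ (LinearMap.lsmul _ M x) (x • (⊤ : Submodule _ M)).mkQ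
      (LC17.regular_ses hx).1 (Submodule.mkQ_surjective _)
      (LinearMap.exact_iff.1 (LC17.regular_ses hx).2).symm
      (fun v => map_smul ε x v) (fun i v => map_smul (C.d i) x v)
    have hne' : Nonempty ((FC.cone C C φ).ι (ℓ + 1)) := ⟨Sum.inl hne.some⟩
    have key := ih (FC.cone C C φ) _ hres (fun i v a => ?_) (ℓ + 1) hne'
      fun i hi => LC17.subsingleton_H_quot 𝔪 hx i (hH i (by omega)) (hH (i + 1) (by omega))
    · omega
    · cases i with
      | zero =>
        rw [FC.cone_d_zero, Pi.add_apply]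
        exact add_mem (Ideal.mul_mem_right _ _ hxI) (hmin 0 _ a)
      | succ i =>
        rw [FC.cone_d_succ]
        rcases a with a | a
        · exact neg_mem (hmin i _ a)
        · exact add_mem (Ideal.mul_mem_right _ _ hxI) (hmin (i + 1) _ a)

theorem natCast_le_idealDepth_iff_of_res {C : FC (MvPolynomial (Fin n) k)} {M : Type u}
    [AddCommGroup M] [Module (MvPolynomial (Fin n) k) M]
    {ε : (C.ι 0 → MvPolynomial (Fin n) k) →ₗ[MvPolynomial (Fin n) k] M} (hC : C.IsRes ε)
    (hmin : ∀ i, C.MinAt 𝔪 i) {ℓ : ℕ} (hℓ : ∀ i, ℓ < i → IsEmpty (C.ι i)) (hne : Nonempty (C.ι ℓ))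
    (j : ℕ) : (j : ℕ∞) ≤ LocCoh.idealDepth 𝔪 M ↔ j + ℓ ≤ n := by
  have : Finite (C.ι 0) := C.fin 0
  have : Module.Finite (MvPolynomial (Fin n) k) M := Module.Finite.of_surjective ε hC.surj
  rw [LC17.natCast_le_idealDepth_iff]
  exact ⟨add_le_of_minimal j C ε hC hmin ℓ hne,
    fun h i hi => subsingleton_H_of_length (ℓ + 1) C ε hC (fun l hl => hℓ l (by omega)) i (by omega)⟩

theorem length_add_idealDepth {C : FC (MvPolynomial (Fin n) k)} {M : Type u}
    [AddCommGroup M] [Module (MvPolynomial (Fin n) k) M]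
    {ε : (C.ι 0 → MvPolynomial (Fin n) k) →ₗ[MvPolynomial (Fin n) k] M} (hC : C.IsRes ε)
    (hmin : ∀ i, C.MinAt 𝔪 i) {ℓ : ℕ} (hℓ : ∀ i, ℓ < i → IsEmpty (C.ι i)) (hne : Nonempty (C.ι ℓ)) :
    (ℓ : ℕ∞) + LocCoh.idealDepth 𝔪 M = (n : ℕ∞) := by
  have h := natCast_le_idealDepth_iff_of_res hC hmin hℓ hne
  have hℓn : ℓ ≤ n := by simpa using (h 0).1 (by simp)
  have : LocCoh.idealDepth 𝔪 M = ((n - ℓ : ℕ) : ℕ∞) := by
    refine le_antisymm (ENat.forall_natCast_le_iff_le.mp fun j hj => ?_) ((h _).2 (by omega))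
    have := (h j).1 hj
    exact_mod_cast (show j ≤ n - ℓ by omega)
  rw [this, ← Nat.cast_add]
  congr 1
  omega

end Groth.Agent.GrSyz54
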