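import Groth.Agent.CechComp71.Scheme

/-!
Vanishing of cohomology when some member of an acyclic cover sees all sections.
-/

set_option autoImplicit false

universe u

open CategoryTheory Limits AlgebraicGeometry TopologicalSpace Opposite

set_option maxSynthPendingDepth 6

namespace Groth.Agent.GrSyz54

open Coh69

/-- If restriction to `U o` is bijective on all intersections, every positive degree cocycle is a boundary. -/
theorem exists_cd_eq_of_cone {X : TopCat.{u}} {ι : Type u} (U : ι → Opens X) (P : (Opens X)ᵒᵖ ⥤ AddCommGrpCat.{u})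
    (o : ι) (hbij : ∀ (n : ℕ) (i : Fin (n + 1) → ι), Function.Bijective (res P (cOpen_cons_le U o i)))
    (p : ℕ) (z : Cochain U P (p + 1)) (hz : cd U P (p + 1) z = 0) : ∃ b, cd U P p b = z := by
  classical
  choose b hb using fun i : Fin (p + 1) → ι => (hbij p i).2 (z (Fin.cons o i))
  refine ⟨b, funext fun k => (hbij (p + 1) k).1 ?_⟩
  have h0 := congrFun hz (Fin.cons o k)
  rw [cd_apply, Pi.zero_apply, Fin.sum_univ_succ, Fin.val_zero, pow_zero, one_smul] at h0
  have e0 : (Fin.cons o k : Fin (p + 3) → ι) ∘ (0 : Fin (p + 3)).succAbove = k := by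
    funext a
    simp
  have hj : ∀ j : Fin (p + 2), (Fin.cons o k : Fin (p + 3) → ι) ∘ j.succ.succAbove =
      Fin.cons o (k ∘ j.succAbove) := by
    intro j
    funext a
    induction a using Fin.cases with
    | zero => simp
    | succ a => simp
  rw [cochain_congr U P z e0] at h0
  have hsum : ∀ j : Fin (p + 2),
      res P (cOpen_comp_le U (Fin.cons o k) j.succ.succAbove) (z ((Fin.cons o k : Fin (p + 3) → ι) ∘ j.succ.succAbove)) =
        res P (cOpen_cons_le U o k) (res P (cOpen_comp_le U k j.succAbove) (b (k ∘ j.succAbove))) := by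
    intro j
    rw [cochain_congr U P z (hj j), ← hb, res_res, res_res]
  simp only [hsum, Fin.val_succ, pow_succ, mul_neg, mul_one, neg_smul] at h0
  rw [Finset.sum_neg_distrib, ← sub_eq_add_neg, sub_eq_zero] at h0
  rw [cd_apply, map_sum]
  exact (Finset.sum_congr rfl fun j _ => map_zsmul _ _ _).trans h0.symm

theorem subsingleton_hh_of_cone {X : Scheme.{u}} {ι : Type u} (U : ι → X.Opens) (hU : ⨆ i, U i = ⊤)
    (M : X.Modules) (hac : CechComp71.AcyclicOn U (Coh.toAb M)) (o : ι)
    (hbij : ∀ (n : ℕ) (i : Fin (n + 1) → ι), Function.Bijective (res M.presheaf (cOpen_cons_le U o i)))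
    (p : ℕ) : Subsingleton (Coh.HH X M (p + 1)) := by
  refine subsingleton_of_forall_eq 0 fun x => ?_
  obtain ⟨z, rfl⟩ := CechComp71.toHH_surjective hU hac (p + 1) x
  exact (CechComp71.toHH_eq_zero_iff hU hac p z).2 (exists_cd_eq_of_cone U M.presheaf o hbij p z.1 z.2)

end Groth.Agent.GrSyz54
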