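import Groth.Agent.GrSyz54.LCReg

/-!
Cyclic graded modules of finite length.
-/

universe u

open DirectSum MvPolynomial

namespace Groth.Agent.GrSyz54

variable {k : Type u} [Field k] {n : ℕ}

theorem irrel_smul_eq {V : Type u} [AddCommGroup V] [Module k V]
    [Module (MvPolynomial (Fin n) k) V] [IsScalarTower k (MvPolynomial (Fin n) k) V]
    (h : ∀ r ∈ (GrSyz.irrel (GrSyz.stdGr k (Fin n))).toIdeal, ∀ x : V, r • x = 0)
    (f : MvPolynomial (Fin n) k) (x : V) : f • x = constantCoeff f • x := by
  have := h (f - C (constantCoeff f)) (by rw [mem_irrel]; simp) x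
  rwa [sub_smul, sub_eq_zero, ← algebraMap_eq, algebraMap_smul] at this

theorem length_eq_of_pow_smul (m : ℕ) :
    ∀ (V : Type u) [AddCommGroup V] [Module k V] [Module (MvPolynomial (Fin n) k) V]
      [IsScalarTower k (MvPolynomial (Fin n) k) V],
      (∀ r ∈ (GrSyz.irrel (GrSyz.stdGr k (Fin n))).toIdeal ^ m, ∀ x : V, r • x = 0) →
      Module.length (MvPolynomial (Fin n) k) V = Module.length k V := by
  induction m with
  | zero =>
    intro V _ _ _ _ h
    have : Subsingleton V := subsingleton_of_forall_eq 0 fun x => by simpa using h 1 (by simp) x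
    simp
  | succ m ih =>
    intro V _ _ _ _ h
    set I := (GrSyz.irrel (GrSyz.stdGr k (Fin n))).toIdeal with hI
    let W : Submodule (MvPolynomial (Fin n) k) V := I • ⊤
    have hW : ∀ r ∈ I ^ m, ∀ x : W, r • x = 0 := by
      intro r hr x
      refine Subtype.ext ?_
      rw [Submodule.coe_smul, Submodule.coe_zero]
      refine Submodule.smul_induction_on x.2 (fun s hs y _ => ?_) fun a b ha hb => by
        rw [smul_add, ha, hb, add_zero]
      rw [smul_smul]
      exact h _ (by rw [pow_succ]; exact Ideal.mul_mem_mul hr hs) y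
    have hQ : ∀ r ∈ I, ∀ x : V ⧸ W, r • x = 0 := by
      intro r hr x
      obtain ⟨y, rfl⟩ := W.mkQ_surjective x
      rw [← map_smul]
      exact (Submodule.Quotient.mk_eq_zero _).2 (Submodule.smul_mem_smul hr trivial)
    have hQlen : Module.length (MvPolynomial (Fin n) k) (V ⧸ W) = Module.length k (V ⧸ W) := by
      rw [← WithBot.coe_inj, Module.coe_length, Module.coe_length]
      exact Order.krullDim_eq_of_orderIso
        { toFun := fun P => P.restrictScalars k
          invFun := fun P =>
            { carrier := P
              add_mem' := P.add_mem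
              zero_mem' := P.zero_mem
              smul_mem' := fun f x hx => by
                rw [SetLike.mem_coe, irrel_smul_eq hQ f x]
                exact P.smul_mem _ hx }
          left_inv := fun P => rfl
          right_inv := fun P => rfl
          map_rel_iff' := Iff.rfl }
    rw [Module.length_eq_add_of_exact W.subtype W.mkQ W.subtype_injective W.mkQ_surjective
        (LinearMap.exact_subtype_mkQ W),
      Module.length_eq_add_of_exact (W.subtype.restrictScalars k) (W.mkQ.restrictScalars k)
        W.subtype_injective W.mkQ_surjective (LinearMap.exact_subtype_mkQ W),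
      ih W hW, hQlen]

theorem finrank_sum_le {V : Type u} [AddCommGroup V] [Module k V] [Module.Finite k V]
    (𝒱 : ℤ → Submodule k V) [Decomposition 𝒱] (s : Finset ℤ) :
    ∑ d ∈ s, Module.finrank k (𝒱 d) ≤ Module.finrank k V := by
  classical
  let φ : (Π i : s, 𝒱 i.1) →ₗ[k] V := ∑ i : s, (𝒱 i.1).subtype.comp (LinearMap.proj i)
  have hφ : Function.Injective φ := by
    rw [injective_iff_map_eq_zero]
    intro x hx
    funext j
    refine Subtype.ext ?_
    have h := congrArg (cmp 𝒱 j.1) hx
    rw [LinearMap.sum_apply, map_sum, map_zero, Finset.sum_eq_single j] at h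
    · rwa [LinearMap.comp_apply, Submodule.subtype_apply, LinearMap.proj_apply,
        cmp_of_mem 𝒱 (x j).2] at h
    · intro i _ hij
      exact cmp_of_ne 𝒱 (x i).2 fun e => hij (Subtype.ext e)
    · simp
  have := LinearMap.finrank_le_finrank_of_injective hφ
  rwa [Module.finrank_pi_fintype, Finset.sum_coe_sort s fun d => Module.finrank k (𝒱 d)] at this

/-- A standard graded ring without elements in some degree has none above. -/
theorem eq_zero_of_gap {N : Type u} [AddCommGroup N] [Module (MvPolynomial (Fin n) k) N]
    {τ : MvPolynomial (Fin n) k →ₗ[MvPolynomial (Fin n) k] N} {d : ℕ}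
    (h : ∀ p ∈ GrSyz.stdGr k (Fin n) (d : ℤ), τ p = 0) :
    ∀ p ∈ GrSyz.stdGr k (Fin n) ((d + 1 : ℕ) : ℤ), τ p = 0 := by
  classical
  intro p hp
  rw [stdGr_eq_supported, mem_restrictSupport_iff] at hp
  rw [p.as_sum, map_sum]
  refine Finset.sum_eq_zero fun e he => ?_
  have hdeg : e.degree = d + 1 := hp he
  have hne : e ≠ 0 := by rintro rfl; simp at hdeg
  obtain ⟨i, hi⟩ := Finsupp.support_nonempty_iff.2 hne
  obtain ⟨e', rfl⟩ := exists_add_of_le (a := Finsupp.single i 1) (b := e) (by
    rw [Finsupp.single_le_iff]
    exact Nat.pos_of_ne_zero (Finsupp.mem_support_iff.1 hi))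
  rw [map_add, Finsupp.degree_single] at hdeg
  rw [show monomial (Finsupp.single i 1 + e') (coeff (Finsupp.single i 1 + e') p) =
      X i • monomial e' (coeff (Finsupp.single i 1 + e') p) by
    rw [smul_eq_mul, X, monomial_mul, one_mul], map_smul, h, smul_zero]
  rw [stdGr_eq_supported, mem_restrictSupport_iff]
  refine (Finset.coe_subset.2 support_monomial_subset).trans ?_
  simp only [Finset.coe_singleton, Set.singleton_subset_iff, Set.mem_ofPred_eq]
  omega

end Groth.Agent.GrSyz54
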