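import Mathlib.LinearAlgebra.Pi
import Mathlib.LinearAlgebra.Matrix.ToLin
import Mathlib.RingTheory.Ideal.Operations
import Mathlib.LinearAlgebra.StdBasis
import Mathlib.Algebra.MvPolynomial.Equiv
import Mathlib.Algebra.Polynomial.Div
import Mathlib.RingTheory.Ideal.Maps

/-!
Complexes of finite free modules: comparison maps, minimality, length, mapping cones.
-/

universe u v

namespace Groth.Agent.GrSyz54

/-- A sequence of maps between finite free modules. -/
structure FC (S : Type u) [CommRing S] where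
  ι : ℕ → Type
  fin : ∀ i, Finite (ι i)
  d : ∀ i, (ι (i + 1) → S) →ₗ[S] (ι i → S)

namespace FC

variable {S : Type u} [CommRing S]

instance (F : FC S) (i : ℕ) : Finite (F.ι i) := F.fin i

noncomputable instance (F : FC S) (i : ℕ) : Fintype (F.ι i) := Fintype.ofFinite _

variable (F : FC S)

/-- Exactness in every positive spot. -/
def IsExact : Prop := ∀ i, LinearMap.ker (F.d i) = LinearMap.range (F.d (i + 1))

/-- `ε` augments `F` to a resolution. -/
structure IsRes {M : Type v} [AddCommGroup M] [Module S M] (ε : (F.ι 0 → S) →ₗ[S] M) : Prop where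
  surj : Function.Surjective ε
  exact_zero : LinearMap.ker ε = LinearMap.range (F.d 0)
  exact_succ : F.IsExact

/-- The `i`-th map has all coordinates in `I`. -/
def MinAt (I : Ideal S) (i : ℕ) : Prop := ∀ v a, F.d i v a ∈ I

variable {F}

theorem IsExact.d_d (hF : F.IsExact) (i : ℕ) (v) : F.d i (F.d (i + 1) v) = 0 := by
  rw [← LinearMap.mem_ker, hF i]
  exact LinearMap.mem_range_self _ _

theorem IsExact.exists_of_ker (hF : F.IsExact) {i : ℕ} {v} (hv : F.d i v = 0) :
    ∃ u, F.d (i + 1) u = v := by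
  rwa [← LinearMap.mem_range, ← hF i, LinearMap.mem_ker]

theorem IsRes.aug_d {M : Type v} [AddCommGroup M] [Module S M] {ε : (F.ι 0 → S) →ₗ[S] M}
    (hF : F.IsRes ε) (v) : ε (F.d 0 v) = 0 := by
  rw [← LinearMap.mem_ker, hF.exact_zero]
  exact LinearMap.mem_range_self _ _

theorem IsRes.exists_of_ker {M : Type v} [AddCommGroup M] [Module S M]
    {ε : (F.ι 0 → S) →ₗ[S] M} (hF : F.IsRes ε) {v} (hv : ε v = 0) :
    ∃ u, F.d 0 u = v := by
  rwa [← LinearMap.mem_range, ← hF.exact_zero, LinearMap.mem_ker]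

end FC

variable {S : Type u} [CommRing S]

theorem exists_comp_eq {β : Type*} [Finite β] {M N : Type*} [AddCommGroup M] [Module S M]
    [AddCommGroup N] [Module S N] (g : (β → S) →ₗ[S] N) (f : M →ₗ[S] N)
    (h : ∀ v, g v ∈ LinearMap.range f) : ∃ h' : (β → S) →ₗ[S] M, ∀ v, f (h' v) = g v := by
  classical
  choose m hm using fun b => h (Pi.single b 1)
  refine ⟨(Pi.basisFun S β).constr S m, fun v => LinearMap.congr_fun
    ((Pi.basisFun S β).ext (f₁ := f.comp _) (f₂ := g) fun b => ?_) v⟩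
  simp [← Pi.basisFun_apply, hm]

theorem map_mem_of_coord_mem {β γ : Type*} [Finite β] {I : Ideal S}
    (h : (β → S) →ₗ[S] (γ → S)) {v : β → S} (hv : ∀ b, v b ∈ I) (c : γ) : h v c ∈ I := by
  classical
  have := Fintype.ofFinite β
  rw [pi_eq_sum_univ v, map_sum, Finset.sum_apply]
  refine sum_mem fun b _ => ?_
  rw [map_smul, Pi.smul_apply, smul_eq_mul]
  exact I.mul_mem_right _ (hv b)

theorem coord_mem_of_single {β γ : Type*} [Finite β] [DecidableEq β] {I : Ideal S}
    (h : (β → S) →ₗ[S] (γ → S)) (hs : ∀ b c, h (Pi.single b 1) c ∈ I) (v : β → S) (c : γ) :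
    h v c ∈ I := by
  have := Fintype.ofFinite β
  rw [pi_eq_sum_univ' v, map_sum, Finset.sum_apply]
  refine sum_mem fun b _ => ?_
  rw [map_smul, Pi.smul_apply, smul_eq_mul]
  exact I.mul_mem_left _ (hs b c)

namespace FC

/-- Chain maps lifting a map of modules, with an arbitrary property carried along. -/
theorem exists_lift_prop {C F : FC S} {M N : Type v} [AddCommGroup M] [Module S M]
    [AddCommGroup N] [Module S N] {εC : (C.ι 0 → S) →ₗ[S] M} {εF : (F.ι 0 → S) →ₗ[S] N}
    (hC0 : ∀ v, εC (C.d 0 v) = 0) (hC : ∀ i v, C.d i (C.d (i + 1) v) = 0) (hF : F.IsRes εF)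
    (f : M →ₗ[S] N) (P : ∀ i, ((C.ι i → S) →ₗ[S] (F.ι i → S)) → Prop)
    (h0 : ∃ φ, P 0 φ ∧ ∀ v, εF (φ v) = f (εC v))
    (hs : ∀ i φ, P i φ → (∀ v, φ (C.d i v) ∈ LinearMap.range (F.d i)) →
      ∃ φ', P (i + 1) φ' ∧ ∀ v, F.d i (φ' v) = φ (C.d i v)) :
    ∃ φ : ∀ i, (C.ι i → S) →ₗ[S] (F.ι i → S), (∀ i, P i (φ i)) ∧
      (∀ v, εF (φ 0 v) = f (εC v)) ∧ ∀ i v, F.d i (φ (i + 1) v) = φ i (C.d i v) := by
  choose φ₀ hφ₀ hε using h0
  choose next hnext hcomm using hs
  let T := fun i => {φ : (C.ι i → S) →ₗ[S] (F.ι i → S) //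
    P i φ ∧ ∀ v, φ (C.d i v) ∈ LinearMap.range (F.d i)}
  have t0 : ∀ v, φ₀ (C.d 0 v) ∈ LinearMap.range (F.d 0) := fun v => by
    rw [← hF.exact_zero, LinearMap.mem_ker, hε, hC0, map_zero]
  have tn : ∀ i (a : T i) v, next i a.1 a.2.1 a.2.2 (C.d (i + 1) v) ∈
      LinearMap.range (F.d (i + 1)) := fun i a v => by
    rw [← hF.exact_succ i, LinearMap.mem_ker, hcomm, hC, map_zero]
  let seq : ∀ i, T i := fun i => Nat.rec (motive := T) ⟨φ₀, hφ₀, t0⟩
    (fun i a => ⟨next i a.1 a.2.1 a.2.2, hnext _ _ _ _, tn i a⟩) i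
  exact ⟨fun i => (seq i).1, fun i => (seq i).2.1, hε,
    fun i v => hcomm i (seq i).1 (seq i).2.1 (seq i).2.2 v⟩

theorem exists_lift {C F : FC S} {M N : Type v} [AddCommGroup M] [Module S M]
    [AddCommGroup N] [Module S N] {εC : (C.ι 0 → S) →ₗ[S] M} {εF : (F.ι 0 → S) →ₗ[S] N}
    (hC0 : ∀ v, εC (C.d 0 v) = 0) (hC : ∀ i v, C.d i (C.d (i + 1) v) = 0) (hF : F.IsRes εF)
    (f : M →ₗ[S] N) :
    ∃ φ : ∀ i, (C.ι i → S) →ₗ[S] (F.ι i → S),
      (∀ v, εF (φ 0 v) = f (εC v)) ∧ ∀ i v, F.d i (φ (i + 1) v) = φ i (C.d i v) := by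
  obtain ⟨φ, -, h1, h2⟩ := exists_lift_prop hC0 hC hF f (fun _ _ => True)
    (by
      obtain ⟨φ, hφ⟩ := exists_comp_eq (f.comp εC) εF fun v => by
        rw [LinearMap.range_eq_top.2 hF.surj]; trivial
      exact ⟨φ, trivial, hφ⟩)
    (fun i φ _ hr => by
      obtain ⟨φ', hφ'⟩ := exists_comp_eq (φ.comp (C.d i)) (F.d i) hr
      exact ⟨φ', trivial, hφ'⟩)
  exact ⟨φ, h1, h2⟩

/-- A chain endomorphism of a minimal resolution lifting the identity is the identity modulo `I`. -/
theorem sub_mem_of_lifts_id {F : FC S} {M : Type v} [AddCommGroup M] [Module S M]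
    {ε : (F.ι 0 → S) →ₗ[S] M} (hF : F.IsRes ε) {I : Ideal S} (hI : ∀ i, F.MinAt I i)
    (θ : ∀ i, (F.ι i → S) →ₗ[S] (F.ι i → S)) (h0 : ∀ v, ε (θ 0 v) = ε v)
    (hc : ∀ i v, F.d i (θ (i + 1) v) = θ i (F.d i v)) (i : ℕ) (v : F.ι i → S) (a : F.ι i) :
    θ i v a - v a ∈ I := by
  obtain ⟨h₀, hh₀⟩ := exists_comp_eq (θ 0 - LinearMap.id) (F.d 0) fun v => by
    rw [← hF.exact_zero, LinearMap.mem_ker]
    simp [map_sub, h0]
  have Q : ∀ i, ∃ h : (F.ι i → S) →ₗ[S] (F.ι (i + 1) → S),
      ∀ v, F.d i (θ (i + 1) v - v - h (F.d i v)) = 0 := by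
    intro i
    induction i with
    | zero =>
      refine ⟨h₀, fun v => ?_⟩
      rw [map_sub, map_sub, hc, hh₀]
      simp
    | succ i ih =>
      obtain ⟨h, hh⟩ := ih
      obtain ⟨h', hh'⟩ := exists_comp_eq (θ (i + 1) - LinearMap.id - h.comp (F.d i)) (F.d (i + 1))
        fun v => by
          rw [← hF.exact_succ i, LinearMap.mem_ker]
          simpa using hh v
      refine ⟨h', fun v => ?_⟩
      rw [map_sub, map_sub, hc, hh']
      simp [hF.exact_succ.d_d]
  cases i with
  | zero =>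
    have := congr_fun (hh₀ v) a
    simp only [LinearMap.sub_apply, LinearMap.id_apply, Pi.sub_apply] at this
    rw [← this]
    exact hI 0 _ _
  | succ i =>
    obtain ⟨h, hh⟩ := Q i
    obtain ⟨u, hu⟩ := hF.exact_succ.exists_of_ker (hh v)
    have := congr_fun hu a
    simp only [Pi.sub_apply] at this
    have e : θ (i + 1) v a - v a = F.d (i + 1) u a + h (F.d i v) a := by rw [this]; ring
    rw [e]
    exact add_mem (hI _ _ _) (map_mem_of_coord_mem h (hI i v) a)

/-! Mapping cones -/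

/-- Index types of a mapping cone. -/
@[reducible] def coneι (K F : FC S) : ℕ → Type
  | 0 => F.ι 0
  | i + 1 => K.ι i ⊕ F.ι (i + 1)

/-- The differential of a mapping cone. -/
noncomputable def coneD (K F : FC S) (φ : ∀ i, (K.ι i → S) →ₗ[S] (F.ι i → S)) :
    ∀ i, (coneι K F (i + 1) → S) →ₗ[S] (coneι K F i → S)
  | 0 => (φ 0).comp (LinearMap.funLeft S S Sum.inl) + (F.d 0).comp (LinearMap.funLeft S S Sum.inr)
  | i + 1 => (LinearEquiv.sumArrowLequivProdArrow (K.ι i) (F.ι (i + 1)) S S).symm.toLinearMap.comp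
      ((-((K.d i).comp (LinearMap.funLeft S S Sum.inl))).prod
        ((φ (i + 1)).comp (LinearMap.funLeft S S Sum.inl) +
          (F.d (i + 1)).comp (LinearMap.funLeft S S Sum.inr)))

/-- The mapping cone of a chain map. -/
@[reducible] noncomputable def cone (K F : FC S) (φ : ∀ i, (K.ι i → S) →ₗ[S] (F.ι i → S)) : FC S where
  ι := coneι K F
  fin
    | 0 => F.fin 0
    | _ + 1 => inferInstanceAs (Finite (_ ⊕ _))
  d := coneD K F φ

theorem cone_d_zero (K F : FC S) (φ : ∀ i, (K.ι i → S) →ₗ[S] (F.ι i → S))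
    (w : K.ι 0 ⊕ F.ι 1 → S) :
    (cone K F φ).d 0 w = φ 0 (w ∘ Sum.inl) + F.d 0 (w ∘ Sum.inr) := rfl

theorem cone_d_succ (K F : FC S) (φ : ∀ i, (K.ι i → S) →ₗ[S] (F.ι i → S)) (i : ℕ)
    (w : K.ι (i + 1) ⊕ F.ι (i + 2) → S) :
    (cone K F φ).d (i + 1) w = Sum.elim (-(K.d i (w ∘ Sum.inl)))
      (φ (i + 1) (w ∘ Sum.inl) + F.d (i + 1) (w ∘ Sum.inr)) := rfl

theorem cone_isRes {K F : FC S} {M₁ M₂ M₃ : Type v} [AddCommGroup M₁] [Module S M₁]
    [AddCommGroup M₂] [Module S M₂] [AddCommGroup M₃] [Module S M₃]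
    {εK : (K.ι 0 → S) →ₗ[S] M₁} {εF : (F.ι 0 → S) →ₗ[S] M₂} (hK : K.IsRes εK) (hF : F.IsRes εF)
    (φ : ∀ i, (K.ι i → S) →ₗ[S] (F.ι i → S)) (f : M₁ →ₗ[S] M₂) (g : M₂ →ₗ[S] M₃)
    (hf : Function.Injective f) (hg : Function.Surjective g)
    (hfg : LinearMap.range f = LinearMap.ker g)
    (h0 : ∀ v, εF (φ 0 v) = f (εK v)) (hc : ∀ i v, F.d i (φ (i + 1) v) = φ i (K.d i v)) :
    (cone K F φ).IsRes (g.comp εF) := by
  have gf : ∀ x, g (f x) = 0 := fun x => by
    rw [← LinearMap.mem_ker, ← hfg]; exact LinearMap.mem_range_self _ _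
  refine ⟨hg.comp hF.surj, ?_, ?_⟩
  · refine le_antisymm (fun x hx => ?_) ?_
    · rw [LinearMap.mem_ker, LinearMap.comp_apply, ← LinearMap.mem_ker, ← hfg] at hx
      obtain ⟨m, hm⟩ := hx
      obtain ⟨u, rfl⟩ := hK.surj m
      obtain ⟨v, hv⟩ := hF.exists_of_ker (v := x - φ 0 u) (by rw [map_sub, h0, hm, sub_self])
      refine ⟨Sum.elim u v, ?_⟩
      rw [cone_d_zero, Sum.elim_comp_inl, Sum.elim_comp_inr, hv, add_sub_cancel]
    · rintro x ⟨w, rfl⟩
      rw [LinearMap.mem_ker, LinearMap.comp_apply, cone_d_zero, map_add, h0, hF.aug_d, add_zero, gf]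
  · intro i
    cases i with
    | zero =>
      refine le_antisymm (fun w hw => ?_) ?_
      · rw [LinearMap.mem_ker, cone_d_zero] at hw
        have h2 := congrArg εF hw
        rw [map_add, h0, hF.aug_d, add_zero, map_zero] at h2
        have hu : εK (w ∘ Sum.inl) = 0 := hf (by rw [h2, map_zero])
        obtain ⟨u, hu⟩ := hK.exists_of_ker hu
        have h3 : F.d 0 (φ 1 u + w ∘ Sum.inr) = 0 := by rw [map_add, hc, hu, hw]
        obtain ⟨v, hv⟩ := hF.exact_succ.exists_of_ker h3
        refine ⟨Sum.elim (-u) v, ?_⟩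
        rw [cone_d_succ, Sum.elim_comp_inl, Sum.elim_comp_inr, map_neg, map_neg, neg_neg, hu, hv,
          neg_add_cancel_left]
        exact Sum.elim_comp_inl_inr w
      · rintro x ⟨w, rfl⟩
        rw [LinearMap.mem_ker, cone_d_succ, cone_d_zero, Sum.elim_comp_inl, Sum.elim_comp_inr,
          map_neg, map_add, hc, hF.exact_succ.d_d, add_zero, neg_add_cancel]
    | succ i =>
      refine le_antisymm (fun w hw => ?_) ?_
      · rw [LinearMap.mem_ker, cone_d_succ] at hw
        have h1 : K.d i (w ∘ Sum.inl) = 0 :=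
          neg_eq_zero.1 (funext fun a => congr_fun hw (Sum.inl a))
        have h2 : φ (i + 1) (w ∘ Sum.inl) + F.d (i + 1) (w ∘ Sum.inr) = 0 :=
          funext fun a => congr_fun hw (Sum.inr a)
        obtain ⟨u, hu⟩ := hK.exact_succ.exists_of_ker h1
        have h3 : F.d (i + 1) (φ (i + 2) u + w ∘ Sum.inr) = 0 := by rw [map_add, hc, hu, h2]
        obtain ⟨v, hv⟩ := hF.exact_succ.exists_of_ker h3
        refine ⟨Sum.elim (-u) v, ?_⟩
        rw [cone_d_succ, Sum.elim_comp_inl, Sum.elim_comp_inr, map_neg, map_neg, neg_neg, hu, hv,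
          neg_add_cancel_left]
        exact Sum.elim_comp_inl_inr w
      · rintro x ⟨w, rfl⟩
        rw [LinearMap.mem_ker, cone_d_succ, cone_d_succ, Sum.elim_comp_inl, Sum.elim_comp_inr,
          map_neg, hK.exact_succ.d_d, map_neg, map_add, hc, hF.exact_succ.d_d, add_zero,
          neg_add_cancel, neg_zero, neg_zero]
        exact Sum.elim_zero_zero

/-! Length of minimal complexes over polynomial rings -/

section Length

open MvPolynomial

variable {k : Type u} [CommRing k]

/-- Setting the first variable to zero. -/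
noncomputable def killZero (n : ℕ) :
    MvPolynomial (Fin (n + 1)) k →+* MvPolynomial (Fin n) k :=
  (Polynomial.evalRingHom 0).comp (finSuccEquiv k n : _ ≃+* _).toRingHom

theorem killZero_surjective (n : ℕ) : Function.Surjective (killZero (k := k) n) := fun p =>
  ⟨(finSuccEquiv k n).symm (Polynomial.C p), by simp [killZero]⟩

theorem constantCoeff_killZero (n : ℕ) (p : MvPolynomial (Fin (n + 1)) k) :
    constantCoeff (killZero n p) = constantCoeff p := by
  refine RingHom.congr_fun (g := constantCoeff)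
    (f := constantCoeff.comp (killZero n)) (ringHom_ext (fun r => ?_) fun i => ?_) p
  · simp [killZero, finSuccEquiv_apply]
  · induction i using Fin.cases with
    | zero => simp [killZero, finSuccEquiv_X_zero]
    | succ j => simp [killZero, finSuccEquiv_X_succ]

theorem killZero_X_zero (n : ℕ) : killZero (k := k) n (X 0) = 0 := by
  simp [killZero, finSuccEquiv_X_zero]

theorem exists_of_killZero_eq_zero (n : ℕ) {p : MvPolynomial (Fin (n + 1)) k}
    (h : killZero n p = 0) : ∃ q, X 0 * q = p := by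
  have : Polynomial.X ∣ finSuccEquiv k n p := by
    rw [Polynomial.X_dvd_iff, Polynomial.coeff_zero_eq_eval_zero]
    simpa [killZero] using h
  obtain ⟨q, hq⟩ := this
  refine ⟨(finSuccEquiv k n).symm q, (finSuccEquiv k n).injective ?_⟩
  rw [map_mul, AlgEquiv.apply_symm_apply, finSuccEquiv_X_zero, hq]

theorem X_zero_cancel (n : ℕ) {p : MvPolynomial (Fin (n + 1)) k} (h : X 0 * p = 0) : p = 0 := by
  apply (finSuccEquiv k n).injective
  have := congrArg (finSuccEquiv k n) h
  rw [map_mul, map_zero, finSuccEquiv_X_zero] at this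
  rw [map_zero]
  refine Polynomial.ext fun j => ?_
  simpa [Polynomial.coeff_X_mul] using congrArg (fun q => Polynomial.coeff q (j + 1)) this

/-- In an exact complex of finite free modules over `k[x_1..x_n]` whose `m`th and `(m+1)`st maps
vanish at the origin, `n ≤ m`, the `(m+1)`st term is zero. -/
theorem isEmpty_of_minimal [Nontrivial k] : ∀ (n m : ℕ), n ≤ m →
    ∀ F : FC (MvPolynomial (Fin n) k), F.IsExact → F.MinAt (RingHom.ker constantCoeff) m →
    F.MinAt (RingHom.ker constantCoeff) (m + 1) → IsEmpty (F.ι (m + 1))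
  | 0, m, _, F, hF, h0, h1 => by
    have e : ∀ p : MvPolynomial (Fin 0) k, p ∈ RingHom.ker constantCoeff → p = 0 := fun p hp => by
      rw [eq_C_of_isEmpty p]
      rw [RingHom.mem_ker, constantCoeff_eq] at hp
      rw [hp, map_zero]
    constructor
    intro b
    classical
    obtain ⟨u, hu⟩ := hF.exists_of_ker (i := m) (v := Pi.single b (1 : MvPolynomial (Fin 0) k))
      (funext fun a => e _ (h0 _ a))
    have := congr_fun hu b
    rw [e _ (h1 u b), Pi.single_eq_same] at this
    exact zero_ne_one this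
  | n + 1, 0, hnm, _, _, _, _ => absurd hnm (Nat.not_succ_le_zero n)
  | n + 1, m + 1, hnm, F, hF, h0, h1 => by
    classical
    let π := killZero (k := k) n
    let G : FC (MvPolynomial (Fin n) k) :=
      { ι := fun i => F.ι (i + 1)
        fin := fun i => F.fin (i + 1)
        d := fun i => Matrix.mulVecLin ((LinearMap.toMatrix' (F.d (i + 1))).map π) }
    have key : ∀ i (v : F.ι (i + 2) → MvPolynomial (Fin (n + 1)) k) a,
        G.d i (π ∘ v) a = π (F.d (i + 1) v a) := by
      intro i v a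
      rw [← LinearMap.toMatrix'_mulVec (F.d (i + 1)) v]
      exact (π.map_mulVec _ _ _).symm
    have lift : ∀ {β : Type} (w : β → MvPolynomial (Fin n) k), ∃ v, π ∘ v = w := fun w => by
      choose v hv using fun b => killZero_surjective n (w b)
      exact ⟨v, funext hv⟩
    have hG : G.IsExact := by
      intro i
      refine le_antisymm (fun w hw => ?_) ?_
      · obtain ⟨v, rfl⟩ := lift w
        rw [LinearMap.mem_ker] at hw
        have hd : ∀ a, π (F.d (i + 1) v a) = 0 := fun a => by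
          rw [← key, hw]; rfl
        choose q hq using fun a => exists_of_killZero_eq_zero n (hd a)
        have hq' : (X 0 : MvPolynomial (Fin (n + 1)) k) • q = F.d (i + 1) v := funext hq
        have hdq : F.d i q = 0 := funext fun a => X_zero_cancel n (by
          have := congr_fun (hF.d_d i v) a
          rwa [← hq', map_smul] at this)
        obtain ⟨u, hu⟩ := hF.exists_of_ker hdq
        obtain ⟨z, hz⟩ := hF.exists_of_ker (i := i + 1)
          (v := v - (X 0 : MvPolynomial (Fin (n + 1)) k) • u)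
          (by rw [map_sub, map_smul, hu, hq', sub_self])
        refine ⟨π ∘ z, funext fun a => ?_⟩
        rw [key, hz]
        simp [π, killZero_X_zero]
      · rintro x ⟨w, rfl⟩
        obtain ⟨v, rfl⟩ := lift w
        rw [LinearMap.mem_ker]
        have : G.d (i + 1) (π ∘ v) = π ∘ F.d (i + 2) v := funext fun a => key (i + 1) v a
        rw [this]
        funext a
        rw [key, hF.d_d]
        exact map_zero π
    have hmin : ∀ i, F.MinAt (RingHom.ker constantCoeff) (i + 1) →
        G.MinAt (RingHom.ker constantCoeff) i := by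
      intro i h w a
      obtain ⟨v, rfl⟩ := lift w
      rw [key, RingHom.mem_ker, constantCoeff_killZero]
      exact h v a
    exact isEmpty_of_minimal n m (Nat.le_of_succ_le_succ hnm) G hG (hmin m h0) (hmin (m + 1) h1)

end Length

end FC

end Groth.Agent.GrSyz54
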