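import Groth.Agent.GrSyz54.Poly
import Groth.Agent.GrSyz54.FC
import Mathlib.LinearAlgebra.Dimension.Constructions
import Mathlib.LinearAlgebra.Dimension.DivisionRing
import Mathlib.RingTheory.MvPolynomial.Basic

/-!
Graded free modules over a polynomial ring.
-/

universe u

open MvPolynomial

namespace Groth.Agent.GrSyz54

variable {k : Type u} [CommRing k] {σ : Type} {β : Type}

/-- The grading of a free module with basis degrees `deg`. -/
noncomputable def freeGr (deg : β → ℤ) (d : ℤ) : Submodule k (β → MvPolynomial σ k) :=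
  Submodule.pi Set.univ fun b => GrSyz.stdGr k σ (d - deg b)

variable {deg : β → ℤ}

theorem mem_freeGr {d : ℤ} {v : β → MvPolynomial σ k} :
    v ∈ freeGr deg d ↔ ∀ b, v b ∈ GrSyz.stdGr k σ (d - deg b) := by
  simp [freeGr, Submodule.mem_pi]

theorem single_mem_freeGr [DecidableEq β] {d : ℤ} {b : β} {c : MvPolynomial σ k} :
    Pi.single b c ∈ freeGr deg d ↔ c ∈ GrSyz.stdGr k σ (d - deg b) := by
  rw [mem_freeGr]
  refine ⟨fun h => by simpa using h b, fun h a => ?_⟩
  rcases eq_or_ne a b with rfl | hne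
  · simpa using h
  · simp [hne]

variable (deg) in
/-- Componentwise projection on the piece of degree `d`. -/
noncomputable def freeProj (d : ℤ) :
    (β → MvPolynomial σ k) →ₗ[k] (β → MvPolynomial σ k) :=
  LinearMap.pi fun b =>
    (MvPolynomial.weightedHomogeneousComponent (fun _ : σ => (1 : ℤ)) (d - deg b)).comp
      (LinearMap.proj b)

theorem freeProj_apply (d : ℤ) (v : β → MvPolynomial σ k) (b : β) :
    freeProj deg d v b = cmp (GrSyz.stdGr k σ) (d - deg b) (v b) := (cmp_stdGr_eq _ _).symm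

theorem isInternal_freeGr [Finite β] (deg : β → ℤ) :
    DirectSum.IsInternal (freeGr (k := k) (σ := σ) deg) := by
  classical
  apply DirectSum.isInternal_submodule_of_iSupIndep_of_iSup_eq_top
  · rw [iSupIndep_def]
    intro d
    rw [Submodule.disjoint_def]
    intro v hv hv'
    have h1 : freeProj deg d v = v := funext fun b => by
      rw [freeProj_apply, cmp_of_mem _ (mem_freeGr.1 hv b)]
    have h2 : (⨆ (j : ℤ) (_ : j ≠ d), freeGr deg j) ≤
        LinearMap.ker (freeProj (k := k) (σ := σ) deg d) :=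
      iSup₂_le fun j hj w hw => by
        rw [LinearMap.mem_ker]
        funext b
        rw [freeProj_apply, cmp_of_ne _ (mem_freeGr.1 hw b) (by omega)]
        rfl
    rw [← h1]
    exact h2 hv'
  · rw [eq_top_iff]
    intro v _
    have := Fintype.ofFinite β
    rw [← Finset.univ_sum_single v]
    refine sum_mem fun b _ => ?_
    obtain ⟨t, ht⟩ := exists_sum_cmp (GrSyz.stdGr k σ) (v b)
    rw [← LinearMap.single_apply (R := k), ← ht, map_sum]
    refine sum_mem fun j _ => ?_
    refine Submodule.mem_iSup_of_mem (j + deg b) ?_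
    rw [LinearMap.single_apply, single_mem_freeGr, add_sub_cancel_right]
    exact cmp_mem _ _ _

noncomputable instance freeGr.decomposition [Finite β] :
    DirectSum.Decomposition (freeGr (k := k) (σ := σ) deg) :=
  (isInternal_freeGr deg).chooseDecomposition _

instance freeGr.gradedSMul :
    SetLike.GradedSMul (GrSyz.stdGr k σ) (freeGr (k := k) (σ := σ) deg) where
  smul_mem := fun {i j} a v ha hv => by
    rw [mem_freeGr] at hv ⊢
    intro b
    have := SetLike.GradedMul.mul_mem (A := GrSyz.stdGr k σ) ha (hv b)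
    rwa [Pi.smul_apply, smul_eq_mul, vadd_eq_add,
      show i + j - deg b = i + (j - deg b) by omega]

theorem cmp_freeGr_apply [Finite β] (d : ℤ) (v : β → MvPolynomial σ k) (b : β) :
    cmp (freeGr deg) d v b = cmp (GrSyz.stdGr k σ) (d - deg b) (v b) := by
  rw [← freeProj_apply]
  refine congr_fun ?_ b
  induction v using piece_induction (freeGr (k := k) (σ := σ) deg) with
  | h0 => simp
  | hadd x y hx hy => simp [hx, hy]
  | hp j x hx =>
    rcases eq_or_ne j d with h | h
    · subst h
      rw [cmp_of_mem _ hx]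
      funext b
      rw [freeProj_apply, cmp_of_mem _ (mem_freeGr.1 hx b)]
    · rw [cmp_of_ne _ hx h]
      funext b
      rw [freeProj_apply, cmp_of_ne _ (mem_freeGr.1 hx b) (by omega)]
      rfl

theorem single_one_mem [DecidableEq β] (b : β) :
    (Pi.single b 1 : β → MvPolynomial σ k) ∈ freeGr deg (deg b) := by
  rw [single_mem_freeGr, sub_self]
  exact one_mem_stdGr

variable {N : Type u} [AddCommGroup N] [Module (MvPolynomial σ k) N] {τ : Type u} [SetLike τ N]
  [AddSubgroupClass τ N] {𝒩 : ℤ → τ} [SetLike.GradedSMul (GrSyz.stdGr k σ) 𝒩]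

theorem isGrHom_of_single [Finite β] [DecidableEq β]
    {f : (β → MvPolynomial σ k) →ₗ[MvPolynomial σ k] N}
    (h : ∀ b, f (Pi.single b 1) ∈ 𝒩 (deg b)) : GrLC.IsGrHom (freeGr deg) 𝒩 f := by
  intro d v hv
  have := Fintype.ofFinite β
  rw [pi_eq_sum_univ' v, map_sum]
  refine sum_mem fun b _ => ?_
  rw [map_smul]
  simpa [vadd_eq_add] using
    SetLike.GradedSMul.smul_mem (A := GrSyz.stdGr k σ) (B := 𝒩) (mem_freeGr.1 hv b) (h b)

theorem exists_gr_comp_eq [Finite β] [DirectSum.Decomposition 𝒩] {P : Type u} [AddCommGroup P]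
    [Module (MvPolynomial σ k) P] {τ' : Type u} [SetLike τ' P] [AddSubgroupClass τ' P]
    (Q' : ℤ → τ') [DirectSum.Decomposition Q']
    {g : (β → MvPolynomial σ k) →ₗ[MvPolynomial σ k] P} (hg : GrLC.IsGrHom (freeGr deg) Q' g)
    {f : N →ₗ[MvPolynomial σ k] P} (hf : GrLC.IsGrHom 𝒩 Q' f)
    (h : ∀ v, g v ∈ LinearMap.range f) :
    ∃ h' : (β → MvPolynomial σ k) →ₗ[MvPolynomial σ k] N,
      GrLC.IsGrHom (freeGr deg) 𝒩 h' ∧ ∀ v, f (h' v) = g v := by
  classical
  choose m hm hfm using fun b => exists_homog_preimage 𝒩 Q' hf (h (Pi.single b 1))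
    (hg _ _ (single_one_mem b))
  refine ⟨(Pi.basisFun _ β).constr (MvPolynomial σ k) m, isGrHom_of_single fun b => ?_, fun v =>
    LinearMap.congr_fun ((Pi.basisFun _ β).ext (f₁ := f.comp _) (f₂ := g) fun b => ?_) v⟩
  · simp [← Pi.basisFun_apply, hm]
  · simp [← Pi.basisFun_apply, hfm]

instance freeGr.finite [Finite σ] [Finite β] [IsNoetherianRing k] (deg : β → ℤ) (d : ℤ) :
    Module.Finite k (freeGr (k := k) (σ := σ) deg d) :=
  Module.Finite.equiv
    { toFun := fun w => ⟨fun b => (w b).1, mem_freeGr.2 fun b => (w b).2⟩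
      invFun := fun v b => ⟨v.1 b, mem_freeGr.1 v.2 b⟩
      map_add' := fun _ _ => rfl
      map_smul' := fun _ _ => rfl
      left_inv := fun _ => rfl
      right_inv := fun _ => rfl :
      (∀ b, GrSyz.stdGr k σ (d - deg b)) ≃ₗ[k] freeGr (k := k) (σ := σ) deg d }

theorem finrank_freeGr {K : Type u} [Field K] [Finite σ] [Fintype β] (deg : β → ℤ) (d : ℤ) :
    Module.finrank K (freeGr (k := K) (σ := σ) deg d) =
      ∑ b, Module.finrank K (GrSyz.stdGr K σ (d - deg b)) := by
  rw [← Module.finrank_pi_fintype K]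
  exact LinearEquiv.finrank_eq
    { toFun := fun v b => ⟨v.1 b, mem_freeGr.1 v.2 b⟩
      invFun := fun w => ⟨fun b => (w b).1, mem_freeGr.2 fun b => (w b).2⟩
      map_add' := fun _ _ => rfl
      map_smul' := fun _ _ => rfl
      left_inv := fun _ => rfl
      right_inv := fun _ => rfl }

theorem constantCoeff_eq_zero_of_gr {β' : Type} [Finite β] [DecidableEq β] {deg' : β' → ℤ}
    {f : (β → MvPolynomial σ k) →ₗ[MvPolynomial σ k] (β' → MvPolynomial σ k)}
    (hf : GrLC.IsGrHom (freeGr deg) (freeGr deg') f) {b : β} {a : β'} (hne : deg b ≠ deg' a) :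
    constantCoeff (f (Pi.single b 1) a) = 0 :=
  constantCoeff_eq_zero_of_mem (n := deg b - deg' a) (by omega)
    (mem_freeGr.1 (hf _ _ (single_one_mem b)) a)

end Groth.Agent.GrSyz54
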