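import Groth.Agent.GrSyz54.Res

/-!
Minimality and irredundancy.
-/

universe u

open MvPolynomial

namespace Groth.Agent.GrSyz54

variable {k : Type u} [Field k] {σ : Type} {M : Type u} [AddCommGroup M]
  [Module (MvPolynomial σ k) M] {τ : Type u} [SetLike τ M] [AddSubgroupClass τ M]
  {ℳ : ℤ → τ} [DirectSum.Decomposition ℳ] [SetLike.GradedSMul (GrSyz.stdGr k σ) ℳ]

omit [AddSubgroupClass τ M] [DirectSum.Decomposition ℳ] [SetLike.GradedSMul (GrSyz.stdGr k σ) ℳ] in
theorem not_mem_span_others {β : Type} [Fintype β] {N : Type*} [AddCommGroup N]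
    [Module (MvPolynomial σ k) N] {g : β → N}
    (h : ∀ c : β → MvPolynomial σ k, ∑ b, c b • g b = 0 → ∀ b, c b ∈ m₀) (b : β) :
    g b ∉ Submodule.span (MvPolynomial σ k) (g '' {b' | b' ≠ b}) := by
  classical
  intro hb
  obtain ⟨l, hl, hsum⟩ := (Finsupp.mem_span_image_iff_linearCombination _).1 hb
  have hlb : l b = 0 := by
    by_contra hne
    exact hl (Finsupp.mem_support_iff.2 hne) rfl
  have h0 := h (fun b' => l b' - if b' = b then 1 else 0) (by
    rw [Finset.sum_congr rfl (g := fun b' => l b' • g b' - (if b' = b then g b' else 0))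
      (fun b' _ => by rw [sub_smul]; split_ifs <;> simp), Finset.sum_sub_distrib,
      Finset.sum_ite_eq' Finset.univ b, if_pos (Finset.mem_univ b), sub_eq_zero, ← hsum,
      Finsupp.linearCombination_apply, Finsupp.sum_fintype]
    simp) b
  simp [hlb, RingHom.mem_ker] at h0

theorem isMinimal_iff_irredundant (F : GrSyz.FreeRes (GrSyz.stdGr k σ) ℳ) :
    F.IsMinimal (GrSyz.irrel (GrSyz.stdGr k σ)).toIdeal ↔
      ((∀ b : Fin (F.rk 0), F.aug b ∉ Submodule.span (MvPolynomial σ k) (F.aug '' {b' | b' ≠ b})) ∧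
        ∀ (i : ℕ) (b : Fin (F.rk (i + 1))),
          (fun a => F.d i a b) ∉ Submodule.span (MvPolynomial σ k)
            ((fun b' a => F.d i a b') '' {b' | b' ≠ b})) := by
  classical
  have hcol : ∀ i (v : Fin (F.rk (i + 1)) → MvPolynomial σ k),
      F.dLin i v = ∑ b, v b • fun a => F.d i a b := fun i v => by
    funext a
    simp [Matrix.mulVec, dotProduct, mul_comm]
  constructor
  · intro hF
    refine ⟨fun b => not_mem_span_others (fun c hc => ?_) b,
      fun i b => not_mem_span_others (g := fun b' a => F.d i a b') (fun c hc => ?_) b⟩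
    · obtain ⟨u, rfl⟩ := (toFC_isRes F).exists_of_ker (v := c)
        (by simpa [Fintype.linearCombination_apply] using hc)
      exact fun b => minAt_of_isMinimal F hF 0 u b
    · obtain ⟨u, rfl⟩ := (toFC_isRes F).exact_succ.exists_of_ker (i := i) (v := c)
        (by rw [show (toFC F).d i c = F.dLin i c from rfl, hcol]; exact hc)
      exact fun b => minAt_of_isMinimal F hF (i + 1) u b
  · rintro ⟨h0, hs⟩ i a b
    refine (irrel_eq_ker (k := k) (σ := σ)).ge ?_
    rw [RingHom.mem_ker]
    by_contra hne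
    have hv : ∀ a' : Fin (F.rk i),
        F.dLin i (Pi.single b 1) a' = F.d i a' b := fun a' => dLin_single F i b a'
    cases i with
    | zero =>
      refine h0 a (mem_span_others_of_relation (ℳ := ℳ) F.aug_mem
        (c := fun a' => F.d 0 a' b) ?_ hne)
      have := (toFC_isRes F).aug_d (Pi.single b 1)
      simpa [Fintype.linearCombination_apply, hv] using this
    | succ i =>
      refine hs i a (mem_span_others_of_relation (ℳ := freeGr (F.deg i))
        (g := fun b' a => F.d i a b') (deg := F.deg (i + 1)) ?_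
        (c := fun a' => F.d (i + 1) a' b) ?_ hne)
      · intro b'
        rw [mem_freeGr]
        exact fun a' => F.d_mem i a' b'
      · rw [← hcol]
        have := (toFC_isRes F).exact_succ.d_d i (Pi.single b 1)
        rwa [show (toFC F).d (i + 1) (Pi.single b 1) = fun a' => F.d (i + 1) a' b from funext hv]
          at this

theorem succ_le_deg_succ (F : GrSyz.FreeRes (GrSyz.stdGr k σ) ℳ)
    (hF : F.IsMinimal (GrSyz.irrel (GrSyz.stdGr k σ)).toIdeal) (i : ℕ) (d : ℤ)
    (h : ∀ a : Fin (F.rk i), d ≤ F.deg i a) (b : Fin (F.rk (i + 1))) :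
    d + 1 ≤ F.deg (i + 1) b := by
  obtain ⟨a, ha⟩ : ∃ a, F.d i a b ≠ 0 := by
    by_contra hz
    simp only [not_exists, not_not] at hz
    refine ((isMinimal_iff_irredundant F).1 hF).2 i b ?_
    rw [show (fun a => F.d i a b) = 0 from funext hz]
    exact zero_mem _
  have h1 := F.d_mem i a b
  have h2 := h a
  by_contra hlt
  refine ha ?_
  rcases lt_trichotomy (F.deg (i + 1) b - F.deg i a) 0 with hd | hd | hd
  · rw [stdGr_neg hd, Submodule.mem_bot] at h1
    exact h1
  · rw [hd] at h1
    rw [stdGr_zero_eq h1, mem_irrel.1 (hF i a b), map_zero]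
  · omega

end Groth.Agent.GrSyz54
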