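import Groth.Agent.GrSyz54.Hilbert
import Groth.Agent.GrSyz54.Irred
import Mathlib.LinearAlgebra.Matrix.ToLinearEquiv

/-!
The degrees in the Hilbert–Burch resolution of a finite set of points.
-/

universe u

open MvPolynomial

namespace Groth.Agent.GrSyz54

variable {k : Type u} [Field k] {σ : Type} [Finite σ] {M : Type u} [AddCommGroup M]
  [Module (MvPolynomial σ k) M] {τ : Type u} [SetLike τ M] [AddSubgroupClass τ M]
  {ℳ : ℤ → τ} [DirectSum.Decomposition ℳ] [SetLike.GradedSMul (GrSyz.stdGr k σ) ℳ]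

omit [Finite σ] in
/-- The zeroth term of a minimal resolution of a cyclic module is free of rank one in degree `0`. -/
theorem rk_zero_of_cyclic (F : GrSyz.FreeRes (GrSyz.stdGr k σ) ℳ)
    (hF : F.IsMinimal (GrSyz.irrel (GrSyz.stdGr k σ)).toIdeal) [Nontrivial M] (e : M)
    (he : e ∈ ℳ 0) (hgen : ∀ x : M, ∃ p : MvPolynomial σ k, p • e = x) :
    F.rk 0 = 1 ∧ ∀ b, F.deg 0 b = 0 := by
  classical
  obtain ⟨v, hv, hv'⟩ := exists_homog_preimage (freeGr (F.deg 0)) ℳ (augLin_grHom F)
    (y := e) (LinearMap.mem_range.2 (F.aug_surjective _)) he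
  have key : ∀ b : Fin (F.rk 0), ∃ p : MvPolynomial σ k, ∀ a,
      constantCoeff ((Pi.single b 1 : Fin (F.rk 0) → MvPolynomial σ k) a) =
        constantCoeff p * constantCoeff (v a) := fun b => by
    obtain ⟨p, hp⟩ := hgen (F.aug b)
    refine ⟨p, fun a => ?_⟩
    obtain ⟨u, hu⟩ := (toFC_isRes F).exists_of_ker (v := Pi.single b 1 - p • v)
      (by rw [map_sub, map_smul, hv', hp, augLin_single, sub_self])
    have h := minAt_of_isMinimal F hF 0 u a
    rw [hu, RingHom.mem_ker] at h
    simpa [map_sub, sub_eq_zero] using h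
  have hne : ∀ b, constantCoeff (v b) ≠ 0 := fun b h => by
    obtain ⟨p, hp⟩ := key b
    simpa [h] using hp b
  constructor
  · refine le_antisymm ?_ (Nat.one_le_iff_ne_zero.2 fun h0 => ?_)
    · by_contra h
      obtain ⟨p, hp⟩ := key ⟨0, by omega⟩
      have h1 := hp ⟨1, by omega⟩
      rw [Pi.single_eq_of_ne (by simp), map_zero, eq_comm, mul_eq_zero] at h1
      have h2 := hp ⟨0, by omega⟩
      rcases h1 with h1 | h1
      · simp [h1] at h2
      · exact hne _ h1
    · obtain ⟨x, hx⟩ := exists_ne (0 : M)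
      obtain ⟨w, hw⟩ := F.aug_surjective x
      have : IsEmpty (Fin (F.rk 0)) := by rw [h0]; infer_instance
      rw [Subsingleton.elim w 0, map_zero] at hw
      exact hx hw.symm
  · intro b
    by_contra h
    exact hne b (constantCoeff_eq_zero_of_mem (n := 0 - F.deg 0 b) (by omega) (mem_freeGr.1 hv b))

omit [Finite σ] in
/-- The diagonal inequalities for a resolution with matrices `rk 0 = 1`, `rk 1 = t+1`, `rk 2 = t`. -/
theorem deg_lt_deg (F : GrSyz.FreeRes (GrSyz.stdGr k σ) ℳ)
    (hF : F.IsMinimal (GrSyz.irrel (GrSyz.stdGr k σ)).toIdeal) (h0 : F.rk 0 = 1)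
    (t : ℕ) (h1 : F.rk 1 = t + 1) (h2 : F.rk 2 = t) (h3 : F.rk 3 = 0)
    (ha : ∀ i j : Fin (t + 1), i ≤ j → F.deg 1 (Fin.cast h1.symm j) ≤ F.deg 1 (Fin.cast h1.symm i))
    (hb : ∀ i j : Fin t, i ≤ j → F.deg 2 (Fin.cast h2.symm j) ≤ F.deg 2 (Fin.cast h2.symm i))
    (i : Fin t) :
    F.deg 1 (Fin.cast h1.symm i.castSucc) < F.deg 2 (Fin.cast h2.symm i) := by
  classical
  by_contra hlt
  have hzero : ∀ (a : Fin (F.rk 1)) (b : Fin (F.rk 2)), a.1 ≤ i.1 → i.1 ≤ b.1 → F.d 1 a b = 0 := by
    intro a b hai hib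
    have e1 := ha (Fin.cast h1 a) i.castSucc hai
    have e2 := hb i (Fin.cast h2 b) hib
    simp only [Fin.cast_cast, Fin.cast_eq_self] at e1 e2
    have hdeg := F.d_mem 1 a b
    rcases lt_or_eq_of_le (show F.deg 2 b - F.deg 1 a ≤ 0 by omega) with hd | hd
    · rw [stdGr_neg hd, Submodule.mem_bot] at hdeg
      exact hdeg
    · rw [hd] at hdeg
      rw [stdGr_zero_eq hdeg, mem_irrel.1 (hF 1 a b), map_zero]
  let row : Fin (t - i.1) → Fin (F.rk 1) := fun l => ⟨i.1 + 1 + l.1, by omega⟩
  let col : Fin (t - i.1) → Fin (F.rk 2) := fun l => ⟨i.1 + l.1, by omega⟩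
  have hrow : Function.Injective row := fun x y h => Fin.ext (by
    have := congrArg Fin.val h
    simp only [row] at this
    omega)
  have hcol : Function.Injective col := fun x y h => Fin.ext (by
    have := congrArg Fin.val h
    simp only [col] at this
    omega)
  let N : Matrix (Fin (t - i.1)) (Fin (t - i.1)) (MvPolynomial σ k) := (F.d 1).submatrix row col
  have hdet : N.det ≠ 0 := by
    intro hd
    obtain ⟨x, hx0, hx⟩ := Matrix.exists_mulVec_eq_zero_iff.2 hd
    let v : Fin (F.rk 2) → MvPolynomial σ k := Function.extend col x 0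
    have hvcol : ∀ l, v (col l) = x l := fun l => hcol.extend_apply _ _ l
    have hv : F.dLin 1 v = 0 := by
      funext a
      rw [Matrix.mulVecLin_apply, Matrix.mulVec, dotProduct, Pi.zero_apply,
        ← Finset.sum_subset (Finset.subset_univ (Finset.univ.image col))
          (fun b _ hb' => by
            rw [show v b = 0 from Function.extend_apply' _ _ _ fun ⟨l, hl⟩ =>
              hb' (hl ▸ Finset.mem_image_of_mem _ (Finset.mem_univ l)), mul_zero]),
        Finset.sum_image (fun x _ y _ h => hcol h)]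
      by_cases hai : a.1 ≤ i.1
      · refine Finset.sum_eq_zero fun l _ => ?_
        rw [hzero a (col l) hai (by simp [col]), zero_mul]
      · have ha' : a = row ⟨a.1 - (i.1 + 1), by omega⟩ := Fin.ext (by simp [row]; omega)
        rw [ha']
        refine Eq.trans ?_ (congr_fun hx ⟨a.1 - (i.1 + 1), by omega⟩)
        rw [Matrix.mulVec, dotProduct]
        exact Finset.sum_congr rfl fun l _ => by rw [hvcol]; rfl
    obtain ⟨u, hu⟩ := (toFC_isRes F).exact_succ.exists_of_ker (i := 1) (v := v) hv
    have : IsEmpty (Fin (F.rk 3)) := by rw [h3]; infer_instance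
    rw [show u = 0 from funext fun b => isEmptyElim (α := Fin (F.rk 3)) b, map_zero] at hu
    refine hx0 (funext fun l => ?_)
    have := congr_fun hu (col l)
    rw [hvcol] at this
    exact this.symm
  let z : Fin (F.rk 0) := ⟨0, by omega⟩
  let f : Fin (t - i.1) → MvPolynomial σ k := fun l => F.d 0 z (row l)
  have hf : Matrix.vecMul f N = 0 := by
    funext l
    have h := congr_fun ((toFC_isRes F).exact_succ.d_d 0 (Pi.single (col l) 1)) z
    rw [Pi.zero_apply] at h
    refine Eq.trans ?_ h
    change Matrix.vecMul f N l = ((F.d 0).mulVec ((F.d 1).mulVec (Pi.single (col l) 1))) z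
    rw [Matrix.mulVec_single_one, Matrix.mulVec, dotProduct, Matrix.vecMul, dotProduct]
    rw [← Finset.sum_subset (Finset.subset_univ (Finset.univ.image row))
          (fun a _ ha' => by
            have hai : a.1 ≤ i.1 := by
              by_contra hgt
              exact ha' (Finset.mem_image.2 ⟨⟨a.1 - (i.1 + 1), by omega⟩, Finset.mem_univ _,
                Fin.ext (by simp [row]; omega)⟩)
            rw [show (F.d 1).col (col l) a = F.d 1 a (col l) from rfl,
              hzero a (col l) hai (by simp [col]), mul_zero]),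
      Finset.sum_image (fun x _ y _ h => hrow h)]
    rfl
  refine hdet (Matrix.exists_vecMul_eq_zero_iff.1 ⟨f, fun h => ?_, hf⟩)
  have hfl := congr_fun h ⟨0, by omega⟩
  refine ((isMinimal_iff_irredundant F).1 hF).2 0 (row ⟨0, by omega⟩) ?_
  have : (fun a => F.d 0 a (row ⟨0, by omega⟩)) = 0 := by
    funext a
    rw [show a = z from Fin.ext (by simp [z]; omega)]
    exact hfl
  rw [this]
  exact zero_mem _

end Groth.Agent.GrSyz54
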