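import Groth.Agent.GrSyz54.Res
import Mathlib.RingTheory.Polynomial.Pochhammer
import Mathlib.LinearAlgebra.FiniteDimensional.Basic
import Mathlib.LinearAlgebra.FiniteDimensional.Lemmas
import Mathlib.Algebra.BigOperators.Finprod
import Mathlib.Data.Rat.Lemmas

/-!
Hilbert functions from graded free resolutions.
-/

universe u

open MvPolynomial

namespace Groth.Agent.GrSyz54

variable {k : Type u} [Field k] {σ : Type} {M : Type u} [AddCommGroup M] [Module k M]
  [Module (MvPolynomial σ k) M] [IsScalarTower k (MvPolynomial σ k) M]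
  {ℳ : ℤ → Submodule k M} [DirectSum.Decomposition ℳ]
  [SetLike.GradedSMul (GrSyz.stdGr k σ) ℳ] (F : GrSyz.FreeRes (GrSyz.stdGr k σ) ℳ)

/-- The piece of degree `d` of a differential. -/
noncomputable def dPiece (i : ℕ) (d : ℤ) :
    freeGr (k := k) (σ := σ) (F.deg (i + 1)) d →ₗ[k] freeGr (k := k) (σ := σ) (F.deg i) d :=
  ((F.dLin i).restrictScalars k).restrict fun v hv => dLin_grHom F i d v hv

/-- The piece of degree `d` of the augmentation. -/
noncomputable def augPiece (d : ℤ) : freeGr (k := k) (σ := σ) (F.deg 0) d →ₗ[k] ℳ d :=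
  (F.augLin.restrictScalars k).restrict fun v hv => augLin_grHom F d v hv

theorem augPiece_surjective (d : ℤ) : Function.Surjective (augPiece F d) := fun m => by
  obtain ⟨x, hx, hx'⟩ := exists_homog_preimage (freeGr (F.deg 0)) ℳ (augLin_grHom F)
    (y := (m : M)) (LinearMap.mem_range.2 (F.aug_surjective _)) m.2
  exact ⟨⟨x, hx⟩, Subtype.ext hx'⟩

theorem ker_augPiece (d : ℤ) : LinearMap.ker (augPiece F d) = LinearMap.range (dPiece F 0 d) := by
  ext x
  rw [LinearMap.mem_ker, LinearMap.mem_range]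
  constructor
  · intro hx
    have h : x.1 ∈ LinearMap.range (F.dLin 0) := by
      rw [← F.exact_zero, LinearMap.mem_ker]
      exact congrArg Subtype.val hx
    obtain ⟨y, hy, hy'⟩ := exists_homog_preimage _ (freeGr (F.deg 0)) (dLin_grHom F 0) h x.2
    exact ⟨⟨y, hy⟩, Subtype.ext hy'⟩
  · rintro ⟨y, rfl⟩
    exact Subtype.ext ((toFC_isRes F).aug_d y.1)

theorem ker_dPiece (i : ℕ) (d : ℤ) :
    LinearMap.ker (dPiece F i d) = LinearMap.range (dPiece F (i + 1) d) := by
  ext x
  rw [LinearMap.mem_ker, LinearMap.mem_range]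
  constructor
  · intro hx
    have h : x.1 ∈ LinearMap.range (F.dLin (i + 1)) := by
      rw [← F.exact_succ i, LinearMap.mem_ker]
      exact congrArg Subtype.val hx
    obtain ⟨y, hy, hy'⟩ := exists_homog_preimage _ (freeGr (F.deg (i + 1)))
      (dLin_grHom F (i + 1)) h x.2
    exact ⟨⟨y, hy⟩, Subtype.ext hy'⟩
  · rintro ⟨y, rfl⟩
    exact Subtype.ext ((toFC_isRes F).exact_succ.d_d i y.1)

variable [Finite σ]

include F in
theorem finite_piece (d : ℤ) : Module.Finite k (ℳ d) :=
  Module.Finite.of_surjective (augPiece F d) (augPiece_surjective F d)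

theorem finrank_aug (d : ℤ) :
    (Module.finrank k (freeGr (k := k) (σ := σ) (F.deg 0) d) : ℤ) =
      Module.finrank k (ℳ d) + Module.finrank k (LinearMap.range (dPiece F 0 d)) := by
  have h1 := LinearMap.finrank_range_add_finrank_ker (augPiece F d)
  rw [ker_augPiece, LinearMap.range_eq_top.2 (augPiece_surjective F d), finrank_top] at h1
  omega

theorem finrank_succ (i : ℕ) (d : ℤ) :
    (Module.finrank k (freeGr (k := k) (σ := σ) (F.deg (i + 1)) d) : ℤ) =
      Module.finrank k (LinearMap.range (dPiece F i d)) +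
        Module.finrank k (LinearMap.range (dPiece F (i + 1) d)) := by
  have h1 := LinearMap.finrank_range_add_finrank_ker (dPiece F i d)
  rw [ker_dPiece] at h1
  omega

theorem sum_finrank_eq (m : ℕ) (d : ℤ) :
    ∑ i ∈ Finset.range (m + 1),
        (-1 : ℤ) ^ i * Module.finrank k (freeGr (k := k) (σ := σ) (F.deg i) d) =
      Module.finrank k (ℳ d) +
        (-1 : ℤ) ^ m * Module.finrank k (LinearMap.range (dPiece F m d)) := by
  induction m with
  | zero => simp [finrank_aug F d]
  | succ m ih =>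
    rw [Finset.sum_range_succ, ih, finrank_succ F m d, pow_succ]
    ring

theorem finrank_piece_eq (m : ℕ) (hF : F.HasLengthLE m) (d : ℤ) :
    (Module.finrank k (ℳ d) : ℤ) = ∑ i ∈ Finset.range (m + 1),
        (-1 : ℤ) ^ i * ∑ b, (Module.finrank k (GrSyz.stdGr k σ (d - F.deg i b)) : ℤ) := by
  have := sum_finrank_eq F m d
  have h0 : Module.finrank k (LinearMap.range (dPiece F m d)) = 0 := by
    have h1 := LinearMap.finrank_range_le (dPiece F m d)
    have : IsEmpty (Fin (F.rk (m + 1))) := by rw [hF (m + 1) (by omega)]; infer_instance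
    have h2 : Module.finrank k (freeGr (k := k) (σ := σ) (F.deg (m + 1)) d) = 0 := by
      rw [finrank_freeGr]; simp
    omega
  rw [h0] at this
  simp only [Nat.cast_zero, mul_zero, add_zero] at this
  rw [← this]
  simp only [finrank_freeGr, Nat.cast_sum]

/-- The binomial coefficient attached to a shift. -/
def binom (r : ℕ) (d j : ℤ) : ℤ :=
  if j ≤ d then ((Nat.choose (r + (d - j).toNat) r : ℕ) : ℤ) else 0

section Fin

variable {r : ℕ} {N : Type u} [AddCommGroup N] [Module k N]
  [Module (MvPolynomial (Fin (r + 1)) k) N] [IsScalarTower k (MvPolynomial (Fin (r + 1)) k) N]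
  {𝒩 : ℤ → Submodule k N} [DirectSum.Decomposition 𝒩]
  [SetLike.GradedSMul (GrSyz.stdGr k (Fin (r + 1))) 𝒩]
  (G : GrSyz.FreeRes (GrSyz.stdGr k (Fin (r + 1))) 𝒩)

theorem finrank_piece_eq_binom (m : ℕ) (hG : G.HasLengthLE m) (d : ℤ) :
    (Module.finrank k (𝒩 d) : ℤ) =
      ∑ i ∈ Finset.range (m + 1), (-1 : ℤ) ^ i * ∑ b, binom r d (G.deg i b) := by
  rw [finrank_piece_eq G m hG d]
  refine Finset.sum_congr rfl fun i _ => congrArg _ (Finset.sum_congr rfl fun b _ => ?_)
  rw [finrank_stdGr_fin, binom]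
  split_ifs with h1 h2 <;> first | rfl | omega

theorem exists_hilbert_polynomial (m : ℕ) (hG : G.HasLengthLE m) :
    ∃ P : Polynomial ℚ, ∀ d : ℤ, (∀ (i : ℕ) (b : Fin (G.rk i)), G.deg i b - (r : ℤ) ≤ d) →
      ((Module.finrank k ↥(𝒩 d) : ℤ) : ℚ) = P.eval (d : ℚ) := by
  refine ⟨∑ i ∈ Finset.range (m + 1), (-1 : Polynomial ℚ) ^ i * ∑ b,
    Polynomial.C ((r.factorial : ℚ)⁻¹) * (descPochhammer ℚ r).comp
      (Polynomial.X + Polynomial.C ((r : ℚ) - (G.deg i b : ℤ))), fun d hd => ?_⟩
  rw [finrank_piece_eq_binom G m hG d, Polynomial.eval_finset_sum, Int.cast_sum]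
  refine Finset.sum_congr rfl fun i _ => ?_
  rw [Int.cast_mul, Polynomial.eval_mul, Polynomial.eval_pow, Polynomial.eval_finset_sum,
    Int.cast_sum]
  congr 1
  · simp
  refine Finset.sum_congr rfl fun b _ => ?_
  have h := hd i b
  obtain ⟨N', hN'⟩ := Int.eq_ofNat_of_zero_le (a := d - G.deg i b + r) (by omega)
  have e : (d : ℚ) + ((r : ℚ) - (G.deg i b : ℤ)) = (N' : ℚ) := by
    have : ((d - G.deg i b + r : ℤ) : ℚ) = ((N' : ℤ) : ℚ) := congrArg _ hN'
    push_cast at this
    linarith
  simp only [Polynomial.eval_mul, Polynomial.eval_C, Polynomial.eval_comp, Polynomial.eval_add,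
    Polynomial.eval_X, e]
  rw [inv_mul_eq_div, ← Nat.cast_choose_eq_descPochhammer_div, binom]
  split_ifs with h1
  · rw [show r + (d - G.deg i b).toNat = N' by omega]
    norm_cast
  · rw [Nat.choose_eq_zero_of_lt (by omega : N' < r)]
    simp

/-- Alternating Betti numbers. -/
noncomputable def altBetti (m : ℕ) (j : ℤ) : ℤ :=
  ∑ i ∈ Finset.range (m + 1), (-1 : ℤ) ^ i * (G.betti i j : ℤ)

theorem exists_finset_altBetti (m : ℕ) :
    ∃ s : Finset ℤ, (∀ i ∈ Finset.range (m + 1), ∀ b, G.deg i b ∈ s) ∧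
      ∀ j, j ∉ s → altBetti G m j = 0 := by
  classical
  refine ⟨(Finset.range (m + 1)).biUnion fun i => Finset.univ.image (G.deg i),
    fun i hi b => Finset.mem_biUnion.2 ⟨i, hi, Finset.mem_image_of_mem _ (Finset.mem_univ b)⟩,
    fun j hj => Finset.sum_eq_zero fun i hi => ?_⟩
  have : G.betti i j = 0 := by
    rw [GrSyz.FreeRes.betti, Finset.card_eq_zero, Finset.filter_eq_empty_iff]
    exact fun b _ hb => hj (Finset.mem_biUnion.2
      ⟨i, hi, hb ▸ Finset.mem_image_of_mem _ (Finset.mem_univ b)⟩)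
  simp [this]

theorem finrank_piece_eq_finsum (m : ℕ) (hG : G.HasLengthLE m) (d : ℤ) :
    (Module.finrank k (𝒩 d) : ℤ) = ∑ᶠ j : ℤ, altBetti G m j * binom r d j := by
  classical
  obtain ⟨s, hs, hs'⟩ := exists_finset_altBetti G m
  rw [finsum_eq_sum_of_support_subset _ (s := s) (fun j hj => by
    by_contra h
    exact hj (by simp [hs' j h]))]
  rw [finrank_piece_eq_binom G m hG d]
  simp only [altBetti, Finset.sum_mul]
  rw [Finset.sum_comm]
  refine Finset.sum_congr rfl fun i hi => ?_
  simp only [mul_assoc, ← Finset.mul_sum]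
  refine congrArg _ ?_
  rw [← Finset.sum_fiberwise_of_maps_to (g := G.deg i) (fun b _ => hs i hi b)]
  refine Finset.sum_congr rfl fun j _ => ?_
  rw [Finset.sum_congr rfl (g := fun _ => binom r d j) (fun b hb => by
    rw [(Finset.mem_filter.1 hb).2]), Finset.sum_const, nsmul_eq_mul]
  rfl

theorem altBetti_eq (m : ℕ) (hG : G.HasLengthLE m) (j : ℤ) :
    altBetti G m j = (Module.finrank k (𝒩 j) : ℤ) -
      ∑ᶠ n : ℤ, (if n < j then altBetti G m n * ((Nat.choose (r + (j - n).toNat) r : ℕ) : ℤ)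
        else 0) := by
  classical
  obtain ⟨s, -, hs'⟩ := exists_finset_altBetti G m
  rw [finrank_piece_eq_finsum G m hG j,
    finsum_eq_sum_of_support_subset _ (s := insert j s) (fun n hn => by
      by_contra h
      simp only [Finset.coe_insert, Set.mem_insert_iff, Finset.mem_coe, not_or] at h
      exact hn (by simp [hs' n h.2])),
    finsum_eq_sum_of_support_subset _ (s := insert j s) (fun n hn => by
      by_contra h
      simp only [Finset.coe_insert, Set.mem_insert_iff, Finset.mem_coe, not_or] at h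
      exact hn (by simp [hs' n h.2])),
    ← Finset.sum_sub_distrib, Finset.sum_eq_single_of_mem j (Finset.mem_insert_self j s)]
  · simp [binom]
  · intro n _ hne
    rw [binom]
    split_ifs with h1 h2 <;> first | ring1 | omega

end Fin

end Groth.Agent.GrSyz54
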