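import Groth.Agent.GrSyz54.Res
import Mathlib.Algebra.Category.ModuleCat.ProjectiveDimension
import Mathlib.Algebra.Category.ModuleCat.Projective

/-!
Projective dimension and the length of a minimal resolution.
-/

universe u

open CategoryTheory

namespace Groth.Agent.GrSyz54

variable {S : Type u} [CommRing S]

namespace FC

/-- The complex shifted down by one. -/
@[reducible] noncomputable def tail (C : FC S) : FC S where
  ι i := C.ι (i + 1)
  fin i := C.fin (i + 1)
  d i := C.d (i + 1)

theorem tail_isRes {C : FC S} {M : Type u} [AddCommGroup M] [Module S M]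
    {ε : (C.ι 0 → S) →ₗ[S] M} (hC : C.IsRes ε) :
    C.tail.IsRes ((C.d 0).codRestrict (LinearMap.ker ε) fun v => LinearMap.mem_ker.2 (hC.aug_d v)) :=
  ⟨fun x => by
      obtain ⟨u, hu⟩ := hC.exists_of_ker x.2
      exact ⟨u, Subtype.ext hu⟩,
    by rw [LinearMap.ker_codRestrict]; exact hC.exact_succ 0,
    fun i => hC.exact_succ (i + 1)⟩

theorem projective_free (C : FC S) (i : ℕ) : Projective (ModuleCat.of S (C.ι i → S)) :=
  ModuleCat.projective_of_free (Pi.basisFun S (C.ι i))

theorem hasProjectiveDimensionLE_succ_iff {C : FC S} {M : Type u} [AddCommGroup M] [Module S M]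
    {ε : (C.ι 0 → S) →ₗ[S] M} (hC : C.IsRes ε) (n : ℕ) :
    HasProjectiveDimensionLE (ModuleCat.of S M) (n + 1) ↔
      HasProjectiveDimensionLE (ModuleCat.of S (LinearMap.ker ε)) n :=
  (LinearMap.shortExact_shortComplexKer hC.surj).hasProjectiveDimensionLT_X₃_iff n
    (C.projective_free 0)

/-- A resolution of length at most `n` bounds the projective dimension. -/
theorem hasProjectiveDimensionLE_of_length : ∀ (n : ℕ) (C : FC S) {M : Type u} [AddCommGroup M]
    [Module S M] (ε : (C.ι 0 → S) →ₗ[S] M), C.IsRes ε → (∀ i, n < i → IsEmpty (C.ι i)) →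
    HasProjectiveDimensionLE (ModuleCat.of S M) n
  | 0, C, M, _, _, ε, hC, h => by
    have := h 1 one_pos
    have hinj : Function.Injective ε := by
      rw [← LinearMap.ker_eq_bot, hC.exact_zero, eq_bot_iff]
      rintro x ⟨v, rfl⟩
      rw [Subsingleton.elim v 0, map_zero]
      exact zero_mem _
    have hp : Module.Projective S M :=
      Module.Projective.of_equiv (LinearEquiv.ofBijective ε ⟨hinj, hC.surj⟩)
    exact (projective_iff_hasProjectiveDimensionLE_zero _).1
      ((IsProjective.iff_projective M).1 hp)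
  | n + 1, C, M, _, _, ε, hC, h =>
    (hasProjectiveDimensionLE_succ_iff hC n).2
      (hasProjectiveDimensionLE_of_length n C.tail _ (tail_isRes hC) fun i hi => h (i + 1) (by omega))

/-- Projective dimension at most `n` splits the `n`-th map of a resolution. -/
theorem exists_split_of_hasProjectiveDimensionLE : ∀ (n : ℕ) (C : FC S) {M : Type u}
    [AddCommGroup M] [Module S M] (ε : (C.ι 0 → S) →ₗ[S] M), C.IsRes ε →
    HasProjectiveDimensionLE (ModuleCat.of S M) n →
    ∃ h : (C.ι n → S) →ₗ[S] (C.ι (n + 1) → S), ∀ v, C.d n (h (C.d n v)) = C.d n v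
  | 0, C, M, _, _, ε, hC, h => by
    have hp : Module.Projective S M :=
      (IsProjective.iff_projective M).2 ((projective_iff_hasProjectiveDimensionLE_zero _).2 h)
    obtain ⟨s, hs⟩ := Module.projective_lifting_property ε LinearMap.id hC.surj
    obtain ⟨h', hh⟩ := exists_comp_eq (LinearMap.id - s.comp ε) (C.d 0) fun v => by
      rw [← hC.exact_zero, LinearMap.mem_ker]
      simp [← LinearMap.comp_apply (f := ε), hs]
    exact ⟨h', fun v => by simp [hh, hC.aug_d]⟩
  | n + 1, C, M, _, _, ε, hC, h =>
    exists_split_of_hasProjectiveDimensionLE n C.tail _ (tail_isRes hC)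
      ((hasProjectiveDimensionLE_succ_iff hC n).1 h)

end FC

/-- A minimal resolution has length the projective dimension. -/
theorem hasLengthLE_iff {k : Type u} [Field k] {σ : Type} {M : Type u} [AddCommGroup M]
    [Module (MvPolynomial σ k) M] {τ : Type u} [SetLike τ M] [AddSubgroupClass τ M] {ℳ : ℤ → τ}
    [DirectSum.Decomposition ℳ] [SetLike.GradedSMul (GrSyz.stdGr k σ) ℳ]
    (F : GrSyz.FreeRes (GrSyz.stdGr k σ) ℳ)
    (hF : F.IsMinimal (GrSyz.irrel (GrSyz.stdGr k σ)).toIdeal) (n : ℕ) :
    F.HasLengthLE n ↔ HasProjectiveDimensionLE (ModuleCat.of (MvPolynomial σ k) M) n := by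
  classical
  constructor
  · intro h
    exact FC.hasProjectiveDimensionLE_of_length n (toFC F) F.augLin (toFC_isRes F)
      (fun i hi => by
        change IsEmpty (Fin (F.rk i))
        rw [h i hi]
        infer_instance)
  · intro h i hi
    obtain ⟨j, rfl⟩ := Nat.exists_eq_add_of_lt hi
    have : HasProjectiveDimensionLE (ModuleCat.of (MvPolynomial σ k) M) (n + j) :=
      hasProjectiveDimensionLT_of_ge _ (n + 1) _ (by omega)
    obtain ⟨g, hg⟩ :=
      FC.exists_split_of_hasProjectiveDimensionLE (n + j) (toFC F) F.augLin (toFC_isRes F) this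
    by_contra hne
    let b : Fin (F.rk (n + j + 1)) := ⟨0, Nat.pos_of_ne_zero hne⟩
    obtain ⟨u, hu⟩ := (toFC_isRes F).exact_succ.exists_of_ker (i := n + j)
      (v := Pi.single b 1 - g ((toFC F).d (n + j) (Pi.single b 1))) (by rw [map_sub, hg, sub_self])
    have h1 := minAt_of_isMinimal F hF (n + j + 1) u b
    have h2 := map_mem_of_coord_mem g (minAt_of_isMinimal F hF (n + j) (Pi.single b 1)) b
    rw [hu] at h1
    have h3 := add_mem h1 h2
    rw [Pi.sub_apply, sub_add_cancel, Pi.single_eq_same, RingHom.mem_ker, map_one] at h3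
    exact one_ne_zero h3

end Groth.Agent.GrSyz54
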