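import Groth.Agent.GrSyz54.Reg
import Groth.Agent.GrSyz54.PD
import Groth.Agent.GrMod19.QReg

/-!
Regularity through graded local cohomology.
-/

universe u

open DirectSum MvPolynomial

namespace Groth.Agent.GrSyz54

variable {k : Type u} [Field k] {n : ℕ}

local notation "𝔞" => GrSyz.irrel (GrSyz.stdGr k (Fin n))

theorem nonnegGr : GrMod19.NonnegGr (GrSyz.stdGr k (Fin n)) := fun m hm y hy => by
  rw [stdGr_neg hm, Submodule.mem_bot] at hy
  exact hy

theorem isPlus : GrMod19.IsPlus (GrSyz.irrel (GrSyz.stdGr k (Fin n))) := by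
  refine congrArg Ideal.span (Set.ext fun y => ?_)
  simp only [Set.mem_ofPred_eq, Set.mem_iUnion, Set.mem_Ioi, SetLike.mem_coe, exists_prop]

theorem irrel_eq_span_one :
    (GrSyz.irrel (GrSyz.stdGr k (Fin n))).toIdeal =
      Ideal.span (GrSyz.stdGr k (Fin n) 1 : Set (MvPolynomial (Fin n) k)) := by
  refine le_antisymm ?_
    (Ideal.span_le.2 fun y hy => GrMod19.mem_plus_of_mem isPlus one_pos hy)
  rw [irrel_eq_span_X, Ideal.span_le]
  rintro _ ⟨i, rfl⟩
  exact Ideal.subset_span (X_mem_stdGr i)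

section LReg

variable {M : Type u} [AddCommGroup M] [Module (MvPolynomial (Fin n) k) M] {τ : Type u}
  [SetLike τ M] [AddSubgroupClass τ M] (ℳ : ℤ → τ) [Decomposition ℳ]
  [SetLike.GradedSMul (GrSyz.stdGr k (Fin n)) ℳ]

/-- All local cohomology vanishes in total degrees above `d`. -/
def LReg (d : ℤ) : Prop := ∀ (i : ℕ) (m : ℤ), d < m + i → GrMod19.VanH 𝔞 ℳ i m

theorem lReg_iff_wReg (d : ℤ) :
    LReg (k := k) (n := n) ℳ d ↔
      (∀ m, d < m → GrMod19.VanH 𝔞 ℳ 0 m) ∧ GrMod19.WReg 𝔞 ℳ (d + 1) := by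
  refine ⟨fun h => ⟨fun m hm => h 0 m (by simpa using hm), fun i _ => h i _ (by omega)⟩,
    fun ⟨h0, h⟩ i m hm => ?_⟩
  rcases Nat.eq_zero_or_pos i with rfl | hi
  · exact h0 m (by simpa using hm)
  have := GrMod19.vanH_of_total irrel_eq_span_one (GrMod19.selfN ℳ) le_rfl
    (fun j hj => (GrMod19.vanH_selfN ℳ 𝔞).2 (h j hj)) (s := m + i) (by omega) i hi
  rw [add_sub_cancel_right] at this
  exact (GrMod19.vanH_selfN ℳ 𝔞).1 this

theorem lReg_iff_of_isPowerTorsion (hM : LocCoh.IsPowerTorsion (𝔞).toIdeal M) (d : ℤ) :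
    LReg (k := k) (n := n) ℳ d ↔ ∀ m, d < m → ∀ x ∈ ℳ m, x = 0 := by
  refine ⟨fun h m hm x hx =>
    GrMod19.eq_zero_of_vanH_zero 𝔞 (h 0 m (by simpa using hm)) (hM x) hx, fun h i m hm => ?_⟩
  rcases Nat.eq_zero_or_pos i with rfl | hi
  · exact GrMod19.vanH_zero_of_forall 𝔞 fun x _ hx => h m (by simpa using hm) x hx
  · exact GrMod19.vanH_of_torsion 𝔞 hM hi m

theorem lReg_of_bounded {d : ℤ} (h : ∀ m, d < m → ∀ x ∈ ℳ m, x = 0) :
    LReg (k := k) (n := n) ℳ d :=
  (lReg_iff_of_isPowerTorsion ℳ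
    (GrMod19.isPowerTorsion_of_bounded ℳ nonnegGr isPlus (n₀ := d + 1)
      fun m hm => h m (by omega)) d).2 h

include ℳ in
theorem isPowerTorsion_of_isFiniteLength [Module.Finite (MvPolynomial (Fin n) k) M]
    (hM : IsFiniteLength (MvPolynomial (Fin n) k) M) : LocCoh.IsPowerTorsion (𝔞).toIdeal M := by
  have : IsArtinian (MvPolynomial (Fin n) k) M :=
    (isFiniteLength_iff_isNoetherian_isArtinian.1 hM).2
  obtain ⟨n₀, hn₀⟩ := GrMod19.exists_bound_of_artinian (R := MvPolynomial (Fin n) k) ℳ nonnegGr ⊤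
  exact GrMod19.isPowerTorsion_of_bounded ℳ nonnegGr isPlus fun m hm x hx =>
    hn₀ m hm x Submodule.mem_top hx

theorem vanH_zero_of_regular {y : MvPolynomial (Fin n) k} (hy : y ∈ (𝔞).toIdeal)
    (hreg : IsSMulRegular M y) (m : ℤ) : GrMod19.VanH 𝔞 ℳ 0 m := by
  refine GrMod19.vanH_zero_of_forall 𝔞 fun x hx _ => ?_
  obtain ⟨N, hN⟩ := hx
  refine hreg.pow N ?_
  change y ^ N • x = y ^ N • 0
  rw [smul_zero]
  exact hN _ (Ideal.pow_mem_pow hy N)

variable {N : Type u} [AddCommGroup N] [Module (MvPolynomial (Fin n) k) N] {τ' : Type u}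
  [SetLike τ' N] [AddSubgroupClass τ' N] (𝒩 : ℤ → τ') [Decomposition 𝒩]
  [SetLike.GradedSMul (GrSyz.stdGr k (Fin n)) 𝒩]

theorem lReg_of_equiv (e : M ≃ₗ[MvPolynomial (Fin n) k] N)
    (he : GrLC.IsGrHom ℳ 𝒩 e.toLinearMap) (he' : GrLC.IsGrHom 𝒩 ℳ e.symm.toLinearMap)
    {d : ℤ} (h : LReg (k := k) (n := n) 𝒩 d) : LReg (k := k) (n := n) ℳ d := fun i m hm =>
  GrMod19.vanH_of_equiv 𝔞 e ((GrInj18.isGrHomDeg_zero_iff _ _).2 he)
    ((GrInj18.isGrHomDeg_zero_iff _ _).2 he') (add_zero 0) (by rw [add_zero]; exact h i m hm)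

theorem lReg_iff_quot [Module.Finite (MvPolynomial (Fin n) k) M]
    {y : MvPolynomial (Fin n) k} (hy : y ∈ GrSyz.stdGr k (Fin n) 1)
    (hq : IsFiniteLength (MvPolynomial (Fin n) k) (Submodule.torsionBy (MvPolynomial (Fin n) k) M y))
    (π : M →ₗ[MvPolynomial (Fin n) k] N) (hπ : Function.Surjective π)
    (hπg : GrLC.IsGrHom ℳ 𝒩 π)
    (hker : LinearMap.ker π =
      LinearMap.range (y • (LinearMap.id : M →ₗ[MvPolynomial (Fin n) k] M))) (d : ℤ) :
    LReg (k := k) (n := n) ℳ d ↔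
      LReg (k := k) (n := n) 𝒩 d ∧ ∀ m, d < m → GrMod19.VanH 𝔞 ℳ 0 m := by
  rw [lReg_iff_wReg, lReg_iff_wReg]
  exact GrMod19.reg_iff_quot ℳ nonnegGr isPlus hy hq 𝒩 π hπ hπg hker irrel_eq_span_one d

theorem lReg_iff_quot_of_regular [Module.Finite (MvPolynomial (Fin n) k) M]
    {y : MvPolynomial (Fin n) k} (hy : y ∈ GrSyz.stdGr k (Fin n) 1) (hreg : IsSMulRegular M y)
    (π : M →ₗ[MvPolynomial (Fin n) k] N) (hπ : Function.Surjective π)
    (hπg : GrLC.IsGrHom ℳ 𝒩 π)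
    (hker : LinearMap.ker π =
      LinearMap.range (y • (LinearMap.id : M →ₗ[MvPolynomial (Fin n) k] M))) (d : ℤ) :
    LReg (k := k) (n := n) ℳ d ↔ LReg (k := k) (n := n) 𝒩 d := by
  have : Subsingleton (Submodule.torsionBy (MvPolynomial (Fin n) k) M y) :=
    ⟨fun a b => Subtype.ext (hreg (show y • (a : M) = y • (b : M) by
      rw [(Submodule.mem_torsionBy_iff y (a : M)).1 a.2, (Submodule.mem_torsionBy_iff y (b : M)).1 b.2]))⟩
  rw [lReg_iff_quot ℳ 𝒩 hy IsFiniteLength.of_subsingleton π hπ hπg hker d]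
  exact and_iff_left fun m _ =>
    vanH_zero_of_regular ℳ (GrMod19.mem_plus_of_mem isPlus one_pos hy) hreg m

end LReg

section Free

variable {β : Type}

/-- The ideal of the first `m` variables. -/
noncomputable def varIdeal (k : Type u) [Field k] (n m : ℕ) : Ideal (MvPolynomial (Fin n) k) :=
  Ideal.span (X '' {i : Fin n | (i : ℕ) < m})

theorem varIdeal_isHomogeneous (m : ℕ) :
    (varIdeal k n m).IsHomogeneous (GrSyz.stdGr k (Fin n)) :=
  Ideal.homogeneous_span _ _ (by rintro _ ⟨i, -, rfl⟩; exact ⟨1, X_mem_stdGr i⟩)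

theorem mem_varIdeal_of_mul_X {m : ℕ} {i : Fin n} (hi : m ≤ (i : ℕ))
    {p : MvPolynomial (Fin n) k} (h : X i * p ∈ varIdeal k n m) : p ∈ varIdeal k n m := by
  classical
  rw [varIdeal, mem_ideal_span_X_image] at h ⊢
  intro d hd
  obtain ⟨j, hj, hne⟩ := h (Finsupp.single i 1 + d) (by
    rw [mem_support_iff, coeff_X_mul]
    exact mem_support_iff.1 hd)
  refine ⟨j, hj, ?_⟩
  have : i ≠ j := by
    rintro rfl
    exact absurd (Set.mem_ofPred_eq ▸ hj) (by omega)
  simpa [Finsupp.single_eq_of_ne this.symm] using hne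

/-- The submodule cut out by the first `m` variables. -/
noncomputable def varSub (k : Type u) [Field k] (n : ℕ) (β : Type) (m : ℕ) :
    Submodule (MvPolynomial (Fin n) k) (β → MvPolynomial (Fin n) k) :=
  Submodule.pi Set.univ fun _ => varIdeal k n m

theorem mem_varSub {m : ℕ} {v : β → MvPolynomial (Fin n) k} :
    v ∈ varSub k n β m ↔ ∀ b, v b ∈ varIdeal k n m := by
  simp [varSub, Submodule.mem_pi]

variable [Finite β] (deg : β → ℤ)

theorem varSub_isHomogeneous (m : ℕ) :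
    (varSub k n β m).IsHomogeneous (freeGr (k := k) (σ := Fin n) deg) := by
  intro d v hv
  rw [mem_varSub] at hv ⊢
  intro b
  change cmp (freeGr deg) d v b ∈ _
  rw [cmp_freeGr_apply]
  exact varIdeal_isHomogeneous m _ (hv b)

noncomputable instance varSub.decomposition (m : ℕ) :
    Decomposition (GrInj18.quotPieces (freeGr (k := k) (σ := Fin n) deg) (varSub k n β m)) :=
  (GrInj18.quotPieces_isInternal _ (varSub_isHomogeneous deg m)).chooseDecomposition

instance varSub.gradedSMul (m : ℕ) : SetLike.GradedSMul (GrSyz.stdGr k (Fin n))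
    (GrInj18.quotPieces (freeGr (k := k) (σ := Fin n) deg) (varSub k n β m)) :=
  ⟨fun _ _ a x ha hx => by
    obtain ⟨v, hv, rfl⟩ := hx
    exact ⟨a • v, GrInj18.smul_mem_add (GrSyz.stdGr k (Fin n)) (freeGr deg) ha hv,
      map_smul (varSub k n β m).mkQ a v⟩⟩

theorem lReg_quot_varSub_last {d : ℤ} (hdeg : ∀ b, deg b ≤ d) :
    LReg (k := k) (n := n)
      (GrInj18.quotPieces (freeGr (k := k) (σ := Fin n) deg) (varSub k n β n)) d := by
  refine lReg_of_bounded _ fun e he x hx => ?_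
  obtain ⟨v, hv, rfl⟩ := hx
  refine (Submodule.Quotient.mk_eq_zero _).2 (mem_varSub.2 fun b => ?_)
  have hset : {i : Fin n | (i : ℕ) < n} = Set.univ := Set.eq_univ_of_forall fun i => i.2
  rw [varIdeal, hset, Set.image_univ, ← irrel_eq_span_X, mem_irrel]
  exact constantCoeff_eq_zero_of_mem (by have := hdeg b; omega) (mem_freeGr.1 hv b)

theorem varIdeal_succ (i : Fin n) :
    varIdeal k n ((i : ℕ) + 1) =
      Ideal.span (insert (X i) (X '' {l : Fin n | (l : ℕ) < i})) := by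
  have hsucc : {l : Fin n | (l : ℕ) < (i : ℕ) + 1} = insert i {l : Fin n | (l : ℕ) < i} := by
    ext l
    simp only [Set.mem_ofPred_eq, Set.mem_insert_iff, Fin.ext_iff]
    omega
  rw [varIdeal, hsucc, Set.image_insert_eq]

theorem varSub_le_succ (i : Fin n) : varSub k n β (i : ℕ) ≤ varSub k n β ((i : ℕ) + 1) :=
  fun v hv => mem_varSub.2 fun b => by
    rw [varIdeal_succ]
    exact Ideal.span_mono (Set.subset_insert _ _) (mem_varSub.1 hv b)

theorem isSMulRegular_quot_varSub (i : Fin n) :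
    IsSMulRegular ((β → MvPolynomial (Fin n) k) ⧸ varSub k n β (i : ℕ))
      (X i : MvPolynomial (Fin n) k) := by
  rw [isSMulRegular_iff_right_eq_zero_of_smul]
  intro x hx
  obtain ⟨v, rfl⟩ := Submodule.mkQ_surjective _ x
  rw [← map_smul] at hx
  have hx' := mem_varSub.1 ((Submodule.Quotient.mk_eq_zero _).1 hx)
  exact (Submodule.Quotient.mk_eq_zero _).2 (mem_varSub.2 fun b =>
    mem_varIdeal_of_mul_X le_rfl (hx' b))

theorem ker_factor_varSub (i : Fin n) :
    LinearMap.ker (Submodule.factor (varSub_le_succ (k := k) (β := β) i)) =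
      LinearMap.range ((X i : MvPolynomial (Fin n) k) •
        (LinearMap.id : ((β → MvPolynomial (Fin n) k) ⧸ varSub k n β (i : ℕ)) →ₗ[MvPolynomial (Fin n) k] _)) := by
  refine le_antisymm (fun x hx => ?_) ?_
  · obtain ⟨v, rfl⟩ := Submodule.mkQ_surjective _ x
    have hv := mem_varSub.1 ((Submodule.Quotient.mk_eq_zero _).1 hx)
    have hv' : ∀ b, ∃ a z, z ∈ varIdeal k n (i : ℕ) ∧ v b = a * X i + z := fun b => by
      have := hv b
      rwa [varIdeal_succ, Ideal.mem_span_insert] at this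
    choose a z hz hvz using hv'
    refine ⟨(varSub k n β (i : ℕ)).mkQ a, ?_⟩
    rw [LinearMap.smul_apply, LinearMap.id_apply, ← map_smul]
    refine ((Submodule.Quotient.eq _).2 (mem_varSub.2 fun b => ?_))
    rw [Pi.sub_apply, Pi.smul_apply, smul_eq_mul, hvz, mul_comm, sub_add_cancel_left]
    exact neg_mem (hz b)
  · rintro x ⟨y, rfl⟩
    obtain ⟨v, rfl⟩ := Submodule.mkQ_surjective _ y
    refine (Submodule.Quotient.mk_eq_zero _).2 (mem_varSub.2 fun b => ?_)
    rw [varIdeal_succ]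
    exact Ideal.mul_mem_right _ _ (Ideal.subset_span (Set.mem_insert _ _))

theorem lReg_quot_varSub_step {d : ℤ} (i : Fin n)
    (h : LReg (k := k) (n := n)
      (GrInj18.quotPieces (freeGr (k := k) (σ := Fin n) deg) (varSub k n β ((i : ℕ) + 1))) d) :
    LReg (k := k) (n := n)
      (GrInj18.quotPieces (freeGr (k := k) (σ := Fin n) deg) (varSub k n β (i : ℕ))) d := by
  have hg : GrLC.IsGrHom
      (GrInj18.quotPieces (freeGr (k := k) (σ := Fin n) deg) (varSub k n β (i : ℕ)))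
      (GrInj18.quotPieces (freeGr (k := k) (σ := Fin n) deg) (varSub k n β ((i : ℕ) + 1)))
      (Submodule.factor (varSub_le_succ (k := k) (β := β) i)) := by
    rintro e _ ⟨v, hv, rfl⟩
    exact ⟨v, hv, rfl⟩
  exact (lReg_iff_quot_of_regular _ _ (X_mem_stdGr i) (isSMulRegular_quot_varSub i) _
    (Submodule.factor_surjective _) hg (ker_factor_varSub i) d).2 h

theorem lReg_quot_varSub {d : ℤ} (hdeg : ∀ b, deg b ≤ d) (j : ℕ) :
    ∀ m : ℕ, m + j = n → LReg (k := k) (n := n)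
      (GrInj18.quotPieces (freeGr (k := k) (σ := Fin n) deg) (varSub k n β m)) d := by
  induction j with
  | zero =>
    intro m hm
    obtain rfl : m = n := by omega
    exact lReg_quot_varSub_last deg hdeg
  | succ j ih =>
    intro m hm
    exact lReg_quot_varSub_step deg ⟨m, by omega⟩ (ih (m + 1) (by omega))

theorem lReg_freeGr {d : ℤ} (hdeg : ∀ b, deg b ≤ d) :
    LReg (k := k) (n := n) (freeGr (k := k) (σ := Fin n) deg) d := by
  have h0 : varSub k n β 0 = ⊥ := by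
    refine (Submodule.eq_bot_iff _).2 fun v hv => funext fun b => ?_
    have := mem_varSub.1 hv b
    simpa [varIdeal] using this
  refine lReg_of_equiv _ _ (Submodule.quotEquivOfEqBot _ h0).symm ?_ ?_
    (lReg_quot_varSub deg hdeg n 0 (zero_add n))
  · exact fun e v hv => ⟨v, hv, rfl⟩
  · rintro e _ ⟨v, hv, rfl⟩
    exact hv

end Free

section Res

omit [Field k] in
theorem isEmpty_pi_subsingleton {β : Type} [IsEmpty β] {A : Type*} : Subsingleton (β → A) :=
  inferInstance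

variable {M : Type u} [AddCommGroup M] [Module (MvPolynomial (Fin n) k) M] {τ : Type u}
  [SetLike τ M] [AddSubgroupClass τ M] (ℳ : ℤ → τ) [Decomposition ℳ]
  [SetLike.GradedSMul (GrSyz.stdGr k (Fin n)) ℳ]

/-- The kernel of the augmentation, with its sequence. -/
theorem ses_aug {C : FC (MvPolynomial (Fin n) k)} {deg : C.ι 0 → ℤ}
    {ε : (C.ι 0 → MvPolynomial (Fin n) k) →ₗ[MvPolynomial (Fin n) k] M}
    (hs : Function.Surjective ε) (hε : GrLC.IsGrHom (freeGr deg) ℳ ε) :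
    GrMod19.Ses (GrInj18.subGr (freeGr deg) (LinearMap.ker ε)) (freeGr deg) ℳ
      (LinearMap.ker ε).subtype ε 0 :=
  ⟨(GrInj18.isGrHomDeg_zero_iff _ _).2 (GrInj18.isGrHom_subtype _ _), hε,
    Submodule.injective_subtype _, LinearMap.exact_subtype_ker_map ε, hs⟩

end Res

theorem lReg_of_res : ∀ (L : ℕ) (C : FC (MvPolynomial (Fin n) k)) (deg : ∀ i, C.ι i → ℤ)
    {M : Type u} [AddCommGroup M] [Module (MvPolynomial (Fin n) k) M] {τ : Type u}
    [SetLike τ M] [AddSubgroupClass τ M] (ℳ : ℤ → τ) [Decomposition ℳ]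
    [SetLike.GradedSMul (GrSyz.stdGr k (Fin n)) ℳ]
    (ε : (C.ι 0 → MvPolynomial (Fin n) k) →ₗ[MvPolynomial (Fin n) k] M),
    C.IsRes ε → GrLC.IsGrHom (freeGr (deg 0)) ℳ ε →
    (∀ i, GrLC.IsGrHom (freeGr (deg (i + 1))) (freeGr (deg i)) (C.d i)) →
    (∀ i, L ≤ i → IsEmpty (C.ι i)) → ∀ d : ℤ, (∀ i b, deg i b ≤ d + i) →
    LReg (k := k) (n := n) ℳ d
  | 0, C, deg, M, _, _, τ, _, _, ℳ, _, _, ε, hC, _, _, hL, d, _ => fun i m _ => by
    have := hL 0 le_rfl
    have : Subsingleton M := hC.surj.subsingleton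
    exact GrMod19.vanH_of_subsingleton 𝔞 i m
  | L + 1, C, deg, M, _, _, τ, _, _, ℳ, _, _, ε, hC, hε, hd, hL, d, hle => fun i m hm => by
    let : Decomposition (GrInj18.subGr (freeGr (deg 0)) (LinearMap.ker ε)) :=
      (GrInj18.subGr_isInternal _ (GrInj18.isHomogeneous_ker _ _ hε)).chooseDecomposition
    refine GrMod19.vanH_right 𝔞 (ses_aug ℳ hC.surj hε)
      (lReg_freeGr (deg 0) (fun b => by simpa using hle 0 b) i m hm) ?_
    refine lReg_of_res L C.tail (fun i => deg (i + 1))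
      (GrInj18.subGr (freeGr (deg 0)) (LinearMap.ker ε)) _ (FC.tail_isRes hC)
      (fun e v hv => hd 0 e v hv) (fun j => hd (j + 1)) (fun j hj => hL (j + 1) (by omega))
      (d + 1) (fun j b => by have := hle (j + 1) b; push_cast at this; omega) (i + 1) _ ?_
    push_cast
    omega

theorem deg_le_of_lReg : ∀ (i : ℕ) (C : FC (MvPolynomial (Fin n) k)) (deg : ∀ i, C.ι i → ℤ)
    {M : Type u} [AddCommGroup M] [Module (MvPolynomial (Fin n) k) M] {τ : Type u}
    [SetLike τ M] [AddSubgroupClass τ M] (ℳ : ℤ → τ) [Decomposition ℳ]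
    [SetLike.GradedSMul (GrSyz.stdGr k (Fin n)) ℳ]
    (ε : (C.ι 0 → MvPolynomial (Fin n) k) →ₗ[MvPolynomial (Fin n) k] M),
    C.IsRes ε → GrLC.IsGrHom (freeGr (deg 0)) ℳ ε →
    (∀ i, GrLC.IsGrHom (freeGr (deg (i + 1))) (freeGr (deg i)) (C.d i)) →
    (∀ i, C.MinAt (𝔞).toIdeal i) → ∀ d : ℤ, LReg (k := k) (n := n) ℳ d →
    ∀ b, deg i b ≤ d + i
  | 0, C, deg, M, _, _, τ, _, _, ℳ, _, _, ε, hC, hε, _, hmin, d, h, b => by
    classical
    by_contra hb
    simp only [Nat.cast_zero, add_zero, not_le] at hb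
    let e : C.ι 0 → MvPolynomial (Fin n) k := Pi.single b 1
    have hmem : ε e ∈ ℳ (deg 0 b) := hε _ _ (single_one_mem b)
    have hm' : ε e ∈ (𝔞).toIdeal • (⊤ : Submodule (MvPolynomial (Fin n) k) M) :=
      GrMod19.mem_smul_of_vanH irrel_eq_span_one (GrMod19.selfN ℳ)
        ((GrMod19.vanH_selfN ℳ 𝔞).2 (h 0 _ (by simpa using hb)))
        (fun j hj => (GrMod19.vanH_selfN ℳ 𝔞).2 (h j _ (by omega))) hmem
    rw [← LinearMap.range_eq_top.2 hC.surj, ← Submodule.map_top ε, ← Submodule.map_smul''] at hm'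
    obtain ⟨v, hv, hve⟩ := hm'
    have hvb : v b ∈ (𝔞).toIdeal := by
      refine Submodule.smul_induction_on hv (fun r hr x _ => ?_) fun x y hx hy => add_mem hx hy
      rw [Pi.smul_apply, smul_eq_mul]
      exact Ideal.mul_mem_right _ _ hr
    obtain ⟨u, hu⟩ := hC.exists_of_ker (v := e - v) (by rw [map_sub, hve, sub_self])
    have h1 : (e - v) b ∈ (𝔞).toIdeal := hu ▸ hmin 0 u b
    have h2 := add_mem h1 hvb
    rw [Pi.sub_apply, sub_add_cancel, mem_irrel] at h2
    simp [e] at h2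
  | i + 1, C, deg, M, _, _, τ, _, _, ℳ, _, _, ε, hC, hε, hd, hmin, d, h, b => by
    let : Decomposition (GrInj18.subGr (freeGr (deg 0)) (LinearMap.ker ε)) :=
      (GrInj18.subGr_isInternal _ (GrInj18.isHomogeneous_ker _ _ hε)).chooseDecomposition
    have hF : LReg (k := k) (n := n) (freeGr (k := k) (σ := Fin n) (deg 0)) d :=
      lReg_freeGr (deg 0) fun b => by
        simpa using deg_le_of_lReg 0 C deg ℳ ε hC hε hd hmin d h b
    have hZ : LReg (k := k) (n := n) (GrInj18.subGr (freeGr (deg 0)) (LinearMap.ker ε)) (d + 1) := by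
      rintro (_ | j) m hm
      · exact GrMod19.vanH_left_zero 𝔞 (ses_aug ℳ hC.surj hε)
          (by rw [add_zero]; exact hF 0 m (by simp at hm ⊢; omega))
      · exact GrMod19.vanH_left 𝔞 (ses_aug ℳ hC.surj hε)
          (by rw [add_zero]; exact h j m (by push_cast at hm; omega))
          (by rw [add_zero]; exact hF (j + 1) m (by omega))
    have := deg_le_of_lReg i C.tail (fun i => deg (i + 1))
      (GrInj18.subGr (freeGr (deg 0)) (LinearMap.ker ε)) _ (FC.tail_isRes hC)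
      (fun e v hv => hd 0 e v hv) (fun j => hd (j + 1)) (fun j => hmin (j + 1)) (d + 1) hZ b
    push_cast
    omega

section Main

variable {M : Type u} [AddCommGroup M] [Module (MvPolynomial (Fin n) k) M] {τ : Type u}
  [SetLike τ M] [AddSubgroupClass τ M] {ℳ : ℤ → τ} [Decomposition ℳ]
  [SetLike.GradedSMul (GrSyz.stdGr k (Fin n)) ℳ]

theorem lReg_iff_isGenLE (F : GrSyz.FreeRes (GrSyz.stdGr k (Fin n)) ℳ)
    (hF : F.IsMinimal (GrSyz.irrel (GrSyz.stdGr k (Fin n))).toIdeal) (d : ℤ) :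
    LReg (k := k) (n := n) ℳ d ↔ F.IsGenLE d := by
  refine ⟨fun h i b => deg_le_of_lReg i (toFC F) F.deg ℳ F.augLin (toFC_isRes F) (augLin_grHom F)
    (dLin_grHom F) (fun j v a => irrel_eq_ker (k := k) (σ := Fin n) ▸ minAt_of_isMinimal F hF j v a)
    d h b, fun h => lReg_of_res (n + 1) (toFC F) F.deg ℳ F.augLin (toFC_isRes F)
      (augLin_grHom F) (dLin_grHom F) (fun i hi => ?_) d h⟩
  change IsEmpty (Fin (F.rk i))
  rw [rk_eq_zero_of_minimal F hF i (by omega)]
  infer_instance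

theorem endDeg_add_le_iff (E : GrLC.StarInjRes (GrSyz.stdGr k (Fin n)) ℳ) (i : ℕ) (d : ℤ) :
    GrLC.endDeg (E.Hgr 𝔞 i) + (((i : ℤ) : WithTop ℤ) : WithBot (WithTop ℤ)) ≤
        ((d : WithTop ℤ) : WithBot (WithTop ℤ)) ↔
      ∀ m, d < m + i → GrMod19.VanH 𝔞 ℳ i m := by
  have key : ∀ x : WithBot (WithTop ℤ), x + (((i : ℤ) : WithTop ℤ) : WithBot (WithTop ℤ)) ≤
      ((d : WithTop ℤ) : WithBot (WithTop ℤ)) ↔
      x ≤ ((d - i : ℤ) : WithTop ℤ) := by
    intro x
    induction x using WithBot.recBotCoe with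
    | bot => simp
    | coe t =>
      induction t using WithTop.recTopCoe with
      | top =>
        rw [← WithBot.coe_add, WithTop.top_add, WithBot.coe_le_coe, WithBot.coe_le_coe]
        simp
      | coe a =>
        rw [← WithBot.coe_add, ← WithTop.coe_add, WithBot.coe_le_coe, WithBot.coe_le_coe,
          WithTop.coe_le_coe, WithTop.coe_le_coe]
        omega
  rw [key, GrMod19.endDeg_le_iff]
  refine forall_congr' fun m => imp_congr (by omega) ?_
  rw [GrMod19.vanH_iff 𝔞 E, GrMod19.Hcomp_eq_bot_iff E]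

/-- The regularity is determined by the vanishing of local cohomology. -/
theorem reg_eq_of_forall [Module.Finite (MvPolynomial (Fin n) k) M] {X : WithBot (WithTop ℤ)}
    (h : ∀ d : ℤ, LReg (k := k) (n := n) ℳ d ↔ X ≤ ((d : WithTop ℤ) : WithBot (WithTop ℤ))) :
    GrSyz.reg (GrSyz.stdGr k (Fin n)) ℳ (GrSyz.irrel (GrSyz.stdGr k (Fin n))).toIdeal = X := by
  obtain ⟨F, hF⟩ := exists_freeRes_isMinimal (k := k) (σ := Fin n) M ℳ
  obtain ⟨r, hr⟩ := exists_isGenLE F (rk_eq_zero_of_minimal F hF)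
  unfold GrSyz.reg
  rw [← iInf_ge_eq (X := X) ⟨r, (h r).1 ((lReg_iff_isGenLE F hF r).2 hr)⟩]
  refine iInf_congr fun d => iInf_congr_Prop ?_ fun _ => rfl
  rw [isRegLE_iff_isGenLE F hF, ← lReg_iff_isGenLE F hF, h]

end Main

end Groth.Agent.GrSyz54

namespace Groth.Agent.GrSyz54

open scoped Pointwise

section Seq

variable {k : Type u} [Field k] {n : ℕ}
  {M : Type u} [AddCommGroup M] [Module (MvPolynomial (Fin n) k) M] {τ : Type u}
  [SetLike τ M] [AddSubgroupClass τ M] (ℳ : ℤ → τ) [Decomposition ℳ]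
  [SetLike.GradedSMul (GrSyz.stdGr k (Fin n)) ℳ]

theorem reg_le_iff [Module.Finite (MvPolynomial (Fin n) k) M] (d : ℤ) :
    GrSyz.reg (GrSyz.stdGr k (Fin n)) ℳ (GrSyz.irrel (GrSyz.stdGr k (Fin n))).toIdeal ≤
      ((d : WithTop ℤ) : WithBot (WithTop ℤ)) ↔ LReg (k := k) (n := n) ℳ d := by
  obtain ⟨F, hF⟩ := exists_freeRes_isMinimal (k := k) (σ := Fin n) M ℳ
  rw [reg_eq_iSup F hF, iSup_maxGenDeg_le_iff, lReg_iff_isGenLE F hF]

theorem range_smul_id_eq (y : MvPolynomial (Fin n) k) :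
    LinearMap.range (y • (LinearMap.id : M →ₗ[MvPolynomial (Fin n) k] M)) =
      y • (⊤ : Submodule (MvPolynomial (Fin n) k) M) := by
  ext x
  simp [Submodule.mem_smul_pointwise_iff_exists]

theorem lReg_iff_of_weaklyRegular {N : Type u} [AddCommGroup N]
    [Module (MvPolynomial (Fin n) k) N] {τ' : Type u} [SetLike τ' N] [AddSubgroupClass τ' N]
    (𝒩 : ℤ → τ') [Decomposition 𝒩] [SetLike.GradedSMul (GrSyz.stdGr k (Fin n)) 𝒩] (d : ℤ) :
    ∀ (ys : List (MvPolynomial (Fin n) k)), (∀ y ∈ ys, y ∈ GrSyz.stdGr k (Fin n) 1) →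
    ∀ {M : Type u} [AddCommGroup M] [Module (MvPolynomial (Fin n) k) M]
      [Module.Finite (MvPolynomial (Fin n) k) M] {τ : Type u} [SetLike τ M] [AddSubgroupClass τ M]
      (ℳ : ℤ → τ) [Decomposition ℳ] [SetLike.GradedSMul (GrSyz.stdGr k (Fin n)) ℳ],
      RingTheory.Sequence.IsWeaklyRegular M ys →
      ∀ π : M →ₗ[MvPolynomial (Fin n) k] N, Function.Surjective π → GrLC.IsGrHom ℳ 𝒩 π →
        LinearMap.ker π = Ideal.ofList ys • (⊤ : Submodule (MvPolynomial (Fin n) k) M) →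
        (LReg (k := k) (n := n) ℳ d ↔ LReg (k := k) (n := n) 𝒩 d) := by
  intro ys
  induction ys with
  | nil =>
    intro _ M _ _ _ τ _ _ ℳ _ _ _ π hπ hπg hker
    have hker' : LinearMap.ker π = ⊥ := by rw [hker]; simp
    let e := LinearEquiv.ofBijective π ⟨LinearMap.ker_eq_bot.1 hker', hπ⟩
    have he : GrLC.IsGrHom ℳ 𝒩 e.toLinearMap := hπg
    have he' := GrInj18.isGrHom_symm ℳ 𝒩 (f := e) he
    exact ⟨lReg_of_equiv 𝒩 ℳ e.symm he' (by simpa using he), lReg_of_equiv ℳ 𝒩 e he he'⟩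
  | cons y ys ih =>
    intro hys M _ _ _ τ _ _ ℳ _ _ hreg π hπ hπg hker
    have hy := hys y (by simp)
    rw [RingTheory.Sequence.isWeaklyRegular_cons_iff] at hreg
    let P : Submodule (MvPolynomial (Fin n) k) M := y • ⊤
    have hP : P.IsHomogeneous ℳ := by
      change (y • (⊤ : Submodule (MvPolynomial (Fin n) k) M)).IsHomogeneous ℳ
      rw [← range_smul_id_eq, LinearMap.range_eq_map]
      refine GrInj18.isHomogeneous_map ℳ ℳ (g := 1) (fun j x hx => ?_)
        (GrInj18.isHomogeneous_top ℳ)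
      rw [LinearMap.smul_apply, LinearMap.id_apply, add_comm]
      exact GrMod19.smul_mem_add (GrSyz.stdGr k (Fin n)) ℳ hy hx
    let : Decomposition (GrInj18.quotPieces ℳ P) :=
      (GrInj18.quotPieces_isInternal ℳ hP).chooseDecomposition
    have : SetLike.GradedSMul (GrSyz.stdGr k (Fin n)) (GrInj18.quotPieces ℳ P) :=
      ⟨fun _ _ a x ha hx => by
        obtain ⟨m, hm, rfl⟩ := hx
        exact ⟨a • m, GrMod19.smul_mem_add (GrSyz.stdGr k (Fin n)) ℳ ha hm, map_smul P.mkQ a m⟩⟩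
    rw [lReg_iff_quot_of_regular ℳ (GrInj18.quotPieces ℳ P) hy hreg.1 P.mkQ P.mkQ_surjective
      (GrInj18.isGrHom_mkQ ℳ P) (by rw [Submodule.ker_mkQ, range_smul_id_eq]) d]
    have hsplit : Ideal.ofList (y :: ys) • (⊤ : Submodule (MvPolynomial (Fin n) k) M) =
        P ⊔ Ideal.ofList ys • ⊤ := by
      rw [Ideal.ofList_cons, Submodule.sup_smul, Submodule.ideal_span_singleton_smul]
    have hle : P ≤ LinearMap.ker π := by
      rw [hker, hsplit]
      exact le_sup_left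
    refine ih (fun z hz => hys z (by simp [hz])) (GrInj18.quotPieces ℳ P) hreg.2 (P.liftQ π hle)
      (fun x => ?_) ?_ ?_
    · obtain ⟨m, rfl⟩ := hπ x
      exact ⟨P.mkQ m, rfl⟩
    · rintro j _ ⟨m, hm, rfl⟩
      exact hπg j m hm
    · rw [Submodule.ker_liftQ, hker, hsplit, Submodule.map_sup, Submodule.map_smul'',
        Submodule.map_top, Submodule.range_mkQ, Submodule.mkQ_map_self, bot_sup_eq]

end Seq

end Groth.Agent.GrSyz54
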