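import Groth.Agent.GrSyz54.SES

/-!
Homotopies of lifts of zero; copies of a complex; grading of a cone.
-/

universe u v

open MvPolynomial

namespace Groth.Agent.GrSyz54

namespace FC

variable {S : Type u} [CommRing S] {C F : FC S} {M : Type v} [AddCommGroup M] [Module S M]
  {ε : (F.ι 0 → S) →ₗ[S] M}

/-- A lift of the zero map is null homotopic, stated one spot at a time. -/
theorem exists_homotopy (hF : F.IsRes ε) (hC : ∀ i v, C.d i (C.d (i + 1) v) = 0)
    (θ : ∀ i, (C.ι i → S) →ₗ[S] (F.ι i → S)) (h0 : ∀ v, ε (θ 0 v) = 0)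
    (hc : ∀ i v, F.d i (θ (i + 1) v) = θ i (C.d i v)) :
    ∀ i, ∃ h : (C.ι i → S) →ₗ[S] (F.ι (i + 1) → S),
      ∀ v, θ (i + 1) v - h (C.d i v) ∈ LinearMap.range (F.d (i + 1)) := by
  obtain ⟨h₀, hh₀⟩ := exists_comp_eq (θ 0) (F.d 0) fun v => by
    rw [← hF.exact_zero, LinearMap.mem_ker]; exact h0 v
  intro i
  induction i with
  | zero =>
    refine ⟨h₀, fun v => ?_⟩
    rw [← hF.exact_succ 0, LinearMap.mem_ker, map_sub, hc, hh₀, sub_self]
  | succ i ih =>
    obtain ⟨h, hh⟩ := ih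
    obtain ⟨h', hh'⟩ := exists_comp_eq (θ (i + 1) - h.comp (C.d i)) (F.d (i + 1)) fun v => by
      simpa using hh v
    refine ⟨h', fun v => ?_⟩
    rw [← hF.exact_succ (i + 1), LinearMap.mem_ker, map_sub, hc, hh']
    simp [hC]

/-- A lift of zero into a minimal complex is zero modulo `I` on mod-`I` cycles. -/
theorem mem_of_lifts_zero (hF : F.IsRes ε) {I : Ideal S} (hI : ∀ i, F.MinAt I i)
    (hC : ∀ i v, C.d i (C.d (i + 1) v) = 0)
    (θ : ∀ i, (C.ι i → S) →ₗ[S] (F.ι i → S)) (h0 : ∀ v, ε (θ 0 v) = 0)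
    (hc : ∀ i v, F.d i (θ (i + 1) v) = θ i (C.d i v)) (i : ℕ) {v : C.ι (i + 1) → S}
    (hv : ∀ c, C.d i v c ∈ I) (a : F.ι (i + 1)) : θ (i + 1) v a ∈ I := by
  obtain ⟨h, hh⟩ := exists_homotopy hF hC θ h0 hc i
  obtain ⟨u, hu⟩ := hh v
  have := C.fin i
  have e : θ (i + 1) v a = F.d (i + 1) u a + h (C.d i v) a := by
    rw [hu, Pi.sub_apply, sub_add_cancel]
  rw [e]
  exact add_mem (hI _ _ _) (map_mem_of_coord_mem h hv a)

/-- Finitely many copies of a complex. -/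
@[reducible] noncomputable def copies (F : FC S) (n : ℕ) : FC S where
  ι i := Fin n × F.ι i
  fin i := @Finite.instProd _ _ _ (F.fin i)
  d i := LinearMap.pi fun x =>
    (LinearMap.proj x.2).comp ((F.d i).comp (LinearMap.funLeft S S fun b => (x.1, b)))

theorem copies_d_apply (F : FC S) (n : ℕ) (i : ℕ) (w : Fin n × F.ι (i + 1) → S) (v : Fin n)
    (a : F.ι i) : (F.copies n).d i w (v, a) = F.d i (fun b => w (v, b)) a := rfl

theorem copies_d_part (F : FC S) (n : ℕ) (i : ℕ) (w : Fin n × F.ι (i + 1) → S) (v : Fin n) :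
    (fun a => (F.copies n).d i w (v, a)) = F.d i (fun b => w (v, b)) := rfl

/-- The augmentation of copies. -/
noncomputable def copiesAug (F : FC S) (n : ℕ) (ε : (F.ι 0 → S) →ₗ[S] M) :
    ((F.copies n).ι 0 → S) →ₗ[S] (Fin n → M) :=
  LinearMap.pi fun v => ε.comp (LinearMap.funLeft S S fun b => (v, b))

theorem copies_isRes (hF : F.IsRes ε) (n : ℕ) : (F.copies n).IsRes (F.copiesAug n ε) := by
  refine ⟨fun m => ?_, le_antisymm (fun w hw => ?_) ?_,
    fun i => le_antisymm (fun w hw => ?_) ?_⟩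
  · choose u hu using fun v => hF.surj (m v)
    exact ⟨fun x => u x.1 x.2, funext fun v => hu v⟩
  · choose u hu using fun v => hF.exists_of_ker (v := fun b => w (v, b)) (congr_fun hw v)
    refine ⟨fun x => u x.1 x.2, funext fun x => ?_⟩
    rw [copies_d_apply]
    exact congr_fun (hu x.1) x.2
  · rintro _ ⟨w, rfl⟩
    rw [LinearMap.mem_ker]
    funext v
    change ε (fun b => (F.copies n).d 0 w (v, b)) = 0
    rw [copies_d_part]
    exact hF.aug_d _
  · choose u hu using fun v => hF.exact_succ.exists_of_ker (v := fun b => w (v, b))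
      (funext fun a => congr_fun hw (v, a))
    refine ⟨fun x => u x.1 x.2, funext fun x => ?_⟩
    rw [copies_d_apply]
    exact congr_fun (hu x.1) x.2
  · rintro _ ⟨w, rfl⟩
    rw [LinearMap.mem_ker]
    funext x
    rw [copies_d_apply, copies_d_part, hF.exact_succ.d_d]
    rfl

end FC

variable {k : Type u} [Field k] {σ : Type}

/-- Degrees of the basis of a cone. -/
def coneDeg {K F : FC (MvPolynomial σ k)} (φ : ∀ i, (K.ι i → MvPolynomial σ k) →ₗ[MvPolynomial σ k]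
      (F.ι i → MvPolynomial σ k)) (dK : ∀ i, K.ι i → ℤ) (dF : ∀ i, F.ι i → ℤ) :
    ∀ i, (FC.cone K F φ).ι i → ℤ
  | 0 => dF 0
  | i + 1 => Sum.elim (dK i) (dF (i + 1))

theorem cone_grHom {K F : FC (MvPolynomial σ k)} {φ : ∀ i, (K.ι i → MvPolynomial σ k) →ₗ[MvPolynomial σ k]
      (F.ι i → MvPolynomial σ k)} {dK : ∀ i, K.ι i → ℤ} {dF : ∀ i, F.ι i → ℤ}
    (hK : ∀ i, GrLC.IsGrHom (freeGr (dK (i + 1))) (freeGr (dK i)) (K.d i))
    (hF : ∀ i, GrLC.IsGrHom (freeGr (dF (i + 1))) (freeGr (dF i)) (F.d i))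
    (hφ : ∀ i, GrLC.IsGrHom (freeGr (dK i)) (freeGr (dF i)) (φ i)) (i : ℕ) :
    GrLC.IsGrHom (freeGr (coneDeg φ dK dF (i + 1))) (freeGr (coneDeg φ dK dF i))
      ((FC.cone K F φ).d i) := by
  intro d w hw
  cases i with
  | zero =>
    rw [FC.cone_d_zero]
    exact add_mem (hφ 0 _ _ (inl_mem_freeGr hw)) (hF 0 _ _ (inr_mem_freeGr hw))
  | succ i =>
    rw [FC.cone_d_succ]
    exact elim_mem_freeGr (neg_mem (hK i _ _ (inl_mem_freeGr hw)))
      (add_mem (hφ _ _ _ (inl_mem_freeGr hw)) (hF _ _ _ (inr_mem_freeGr hw)))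

theorem copies_grHom {F : FC (MvPolynomial σ k)} {dF : ∀ i, F.ι i → ℤ} (n : ℕ) (c : ℤ)
    (hF : ∀ i, GrLC.IsGrHom (freeGr (dF (i + 1))) (freeGr (dF i)) (F.d i)) (i : ℕ) :
    GrLC.IsGrHom (freeGr fun x : Fin n × F.ι (i + 1) => dF (i + 1) x.2 + c)
      (freeGr fun x : Fin n × F.ι i => dF i x.2 + c) ((F.copies n).d i) := by
  intro d w hw
  rw [mem_freeGr] at hw ⊢
  intro x
  rw [FC.copies_d_apply, show d - (dF i x.2 + c) = (d - c) - dF i x.2 by ring]
  refine mem_freeGr.1 (hF i (d - c) _ (mem_freeGr.2 fun b => ?_)) x.2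
  rw [show d - c - dF (i + 1) b = d - (dF (i + 1) b + c) by ring]
  exact hw (x.1, b)

end Groth.Agent.GrSyz54
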