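import Groth.Agent.GrSyz54.Lifts
import Groth.Agent.GrSyz54.LCReg

/-!
Iterated linear syzygy modules bound the degrees of a minimal resolution.
-/

universe u

open DirectSum MvPolynomial

namespace Groth.Agent.GrSyz54

variable {k : Type u} [Field k] {n : ℕ}

section Pieces

variable {R : Type u} [AddCommGroup R] [Module (MvPolynomial (Fin n) k) R] {τ : Type u}
  [SetLike τ R] [AddSubgroupClass τ R]

/-- The grading of `R(-1)^n`. -/
def piGr (ℛ : ℤ → τ) (n : ℕ) (d : ℤ) : AddSubgroup (Fin n → R) where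
  carrier := {y | ∀ v, y v ∈ ℛ (d - 1)}
  zero_mem' v := zero_mem _
  add_mem' hx hy v := add_mem (hx v) (hy v)
  neg_mem' hx v := neg_mem (hx v)

theorem mem_piGr {ℛ : ℤ → τ} {d : ℤ} {y : Fin n → R} : y ∈ piGr ℛ n d ↔ ∀ v, y v ∈ ℛ (d - 1) :=
  Iff.rfl

theorem piGr_isInternal (ℛ : ℤ → τ) [Decomposition ℛ] : IsInternal (piGr ℛ n) := by
  classical
  refine GrMod19.isInternal_of_proj
    (fun d => Pi.addMonoidHom fun v => (GrMod19.cmp ℛ (d - 1)).comp (Pi.evalAddMonoidHom _ v))
    _ (fun d m v => GrMod19.cmp_mem ℛ _ _) (fun d m hm => funext fun v => GrMod19.cmp_of_mem ℛ (hm v))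
    (fun d e m hm hne => funext fun v => GrMod19.cmp_of_ne ℛ (hm v) (by omega)) fun m => ?_
  refine ⟨Finset.univ.biUnion fun v => (GrMod19.finite_cmp_ne_zero ℛ (m v)).toFinset.image (· + 1),
    funext fun v => ?_⟩
  rw [Finset.sum_apply]
  refine GrMod19.eq_of_cmp ℛ fun d => ?_
  rw [map_sum, Finset.sum_eq_single (d + 1)]
  · change GrMod19.cmp ℛ d (GrMod19.cmp ℛ (d + 1 - 1) (m v)) = _
    rw [add_sub_cancel_right]
    exact GrMod19.cmp_of_mem ℛ (GrMod19.cmp_mem ℛ _ _)
  · intro e _ he
    exact GrMod19.cmp_of_ne ℛ (GrMod19.cmp_mem ℛ _ _) (by omega)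
  · intro h
    have : GrMod19.cmp ℛ d (m v) = 0 := by
      by_contra h'
      exact h (Finset.mem_biUnion.2 ⟨v, Finset.mem_univ v,
        Finset.mem_image.2 ⟨d, (Set.Finite.mem_toFinset _).2 h', rfl⟩⟩)
    change GrMod19.cmp ℛ d (GrMod19.cmp ℛ (d + 1 - 1) (m v)) = 0
    rw [add_sub_cancel_right, this, map_zero]

noncomputable instance piGr.decomposition (ℛ : ℤ → τ) [Decomposition ℛ] :
    Decomposition (piGr ℛ n) := (piGr_isInternal ℛ).chooseDecomposition

instance piGr.gradedSMul (ℛ : ℤ → τ) [SetLike.GradedSMul (GrSyz.stdGr k (Fin n)) ℛ] :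
    SetLike.GradedSMul (GrSyz.stdGr k (Fin n)) (piGr ℛ n) :=
  ⟨fun {i j} a y ha hy v => by
    have := SetLike.GradedSMul.smul_mem (A := GrSyz.stdGr k (Fin n)) (B := ℛ) ha (hy v)
    rwa [vadd_eq_add, add_sub_assoc]⟩

variable (R) in
/-- The map `(m_v) ↦ ∑ x_v m_v`. -/
noncomputable def linMul : (Fin n → R) →ₗ[MvPolynomial (Fin n) k] R :=
  ∑ v, (X v : MvPolynomial (Fin n) k) • LinearMap.proj v

theorem linMul_apply (y : Fin n → R) :
    linMul (k := k) R y = ∑ v, (X v : MvPolynomial (Fin n) k) • y v := by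
  simp [linMul]

theorem linMul_grHom (ℛ : ℤ → τ) [SetLike.GradedSMul (GrSyz.stdGr k (Fin n)) ℛ] :
    GrLC.IsGrHom (piGr ℛ n) ℛ (linMul (k := k) (n := n) R) := by
  intro d y hy
  rw [linMul_apply]
  refine sum_mem fun v _ => ?_
  have := SetLike.GradedSMul.smul_mem (A := GrSyz.stdGr k (Fin n)) (B := ℛ) (X_mem_stdGr v) (hy v)
  rwa [vadd_eq_add, add_sub_cancel] at this

theorem irrel_smul_mem_range {r : MvPolynomial (Fin n) k}
    (hr : r ∈ (GrSyz.irrel (GrSyz.stdGr k (Fin n))).toIdeal) (x : R) :
    r • x ∈ LinearMap.range (linMul (k := k) (n := n) R) := by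
  classical
  rw [irrel_eq_span_X] at hr
  induction hr using Submodule.span_induction with
  | mem y hy =>
    obtain ⟨v, rfl⟩ := hy
    refine ⟨Pi.single v x, ?_⟩
    rw [linMul_apply, Finset.sum_eq_single v]
    · simp
    · intro w _ hw; simp [Pi.single_eq_of_ne hw]
    · simp
  | zero => simp
  | add a b _ _ ha hb => rw [add_smul]; exact add_mem ha hb
  | smul c a _ ha => rw [smul_eq_mul, mul_smul]; exact Submodule.smul_mem _ _ ha

end Pieces

section Words

variable {R : Type u} [AddCommGroup R] [Module (MvPolynomial (Fin n) k) R] {τ : Type u}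
  [SetLike τ R] [AddSubgroupClass τ R]

/-- The defining condition of the iterated linear syzygy modules. -/
def LinCond (i : ℕ) (m : (Fin i → Fin n) → R) : Prop :=
  ∀ (s : Fin i) (c : Fin i → Fin n),
    ∑ v : Fin n, (X v : MvPolynomial (Fin n) k) • m (Function.update c s v) = 0

/-- The iterated linear syzygy modules up to the `p`th are generated in low degrees. -/
def LinGen (ℛ : ℤ → τ) (p : ℕ) (j : ℤ) : Prop :=
  ∀ i : ℕ, i ≤ p → ∀ m : (Fin i → Fin n) → R, LinCond (k := k) i m →
    m ∈ Submodule.span (MvPolynomial (Fin n) k) {m' : (Fin i → Fin n) → R |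
      LinCond (k := k) i m' ∧ ∃ e : ℤ, e ≤ j - (p : ℤ) + (i : ℤ) - 1 ∧
        ∀ c : Fin i → Fin n, m' c ∈ ℛ (e - (i : ℤ))}

theorem LinGen.span_low {ℛ : ℤ → τ} {p : ℕ} {j : ℤ} (h : LinGen (k := k) (n := n) ℛ p j) (x : R) :
    x ∈ Submodule.span (MvPolynomial (Fin n) k) {y | ∃ e : ℤ, e ≤ j - p - 1 ∧ y ∈ ℛ e} := by
  have h1 := h 0 (Nat.zero_le p) (fun _ => x) (fun s => s.elim0)
  have h2 := Submodule.mem_map_of_mem (f := LinearMap.proj (R := MvPolynomial (Fin n) k)
    (φ := fun _ : Fin 0 → Fin n => R) Fin.elim0) h1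
  rw [Submodule.map_span] at h2
  refine Submodule.span_mono ?_ h2
  rintro _ ⟨m', ⟨-, e, he, hm'⟩, rfl⟩
  exact ⟨e, by simpa using he, by simpa using hm' Fin.elim0⟩

theorem LinGen.linSyz {ℛ : ℤ → τ} [SetLike.GradedSMul (GrSyz.stdGr k (Fin n)) ℛ] {p : ℕ} {j : ℤ}
    (h : LinGen (k := k) (n := n) ℛ (p + 1) j) :
    LinGen (k := k) (n := n) (GrInj18.subGr (piGr ℛ n) (LinearMap.ker (linMul (k := k) R))) p j := by
  intro i hi m hm
  let W := (Fin i → Fin n) → ↥(LinearMap.ker (linMul (k := k) (n := n) R))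
  let u : W →ₗ[MvPolynomial (Fin n) k] ((Fin (i + 1) → Fin n) → R) :=
    { toFun := fun w c => (w (Fin.tail c) : Fin n → R) (c 0)
      map_add' := fun _ _ => rfl
      map_smul' := fun _ _ => rfl }
  have hu : ∀ w : W, LinCond (k := k) i w ↔ LinCond (k := k) (i + 1) (u w) := by
    intro w
    constructor
    · intro hw s c
      induction s using Fin.cases with
      | zero =>
        have := LinearMap.mem_ker.1 (w (Fin.tail c)).2
        rw [linMul_apply] at this
        convert this using 3 with v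
        simp [u, Fin.tail_update_zero]
      | succ s =>
        have := congrArg (fun z : ↥(LinearMap.ker (linMul (k := k) (n := n) R)) =>
          (z : Fin n → R) (c 0)) (hw s (Fin.tail c))
        simp only [Submodule.coe_sum, Finset.sum_apply, SetLike.val_smul, Pi.smul_apply,
          ZeroMemClass.coe_zero, Pi.zero_apply] at this
        convert this using 3 with v
        simp [u, Fin.tail_update_succ, Function.update_of_ne (Fin.succ_ne_zero s).symm]
    · intro hw s c
      refine Subtype.ext (funext fun a => ?_)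
      simp only [Submodule.coe_sum, Finset.sum_apply, SetLike.val_smul, Pi.smul_apply,
        ZeroMemClass.coe_zero, Pi.zero_apply]
      have := hw s.succ (Fin.cons a c)
      convert this using 3 with v
      simp [u, ← Fin.cons_update]
  have huinj : Function.Injective u := fun a b hab => funext fun c => Subtype.ext (funext fun v => by
    have := congr_fun hab (Fin.cons v c)
    simpa [u] using this)
  have key := h (i + 1) (by omega) (u m) ((hu m).1 hm)
  rw [← (Submodule.comap_map_eq_of_injective huinj (Submodule.span _ _)), Submodule.mem_comap,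
    Submodule.map_span]
  refine Submodule.span_mono ?_ key
  rintro m' ⟨hm', e, he, hdeg⟩
  let w : W := fun c => ⟨fun v => m' (Fin.cons v c), by
    rw [LinearMap.mem_ker, linMul_apply]
    rcases isEmpty_or_nonempty (Fin n) with h0 | h0
    · simp
    · have := hm' 0 (Fin.cons h0.some c)
      simpa [Fin.update_cons_zero] using this⟩
  have huw : u w = m' := funext fun c => congrArg m' (Fin.cons_self_tail c)
  refine ⟨w, ⟨(hu w).2 (huw ▸ hm'), e, by push_cast at he; omega, fun c v => ?_⟩, huw⟩
  have := hdeg (Fin.cons v c)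
  rwa [show e - ((i + 1 : ℕ) : ℤ) = e - (i : ℤ) - 1 by push_cast; ring] at this

end Words

theorem deg_ne_of_linGen_zero {R : Type u} [AddCommGroup R] [Module (MvPolynomial (Fin n) k) R]
    {τ : Type u} [SetLike τ R] [AddSubgroupClass τ R] {ℛ : ℤ → τ} [Decomposition ℛ]
    [SetLike.GradedSMul (GrSyz.stdGr k (Fin n)) ℛ] {j : ℤ} (h : LinGen (k := k) (n := n) ℛ 0 j)
    (F : GrSyz.FreeRes (GrSyz.stdGr k (Fin n)) ℛ)
    (hF : F.IsMinimal (GrSyz.irrel (GrSyz.stdGr k (Fin n))).toIdeal) (b : Fin (F.rk 0)) :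
    F.deg 0 b ≠ j := by
  classical
  intro hb
  let e : Fin (F.rk 0) → MvPolynomial (Fin n) k := Pi.single b 1
  have hsub : Submodule.span (MvPolynomial (Fin n) k) {y | ∃ d : ℤ, d ≤ j - (0 : ℕ) - 1 ∧ y ∈ ℛ d} ≤
      (LinearMap.ker (LinearMap.proj (R := MvPolynomial (Fin n) k)
        (φ := fun _ : Fin (F.rk 0) => MvPolynomial (Fin n) k) b)).map F.augLin := by
    rw [Submodule.span_le]
    rintro y ⟨d, hd, hy⟩
    obtain ⟨u, hu, rfl⟩ := exists_homog_preimage (freeGr (F.deg 0)) ℛ (augLin_grHom F)
      (F.aug_surjective y) hy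
    refine ⟨u, ?_, rfl⟩
    have := mem_freeGr.1 hu b
    rw [stdGr_neg (by rw [hb]; push_cast at hd; omega), Submodule.mem_bot] at this
    exact this
  obtain ⟨v, hv, hve⟩ := hsub (h.span_low (F.augLin e))
  obtain ⟨u, hu⟩ := (toFC_isRes F).exists_of_ker (v := e - v) (by rw [map_sub, hve, sub_self])
  have h1 : (e - v) b ∈ m₀ := hu ▸ minAt_of_isMinimal F hF 0 u b
  rw [RingHom.mem_ker, Pi.sub_apply, map_sub, show v b = 0 from hv] at h1
  simp [e] at h1

/-- Inclusion of one copy. -/
noncomputable def pad {β : Type} (v : Fin n) : (β → MvPolynomial (Fin n) k) →ₗ[MvPolynomial (Fin n) k]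
    (Fin n × β → MvPolynomial (Fin n) k) :=
  LinearMap.pi fun x => if x.1 = v then LinearMap.proj x.2 else 0

theorem pad_same {β : Type} (v : Fin n) (z : β → MvPolynomial (Fin n) k) (b : β) :
    pad v z (v, b) = z b := by simp [pad]

theorem pad_ne {β : Type} {v w : Fin n} (h : w ≠ v) (z : β → MvPolynomial (Fin n) k) (b : β) :
    pad v z (w, b) = 0 := by simp [pad, h]

/-- One copy inside a cone over copies. -/
noncomputable def injCone {K F : FC (MvPolynomial (Fin n) k)}
    (φ : ∀ i, (K.ι i → MvPolynomial (Fin n) k) →ₗ[MvPolynomial (Fin n) k]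
      ((F.copies n).ι i → MvPolynomial (Fin n) k)) (v : Fin n) :
    ∀ i, (F.ι i → MvPolynomial (Fin n) k) →ₗ[MvPolynomial (Fin n) k]
      ((FC.cone K (F.copies n) φ).ι i → MvPolynomial (Fin n) k)
  | 0 => pad v
  | _ + 1 => prodMap' 0 (pad v)

theorem copies_d_pad (F : FC (MvPolynomial (Fin n) k)) (v : Fin n) (i : ℕ)
    (z : F.ι (i + 1) → MvPolynomial (Fin n) k) :
    (F.copies n).d i (pad v z) = pad v (F.d i z) := by
  funext ⟨w, a⟩
  rw [FC.copies_d_apply]
  rcases eq_or_ne w v with rfl | hne
  · simp only [pad_same]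
  · simp only [pad_ne hne]
    exact congr_fun (map_zero (F.d i)) a

theorem injCone_comm {K F : FC (MvPolynomial (Fin n) k)}
    (φ : ∀ i, (K.ι i → MvPolynomial (Fin n) k) →ₗ[MvPolynomial (Fin n) k]
      ((F.copies n).ι i → MvPolynomial (Fin n) k)) (v : Fin n) (i : ℕ)
    (z : F.ι (i + 1) → MvPolynomial (Fin n) k) :
    (FC.cone K (F.copies n) φ).d i (injCone φ v (i + 1) z) = injCone φ v i (F.d i z) := by
  have e : injCone φ v (i + 1) z = Sum.elim (0 : K.ι i → MvPolynomial (Fin n) k) (pad v z) :=
    prodMap'_apply _ _ z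
  rw [e]
  cases i with
  | zero =>
    rw [FC.cone_d_zero, Sum.elim_comp_inl, Sum.elim_comp_inr, map_zero, zero_add, copies_d_pad]
    rfl
  | succ i =>
    rw [FC.cone_d_succ, Sum.elim_comp_inl, Sum.elim_comp_inr, map_zero, map_zero, neg_zero, zero_add,
      copies_d_pad]
    exact (prodMap'_apply (0 : (F.ι (i + 1) → MvPolynomial (Fin n) k) →ₗ[MvPolynomial (Fin n) k]
      (K.ι i → MvPolynomial (Fin n) k)) (pad v) _).symm

theorem deg_ne_of_linGen (p : ℕ) :
    ∀ {R : Type u} [AddCommGroup R] [Module (MvPolynomial (Fin n) k) R]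
      [Module.Finite (MvPolynomial (Fin n) k) R]
      {τ : Type u} [SetLike τ R] [AddSubgroupClass τ R] {ℛ : ℤ → τ} [Decomposition ℛ]
      [SetLike.GradedSMul (GrSyz.stdGr k (Fin n)) ℛ] {j : ℤ}, LinGen (k := k) (n := n) ℛ p j →
      ∀ (F : GrSyz.FreeRes (GrSyz.stdGr k (Fin n)) ℛ),
        F.IsMinimal (GrSyz.irrel (GrSyz.stdGr k (Fin n))).toIdeal →
        ∀ b : Fin (F.rk p), F.deg p b ≠ j := by
  induction p with
  | zero => intro R _ _ _ τ _ _ ℛ _ _ j h F hF b; exact deg_ne_of_linGen_zero h F hF b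
  | succ q ih =>
    intro R _ _ _ τ _ _ ℛ _ _ j h F hF b hb
    classical
    have : IsNoetherian (MvPolynomial (Fin n) k) (Fin n → R) :=
      isNoetherian_of_isNoetherianRing_of_finite _ _
    set f := linMul (k := k) (n := n) R with hf
    let hT := GrInj18.isHomogeneous_ker (piGr ℛ n) ℛ (linMul_grHom (k := k) ℛ)
    let hP := GrInj18.isHomogeneous_range (piGr ℛ n) ℛ (linMul_grHom (k := k) ℛ)
    let : Decomposition (GrInj18.subGr (piGr ℛ n) (LinearMap.ker f)) :=
      (GrInj18.subGr_isInternal _ hT).chooseDecomposition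
    let : Decomposition (GrInj18.subGr ℛ (LinearMap.range f)) :=
      (GrInj18.subGr_isInternal _ hP).chooseDecomposition
    let : Decomposition (GrInj18.quotPieces ℛ (LinearMap.range f)) :=
      (GrInj18.quotPieces_isInternal _ hP).chooseDecomposition
    -- the resolutions
    obtain ⟨G, hG⟩ := exists_freeRes_isMinimal (k := k) (σ := Fin n) ↥(LinearMap.ker f)
      (GrInj18.subGr (piGr ℛ n) (LinearMap.ker f))
    have hGdeg := ih h.linSyz G hG
    obtain ⟨B, hB⟩ := exists_freeRes_isMinimal (k := k) (σ := Fin n) (R ⧸ LinearMap.range f)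
      (GrInj18.quotPieces ℛ (LinearMap.range f))
    have hBdeg : ∀ b, B.deg (q + 1) b ≠ j := by
      have hbd : LReg (k := k) (n := n) (GrInj18.quotPieces ℛ (LinearMap.range f))
          (j - (q + 1 : ℕ) - 1) := by
        refine lReg_of_bounded _ fun m hm x hx => ?_
        obtain ⟨y, hy, rfl⟩ := hx
        refine (Submodule.Quotient.mk_eq_zero _).2 ?_
        suffices H : ∀ a : MvPolynomial (Fin n) k, cmp ℛ m (a • y) ∈ LinearMap.range f by
          have := H 1
          rw [one_smul, cmp_of_mem ℛ hy] at this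
          exact this
        have hy' := h.span_low y
        clear hy
        intro a
        induction hy' using Submodule.span_induction generalizing a with
        | mem z hz =>
          obtain ⟨e, he, hz⟩ := hz
          rw [cmp_smul_homog_right (GrSyz.stdGr k (Fin n)) ℛ m hz]
          exact irrel_smul_mem_range (by
            rw [mem_irrel]
            exact constantCoeff_eq_zero_of_mem (by omega) (cmp_mem _ _ _)) z
        | zero => simp
        | add z z' _ _ hz hz' => rw [smul_add, map_add]; exact add_mem (hz a) (hz' a)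
        | smul c z _ hz => rw [smul_smul]; exact hz _
      intro b' hb'
      have := (lReg_iff_isGenLE B hB _).1 hbd (q + 1) b'
      push_cast at this
      omega
    let F' := (toFC F).copies n
    let εF' := FC.copiesAug (toFC F) n F.augLin
    let dF' : ∀ i, F'.ι i → ℤ := fun i x => F.deg i x.2 + 1
    have hεF' : GrLC.IsGrHom (freeGr (dF' 0)) (piGr ℛ n) εF' := fun d w hw v =>
      augLin_grHom F (d - 1) _ (mem_freeGr.2 fun b => by
        have := mem_freeGr.1 hw (v, b)
        rwa [show d - 1 - F.deg 0 b = d - (F.deg 0 b + 1) by ring])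
    have hF'res := FC.copies_isRes (toFC_isRes F) n
    have hF'g := copies_grHom (F := toFC F) (dF := F.deg) n 1 (dLin_grHom F)
    obtain ⟨φ, hφg, hφ0, hφc⟩ := exists_gr_lift (C := toFC G) (F := F') (dC := G.deg) (dF := dF')
      (toFC_isRes G).aug_d (toFC_isRes G).exact_succ.d_d hF'res (augLin_grHom G) hεF'
      (dLin_grHom G) hF'g (LinearMap.ker f).subtype (GrInj18.isGrHom_subtype _ _)
    let C := FC.cone (toFC G) F' φ
    let dC := coneDeg φ G.deg dF'
    let εC : (C.ι 0 → MvPolynomial (Fin n) k) →ₗ[MvPolynomial (Fin n) k] ↥(LinearMap.range f) :=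
      f.rangeRestrict.comp εF'
    have hC : C.IsRes εC := FC.cone_isRes (toFC_isRes G) hF'res φ (LinearMap.ker f).subtype
      f.rangeRestrict (Submodule.injective_subtype _) f.surjective_rangeRestrict
      (by rw [Submodule.range_subtype, LinearMap.ker_rangeRestrict]) hφ0 hφc
    have hCg : ∀ i, GrLC.IsGrHom (freeGr (dC (i + 1))) (freeGr (dC i)) (C.d i) :=
      cone_grHom (dLin_grHom G) hF'g hφg
    have hεC : GrLC.IsGrHom (freeGr (dC 0)) (GrInj18.subGr ℛ (LinearMap.range f)) εC :=
      fun d w hw => linMul_grHom ℛ d _ (hεF' d w hw)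
    obtain ⟨χ, hχg, hχ0, hχc⟩ := exists_gr_lift (C := C) (F := toFC F) (dC := dC) (dF := F.deg)
      hC.aug_d hC.exact_succ.d_d (toFC_isRes F) hεC (augLin_grHom F) hCg (dLin_grHom F)
      (LinearMap.range f).subtype (GrInj18.isGrHom_subtype _ _)
    let C' := FC.cone C (toFC F) χ
    let dC' := coneDeg χ dC F.deg
    have hC' : C'.IsRes ((LinearMap.range f).mkQ.comp F.augLin) :=
      FC.cone_isRes hC (toFC_isRes F) χ (LinearMap.range f).subtype (LinearMap.range f).mkQ
        (Submodule.injective_subtype _) (Submodule.mkQ_surjective _)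
        (by rw [Submodule.range_subtype, Submodule.ker_mkQ]) hχ0 hχc
    have hC'g : ∀ i, GrLC.IsGrHom (freeGr (dC' (i + 1))) (freeGr (dC' i)) (C'.d i) :=
      cone_grHom hCg (dLin_grHom F) hχg
    have hεC' : GrLC.IsGrHom (freeGr (dC' 0)) (GrInj18.quotPieces ℛ (LinearMap.range f))
        ((LinearMap.range f).mkQ.comp F.augLin) := fun d w hw => ⟨_, augLin_grHom F d w hw, rfl⟩
    obtain ⟨a, hag, ha0, hac⟩ := exists_gr_lift (C := C') (F := toFC B) (dC := dC') (dF := B.deg)
      hC'.aug_d hC'.exact_succ.d_d (toFC_isRes B) hεC' (augLin_grHom B) hC'g (dLin_grHom B)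
      LinearMap.id (fun _ _ hx => hx)
    obtain ⟨c, hc0, hcc⟩ := FC.exists_lift (toFC_isRes B).aug_d (toFC_isRes B).exact_succ.d_d hC'
      LinearMap.id
    let θ : ∀ i, (C'.ι i → MvPolynomial (Fin n) k) →ₗ[MvPolynomial (Fin n) k]
        (C'.ι i → MvPolynomial (Fin n) k) := fun i => (c i).comp (a i) - LinearMap.id
    obtain ⟨hh, hhom⟩ := FC.exists_homotopy hC' hC'.exact_succ.d_d θ
      (fun v => by
        simp only [θ, LinearMap.sub_apply, LinearMap.comp_apply, LinearMap.id_apply]
        simp only [map_sub, sub_eq_zero]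
        exact (hc0 _).trans (ha0 v))
      (fun i v => by
        simp only [θ, LinearMap.sub_apply, LinearMap.comp_apply, LinearMap.id_apply]
        rw [map_sub, hcc, hac]) q
    -- the offending basis vector
    let e : Fin (F.rk (q + 1)) → MvPolynomial (Fin n) k := Pi.single b 1
    let w : C'.ι (q + 1) → MvPolynomial (Fin n) k :=
      Sum.elim (0 : C.ι q → MvPolynomial (Fin n) k) e
    have he : e ∈ freeGr (F.deg (q + 1)) j := hb ▸ single_one_mem b
    have hwj : w ∈ freeGr (dC' (q + 1)) j := elim_mem_freeGr (zero_mem _) he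
    have hdw : ∀ x, C'.d q w x ∈ m₀ := by
      intro x
      cases q with
      | zero =>
        change (FC.cone C (toFC F) χ).d 0 w x ∈ m₀
        rw [FC.cone_d_zero, Sum.elim_comp_inl, Sum.elim_comp_inr, map_zero, zero_add]
        exact minAt_of_isMinimal F hF 0 e x
      | succ q =>
        change (FC.cone C (toFC F) χ).d (q + 1) w x ∈ m₀
        rw [FC.cone_d_succ, Sum.elim_comp_inl, Sum.elim_comp_inr, map_zero, map_zero, neg_zero,
          zero_add]
        rcases x with x | x
        · exact zero_mem _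
        · exact minAt_of_isMinimal F hF (q + 1) e x
    have haw : ∀ x, a (q + 1) w x ∈ m₀ := fun x => by
      rw [RingHom.mem_ker]
      exact constantCoeff_eq_zero_of_mem (sub_ne_zero.2 (Ne.symm (hBdeg x)))
        (mem_freeGr.1 (hag (q + 1) j w hwj) x)
    obtain ⟨u, hu⟩ := hhom w
    have := C'.fin q
    have key : C'.d (q + 1) u (Sum.inr b) + 1 ∈ m₀ := by
      have hx := congr_fun hu (Sum.inr b)
      rw [hx]
      simp only [θ, LinearMap.sub_apply, LinearMap.comp_apply, LinearMap.id_apply, Pi.sub_apply]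
      rw [show w (Sum.inr b) = 1 from Pi.single_eq_same b 1, sub_sub, sub_add,
        show (1 : MvPolynomial (Fin n) k) + hh (C'.d q w) (Sum.inr b) - 1 =
          hh (C'.d q w) (Sum.inr b) by ring]
      exact sub_mem (map_mem_of_coord_mem (c (q + 1)) haw _) (map_mem_of_coord_mem hh hdw _)
    have hd' : C'.d (q + 1) u (Sum.inr b) =
        χ (q + 1) (u ∘ Sum.inl) b + F.dLin (q + 1) (u ∘ Sum.inr) b := by
      change (FC.cone C (toFC F) χ).d (q + 1) u (Sum.inr b) = _
      rw [FC.cone_d_succ]
      rfl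
    have hχmem : χ (q + 1) (u ∘ Sum.inl) b ∈ m₀ := by
      have := C.fin (q + 1)
      refine coord_mem_of_single (γ := Unit) (LinearMap.pi fun _ : Unit =>
        (LinearMap.proj b).comp (χ (q + 1))) (fun x _ => ?_) _ ()
      rw [LinearMap.pi_apply, LinearMap.comp_apply, LinearMap.proj_apply]
      rcases x with g | ⟨v, b'⟩
      · rw [RingHom.mem_ker]
        exact constantCoeff_eq_zero_of_mem (n := G.deg q g - F.deg (q + 1) b)
          (by rw [hb]; exact sub_ne_zero.2 (hGdeg g))
          (mem_freeGr.1 (hχg (q + 1) _ _ (single_one_mem (Sum.inl g))) b)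
      · let e' : Fin (F.rk (q + 1)) → MvPolynomial (Fin n) k := Pi.single b' 1
        have hsingle : (Pi.single (Sum.inr (v, b')) 1 : C.ι (q + 1) → MvPolynomial (Fin n) k) =
            injCone φ v (q + 1) e' := by
          change _ = prodMap' 0 (pad v) e'
          rw [prodMap'_apply]
          funext x
          rcases x with x | ⟨w', y⟩
          · rw [Pi.single_eq_of_ne (show (Sum.inl x : (toFC G).ι q ⊕ (Fin n × Fin (F.rk (q + 1)))) ≠ Sum.inr (v, b') from Sum.inl_ne_inr), Sum.elim_inl]
            rfl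
          · rcases eq_or_ne w' v with rfl | hne
            · rw [Sum.elim_inr, pad_same]
              rcases eq_or_ne y b' with rfl | hy'
              · rw [Pi.single_eq_same]; exact (Pi.single_eq_same (M := fun _ : Fin (F.rk (q + 1)) => MvPolynomial (Fin n) k) y 1).symm
              · rw [Pi.single_eq_of_ne fun hh => hy' (congrArg Prod.snd (Sum.inr.inj hh))]
                exact (Pi.single_eq_of_ne (M := fun _ : Fin (F.rk (q + 1)) => MvPolynomial (Fin n) k) hy' 1).symm
            · rw [Sum.elim_inr, pad_ne hne]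
              exact Pi.single_eq_of_ne (fun hh => hne (congrArg Prod.fst (Sum.inr.inj hh))) 1
        have hθ := FC.mem_of_lifts_zero (toFC_isRes F) (I := m₀) (minAt_of_isMinimal F hF)
          (toFC_isRes F).exact_succ.d_d
          (fun i => (χ i).comp (injCone φ v i) - (X v : MvPolynomial (Fin n) k) • LinearMap.id)
          (fun z => by
            rw [LinearMap.sub_apply, map_sub, sub_eq_zero, LinearMap.comp_apply, hχ0,
              LinearMap.smul_apply, LinearMap.id_apply, map_smul]
            change f (εF' (pad v z)) = _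
            rw [hf, linMul_apply, Finset.sum_eq_single v]
            · exact congrArg (fun t => (X v : MvPolynomial (Fin n) k) • t)
                (congrArg F.augLin (funext fun a' => pad_same v z a'))
            · intro w' _ hne
              have e0 : εF' (pad v z) w' = 0 :=
                (congrArg F.augLin (funext fun a' => pad_ne hne z a')).trans (map_zero _)
              rw [e0, smul_zero]
            · simp)
          (fun i z => by
            simp only [LinearMap.sub_apply, LinearMap.comp_apply, LinearMap.smul_apply,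
              LinearMap.id_apply]
            rw [map_sub, map_smul, hχc]
            exact congrArg (fun t => χ i t - _) (injCone_comm φ v i z))
          q (v := e') (fun c => minAt_of_isMinimal F hF q e' c) b
        rw [hsingle]
        simp only [LinearMap.sub_apply, LinearMap.comp_apply, LinearMap.smul_apply,
          LinearMap.id_apply, Pi.sub_apply, Pi.smul_apply, smul_eq_mul] at hθ
        have hX : (X v : MvPolynomial (Fin n) k) * e' b ∈ m₀ :=
          Ideal.mul_mem_right _ _ (by simp [RingHom.mem_ker])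
        simpa using add_mem hθ hX
    have h1 : (1 : MvPolynomial (Fin n) k) ∈ m₀ := by
      have h2 := sub_mem key (add_mem hχmem (minAt_of_isMinimal F hF (q + 1) (u ∘ Sum.inr) b))
      rw [hd', add_sub_cancel_left] at h2
      exact h2
    simp at h1

end Groth.Agent.GrSyz54
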