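import Groth.Agent.GrSyz54.Res

/-!
The regularity in terms of a minimal resolution.
-/

universe u

open MvPolynomial

namespace Groth.Agent.GrSyz54

theorem iInf_intCast_eq_bot : (⨅ r : ℤ, ((r : WithTop ℤ) : WithBot (WithTop ℤ))) = ⊥ := by
  rw [iInf_eq_bot]
  intro b hb
  induction b using WithBot.recBotCoe with
  | bot => exact absurd hb (lt_irrefl _)
  | coe t =>
    induction t using WithTop.recTopCoe with
    | top => exact ⟨0, WithBot.coe_lt_coe.2 (WithTop.coe_lt_top 0)⟩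
    | coe a => exact ⟨a - 1, WithBot.coe_lt_coe.2 (WithTop.coe_lt_coe.2 (by omega))⟩

theorem iInf_ge_eq {X : WithBot (WithTop ℤ)}
    (hX : ∃ r : ℤ, X ≤ ((r : WithTop ℤ) : WithBot (WithTop ℤ))) :
    (⨅ (r : ℤ) (_ : X ≤ ((r : WithTop ℤ) : WithBot (WithTop ℤ))),
      ((r : WithTop ℤ) : WithBot (WithTop ℤ))) = X := by
  refine le_antisymm ?_ (le_iInf₂ fun _ h => h)
  induction X using WithBot.recBotCoe with
  | bot =>
    calc (⨅ (r : ℤ) (_ : ⊥ ≤ ((r : WithTop ℤ) : WithBot (WithTop ℤ))),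
          ((r : WithTop ℤ) : WithBot (WithTop ℤ)))
        ≤ ⨅ r : ℤ, ((r : WithTop ℤ) : WithBot (WithTop ℤ)) :=
          le_iInf fun r => iInf₂_le (f := fun (r : ℤ) _ => ((r : WithTop ℤ) : WithBot (WithTop ℤ))) r bot_le
      _ = ⊥ := iInf_intCast_eq_bot
  | coe t =>
    induction t using WithTop.recTopCoe with
    | top =>
      obtain ⟨r, hr⟩ := hX
      exact absurd (WithBot.coe_le_coe.1 hr) (not_le.2 (WithTop.coe_lt_top r))
    | coe a => exact iInf₂_le (f := fun (r : ℤ) _ => ((r : WithTop ℤ) : WithBot (WithTop ℤ))) a le_rfl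

variable {k : Type u} [Field k] {n : ℕ} {M : Type u} [AddCommGroup M]
  [Module (MvPolynomial (Fin n) k) M] {τ : Type u} [SetLike τ M] [AddSubgroupClass τ M]
  {ℳ : ℤ → τ} [DirectSum.Decomposition ℳ] [SetLike.GradedSMul (GrSyz.stdGr k (Fin n)) ℳ]

theorem iSup_maxGenDeg_le_iff (F : GrSyz.FreeRes (GrSyz.stdGr k (Fin n)) ℳ) (r : ℤ) :
    (⨆ i : ℕ, WithBot.map (fun t : ℤ => ((t - (i : ℤ) : ℤ) : WithTop ℤ)) (F.maxGenDeg i)) ≤
      ((r : WithTop ℤ) : WithBot (WithTop ℤ)) ↔ F.IsGenLE r := by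
  rw [iSup_le_iff]
  refine forall_congr' fun i => ?_
  have : F.maxGenDeg i ≤ ((r + i : ℤ) : WithBot ℤ) ↔ ∀ b : Fin (F.rk i), F.deg i b ≤ r + i := by
    simp only [GrSyz.FreeRes.maxGenDeg, Finset.sup_le_iff, Finset.mem_univ, true_implies,
      WithBot.coe_le_coe]
  rw [← this]
  induction F.maxGenDeg i using WithBot.recBotCoe with
  | bot => simp
  | coe t =>
    rw [WithBot.map_coe, WithBot.coe_le_coe, WithTop.coe_le_coe, WithBot.coe_le_coe]
    omega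

theorem exists_isGenLE (F : GrSyz.FreeRes (GrSyz.stdGr k (Fin n)) ℳ) {m : ℕ}
    (hF : F.HasLengthLE m) : ∃ r, F.IsGenLE r := by
  obtain ⟨r, hr⟩ := (Finset.image (fun p : Σ i : Fin (m + 1), Fin (F.rk i) =>
    F.deg p.1 p.2 - (p.1 : ℕ)) Finset.univ).bddAbove
  refine ⟨r, fun i b => ?_⟩
  have hi : i < m + 1 := by
    by_contra h
    have := hF i (by omega)
    exact (Fin.cast this b).elim0
  have := hr (Finset.mem_coe.2 (Finset.mem_image.2 ⟨⟨⟨i, hi⟩, b⟩, Finset.mem_univ _, rfl⟩))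
  simp only at this
  omega

theorem reg_eq_iSup (F : GrSyz.FreeRes (GrSyz.stdGr k (Fin n)) ℳ)
    (hF : F.IsMinimal (GrSyz.irrel (GrSyz.stdGr k (Fin n))).toIdeal) :
    GrSyz.reg (GrSyz.stdGr k (Fin n)) ℳ (GrSyz.irrel (GrSyz.stdGr k (Fin n))).toIdeal =
      ⨆ i : ℕ, WithBot.map (fun t : ℤ => ((t - (i : ℤ) : ℤ) : WithTop ℤ)) (F.maxGenDeg i) := by
  unfold GrSyz.reg
  rw [← iInf_ge_eq (X := ⨆ i : ℕ, WithBot.map (fun t : ℤ => ((t - (i : ℤ) : ℤ) : WithTop ℤ))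
    (F.maxGenDeg i)) ((exists_isGenLE F (rk_eq_zero_of_minimal F hF)).imp
      fun r hr => (iSup_maxGenDeg_le_iff F r).2 hr)]
  refine iInf_congr fun r => iInf_congr_Prop ?_ fun _ => rfl
  rw [iSup_maxGenDeg_le_iff, isRegLE_iff_isGenLE F hF]

end Groth.Agent.GrSyz54
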