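import Groth.Agent.GrSyz54.Free
import Mathlib.LinearAlgebra.Matrix.ToLin
import Mathlib.LinearAlgebra.Dimension.StrongRankCondition
import Mathlib.RingTheory.Finiteness.Basic
import Mathlib.RingTheory.Noetherian.Basic
import Mathlib.RingTheory.Polynomial.Basic

/-!
Graded free resolutions over a polynomial ring: existence, comparison, Betti numbers.
-/

universe u

open MvPolynomial

namespace Groth.Agent.GrSyz54

variable {k : Type u} [Field k] {σ : Type}

/-- The irrelevant ideal, as the kernel of the constant coefficient. -/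
noncomputable abbrev m₀ : Ideal (MvPolynomial σ k) := RingHom.ker constantCoeff

section Generators

variable {M : Type u} [AddCommGroup M] [Module (MvPolynomial σ k) M] {τ : Type u} [SetLike τ M]
  [AddSubgroupClass τ M] {ℳ : ℤ → τ} [DirectSum.Decomposition ℳ]
  [SetLike.GradedSMul (GrSyz.stdGr k σ) ℳ]

theorem mem_span_others_of_relation {β : Type} [Fintype β] [DecidableEq β] {deg : β → ℤ}
    {g : β → M} (hg : ∀ b, g b ∈ ℳ (deg b)) {c : β → MvPolynomial σ k}
    (hc : ∑ b, c b • g b = 0) {b₀ : β} (h : constantCoeff (c b₀) ≠ 0) :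
    g b₀ ∈ Submodule.span (MvPolynomial σ k) (g '' {b | b ≠ b₀}) := by
  have h1 := congrArg (cmp ℳ (deg b₀)) hc
  rw [cmp_linearCombination (GrSyz.stdGr k σ) ℳ deg g hg, map_zero,
    ← Finset.sum_erase_add _ _ (Finset.mem_univ b₀), sub_self, cmp_zero_eq] at h1
  set rest := ∑ b ∈ Finset.univ.erase b₀, cmp (GrSyz.stdGr k σ) (deg b₀ - deg b) (c b) • g b
  have hrest : rest ∈ Submodule.span (MvPolynomial σ k) (g '' {b | b ≠ b₀}) :=
    sum_mem fun b hb => Submodule.smul_mem _ _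
      (Submodule.subset_span ⟨b, (Finset.mem_erase.1 hb).1, rfl⟩)
  have h2 : g b₀ = (C (constantCoeff (c b₀))⁻¹ : MvPolynomial σ k) • (-rest) := by
    rw [← eq_neg_of_add_eq_zero_right h1, smul_smul, ← map_mul, inv_mul_cancel₀ h, map_one,
      one_smul]
  rw [h2]
  exact Submodule.smul_mem _ _ (neg_mem hrest)

theorem exists_min_cover [Finite σ] [Module.Finite (MvPolynomial σ k) M]
    (N : Submodule (MvPolynomial σ k) M) (hN : ∀ x ∈ N, ∀ d, cmp ℳ d x ∈ N) :
    ∃ (n : ℕ) (deg : Fin n → ℤ) (h : (Fin n → MvPolynomial σ k) →ₗ[MvPolynomial σ k] M),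
      GrLC.IsGrHom (freeGr deg) ℳ h ∧ LinearMap.range h = N ∧
        ∀ v, h v = 0 → ∀ b, v b ∈ m₀ := by
  classical
  let P : ℕ → Prop := fun n => ∃ s : Finset M, s.card = n ∧ (∀ x ∈ s, ∃ d, x ∈ ℳ d) ∧
    Submodule.span (MvPolynomial σ k) (s : Set M) = N
  have hP : ∃ n, P n := by
    obtain ⟨t, ht⟩ := IsNoetherian.noetherian N
    choose D hD using fun x => exists_sum_cmp ℳ x
    refine ⟨_, t.biUnion fun x => (D x).image fun d => cmp ℳ d x, rfl, ?_, ?_⟩
    · intro y hy
      simp only [Finset.mem_biUnion, Finset.mem_image] at hy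
      obtain ⟨x, -, d, -, rfl⟩ := hy
      exact ⟨d, cmp_mem _ _ _⟩
    · refine le_antisymm (Submodule.span_le.2 fun y hy => ?_) ?_
      · simp only [Finset.mem_coe, Finset.mem_biUnion, Finset.mem_image] at hy
        obtain ⟨x, hx, d, -, rfl⟩ := hy
        exact hN _ (ht ▸ Submodule.subset_span hx) d
      · rw [← ht, Submodule.span_le]
        intro x hx
        rw [SetLike.mem_coe, ← hD x]
        refine sum_mem fun d hd => Submodule.subset_span ?_
        simp only [Finset.mem_coe, Finset.mem_biUnion, Finset.mem_image]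
        exact ⟨x, hx, d, hd, rfl⟩
  obtain ⟨s, hcard, hhom, hspan⟩ := Nat.find_spec hP
  let e := s.equivFin.symm
  choose deg hdeg using fun b : Fin s.card => hhom _ (e b).2
  refine ⟨_, deg, Fintype.linearCombination (MvPolynomial σ k) fun b => (e b : M),
    isGrHom_of_single fun b => ?_, ?_, fun v hv b => ?_⟩
  · rw [Fintype.linearCombination_apply_single, one_smul]; exact hdeg b
  · rw [Fintype.range_linearCombination]
    have hr : Set.range (fun b => (e b : M)) = s := by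
      ext x
      exact ⟨fun ⟨b, hb⟩ => hb ▸ (e b).2, fun hx => ⟨e.symm ⟨x, hx⟩, by simp⟩⟩
    rw [hr, hspan]
  · rw [RingHom.mem_ker]
    by_contra hne
    have hmem := mem_span_others_of_relation (ℳ := ℳ) hdeg
      (by simpa [Fintype.linearCombination_apply] using hv) hne
    have hlt : (s.erase (e b : M)).card < Nat.find hP := by
      rw [← hcard]; exact Finset.card_erase_lt_of_mem (e b).2
    refine Nat.find_min hP hlt
      ⟨_, rfl, fun x hx => hhom x (Finset.mem_of_mem_erase hx), le_antisymm ?_ ?_⟩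
    · rw [← hspan]
      exact Submodule.span_mono (Finset.coe_subset.2 (Finset.erase_subset _ _))
    · conv_lhs => rw [← hspan]
      rw [Submodule.span_le]
      intro x hx
      by_cases hxe : x = (e b : M)
      · subst hxe
        refine Submodule.span_mono ?_ hmem
        rintro _ ⟨b', hb', rfl⟩
        rw [Finset.mem_coe, Finset.mem_erase]
        exact ⟨fun h => hb' (e.injective (Subtype.ext h)), (e b').2⟩
      · exact Submodule.subset_span (Finset.mem_erase.2 ⟨hxe, hx⟩)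

end Generators

section FreeRes

variable {M : Type u} [AddCommGroup M] [Module (MvPolynomial σ k) M] {τ : Type u} [SetLike τ M]
  [AddSubgroupClass τ M] {ℳ : ℤ → τ} [DirectSum.Decomposition ℳ]
  [SetLike.GradedSMul (GrSyz.stdGr k σ) ℳ]

section ToFC

variable (F : GrSyz.FreeRes (GrSyz.stdGr k σ) ℳ)

/-- The underlying complex of a resolution. -/
@[reducible] noncomputable def toFC : FC (MvPolynomial σ k) where
  ι i := Fin (F.rk i)
  fin _ := inferInstance
  d i := F.dLin i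

theorem toFC_isRes : (toFC F).IsRes F.augLin :=
  ⟨F.aug_surjective, F.exact_zero, F.exact_succ⟩

theorem augLin_single (b : Fin (F.rk 0)) : F.augLin (Pi.single b 1) = F.aug b := by
  rw [Fintype.linearCombination_apply_single, one_smul]

theorem dLin_single (i : ℕ) (b : Fin (F.rk (i + 1))) (a : Fin (F.rk i)) :
    F.dLin i (Pi.single b 1) a = F.d i a b := by
  simp [Matrix.mulVec_single_one]

theorem augLin_grHom : GrLC.IsGrHom (freeGr (F.deg 0)) ℳ F.augLin :=
  isGrHom_of_single fun b => by rw [augLin_single]; exact F.aug_mem b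

theorem dLin_grHom (i : ℕ) :
    GrLC.IsGrHom (freeGr (F.deg (i + 1))) (freeGr (F.deg i)) (F.dLin i) :=
  isGrHom_of_single fun b => by
    rw [mem_freeGr]
    intro a
    rw [dLin_single]
    exact F.d_mem i a b

theorem minAt_of_isMinimal (hF : F.IsMinimal (GrSyz.irrel (GrSyz.stdGr k σ)).toIdeal) (i : ℕ) :
    (toFC F).MinAt m₀ i := fun v a =>
  coord_mem_of_single _ (fun b c => by
    change F.dLin i (Pi.single b 1) c ∈ _
    rw [dLin_single]
    exact (irrel_eq_ker (k := k) (σ := σ)).le (hF i c b)) v a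

end ToFC

/-- Build a `FreeRes` from graded linear maps. -/
theorem exists_freeRes_of_FC (C : FC (MvPolynomial σ k)) (deg : ∀ i, C.ι i → ℤ)
    (ε : (C.ι 0 → MvPolynomial σ k) →ₗ[MvPolynomial σ k] M) (hC : C.IsRes ε)
    (hε : GrLC.IsGrHom (freeGr (deg 0)) ℳ ε)
    (hd : ∀ i, GrLC.IsGrHom (freeGr (deg (i + 1))) (freeGr (deg i)) (C.d i)) :
    ∃ (F : GrSyz.FreeRes (GrSyz.stdGr k σ) ℳ) (e : ∀ i, Fin (F.rk i) ≃ C.ι i),
      (∀ i b, F.deg i b = deg i (e i b)) ∧
      ∀ (I : Ideal (MvPolynomial σ k)), (∀ i, C.MinAt I i) → F.IsMinimal I := by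
  classical
  let e : ∀ i, Fin (Fintype.card (C.ι i)) ≃ C.ι i := fun i => (Fintype.equivFin _).symm
  let E : ∀ i, (Fin (Fintype.card (C.ι i)) → MvPolynomial σ k) ≃ₗ[MvPolynomial σ k]
      (C.ι i → MvPolynomial σ k) := fun i => LinearEquiv.funCongrLeft _ _ (e i).symm
  have hE : ∀ i b, E i (Pi.single b 1) = Pi.single (e i b) 1 := fun i b => by
    funext a
    simp [E, LinearEquiv.funCongrLeft_apply, LinearMap.funLeft_apply, Pi.single_apply,
      Equiv.symm_apply_eq]
  let D : ∀ i, (Fin (Fintype.card (C.ι (i + 1))) → MvPolynomial σ k) →ₗ[MvPolynomial σ k]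
      (Fin (Fintype.card (C.ι i)) → MvPolynomial σ k) :=
    fun i => (E i).symm.toLinearMap.comp ((C.d i).comp (E (i + 1)).toLinearMap)
  have haug : Fintype.linearCombination (MvPolynomial σ k) (fun b => ε (Pi.single (e 0 b) 1)) =
      ε.comp (E 0).toLinearMap :=
    (Pi.basisFun _ _).ext fun b => by
      rw [Pi.basisFun_apply, Fintype.linearCombination_apply_single, one_smul, LinearMap.comp_apply]
      exact congrArg ε (hE 0 b).symm
  have hentry : ∀ i a b, LinearMap.toMatrix' (D i) a b = C.d i (Pi.single (e (i + 1) b) 1) (e i a) :=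
    fun i a b => by
      rw [LinearMap.toMatrix'_apply]
      have : (fun j' => if j' = b then (1 : MvPolynomial σ k) else 0) = Pi.single b 1 := by
        funext j; simp [Pi.single_apply]
      simp only [D, this, LinearMap.comp_apply, LinearEquiv.coe_coe, hE]
      rfl
  refine ⟨{
      rk := fun i => Fintype.card (C.ι i)
      deg := fun i b => deg i (e i b)
      d := fun i => LinearMap.toMatrix' (D i)
      aug := fun b => ε (Pi.single (e 0 b) 1)
      d_mem := fun i a b => by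
        rw [hentry]; exact mem_freeGr.1 (hd i _ _ (single_one_mem _)) _
      aug_mem := fun b => hε _ _ (single_one_mem _)
      aug_surjective := by
        rw [haug]; exact hC.surj.comp (E 0).surjective
      exact_zero := by
        rw [haug, ← Matrix.toLin'_apply', Matrix.toLin'_toMatrix', LinearMap.ker_comp,
          hC.exact_zero]
        simp only [D]
        rw [LinearMap.range_comp, LinearMap.range_comp, LinearEquiv.range, Submodule.map_top,
          Submodule.comap_equiv_eq_map_symm]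
      exact_succ := fun i => by
        rw [← Matrix.toLin'_apply', Matrix.toLin'_toMatrix', ← Matrix.toLin'_apply',
          Matrix.toLin'_toMatrix']
        simp only [D]
        rw [LinearMap.ker_comp, LinearEquiv.ker, Submodule.comap_bot, LinearMap.ker_comp,
          hC.exact_succ i]
        conv_rhs => rw [LinearMap.range_comp, LinearMap.range_comp, LinearEquiv.range,
          Submodule.map_top]
        rw [Submodule.comap_equiv_eq_map_symm] },
    e, fun i b => rfl, fun I hI i a b => ?_⟩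
  change LinearMap.toMatrix' (D i) a b ∈ I
  rw [hentry]
  exact hI i _ _

variable (M ℳ) in
theorem exists_freeRes_isMinimal [Finite σ] [Module.Finite (MvPolynomial σ k) M] :
    ∃ F : GrSyz.FreeRes (GrSyz.stdGr k σ) ℳ,
      F.IsMinimal (GrSyz.irrel (GrSyz.stdGr k σ)).toIdeal := by
  classical
  obtain ⟨n₀, deg₀, ε, hεg, hεr, hεm⟩ :=
    exists_min_cover (ℳ := ℳ) (⊤ : Submodule (MvPolynomial σ k) M) (fun _ _ _ => trivial)
  obtain ⟨n₁, deg₁, d₀, hd₀g, hd₀r, hd₀m⟩ := exists_min_cover (ℳ := freeGr deg₀)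
    (LinearMap.ker ε) (fun x hx d => cmp_mem_ker _ _ hεg hx d)
  let St := Σ' (n m : ℕ) (dn : Fin n → ℤ) (dm : Fin m → ℤ),
    {h : (Fin m → MvPolynomial σ k) →ₗ[MvPolynomial σ k] (Fin n → MvPolynomial σ k) //
      GrLC.IsGrHom (freeGr dm) (freeGr dn) h ∧ ∀ v, h v = 0 → ∀ b, v b ∈ m₀}
  have step : ∀ t : St, ∃ (m' : ℕ) (dm' : Fin m' → ℤ)
      (h' : (Fin m' → MvPolynomial σ k) →ₗ[MvPolynomial σ k] (Fin t.2.1 → MvPolynomial σ k)),
      GrLC.IsGrHom (freeGr dm') (freeGr t.2.2.2.1) h' ∧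
        LinearMap.range h' = LinearMap.ker t.2.2.2.2.1 ∧ ∀ v, h' v = 0 → ∀ b, v b ∈ m₀ :=
    fun t => exists_min_cover (ℳ := freeGr t.2.2.2.1) (LinearMap.ker t.2.2.2.2.1)
      (fun x hx d => cmp_mem_ker _ _ t.2.2.2.2.2.1 hx d)
  choose nx dx hx hxg hxr hxm using step
  let next : St → St := fun t => ⟨t.2.1, nx t, t.2.2.2.1, dx t, hx t, hxg t, hxm t⟩
  let seq : ℕ → St := fun i => Nat.rec ⟨n₀, n₁, deg₀, deg₁, d₀, hd₀g, hd₀m⟩ (fun _ t => next t) i
  let C : FC (MvPolynomial σ k) :=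
    { ι := fun i => Fin (seq i).1
      fin := fun _ => inferInstance
      d := fun i => (seq i).2.2.2.2.1 }
  have hC : C.IsRes ε := ⟨fun y => by
      rw [← LinearMap.mem_range, hεr]; trivial, hd₀r.symm, fun i => (hxr (seq i)).symm⟩
  obtain ⟨F, -, -, hF⟩ := exists_freeRes_of_FC (ℳ := ℳ) C (fun i => (seq i).2.2.1) ε hC hεg
    (fun i => (seq i).2.2.2.2.2.1)
  refine ⟨F, hF _ fun i v a => ?_⟩
  rw [irrel_eq_ker]
  cases i with
  | zero => exact hεm _ (hC.aug_d v) a
  | succ i => exact (seq i).2.2.2.2.2.2 _ (hC.exact_succ.d_d i v) a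

end FreeRes

section Comparison

variable {M N : Type u} [AddCommGroup M] [Module (MvPolynomial σ k) M] [AddCommGroup N]
  [Module (MvPolynomial σ k) N] {τ τ' : Type u} [SetLike τ M] [AddSubgroupClass τ M]
  [SetLike τ' N] [AddSubgroupClass τ' N] {ℳ : ℤ → τ} {𝒩 : ℤ → τ'}
  [DirectSum.Decomposition ℳ] [DirectSum.Decomposition 𝒩]
  [SetLike.GradedSMul (GrSyz.stdGr k σ) ℳ] [SetLike.GradedSMul (GrSyz.stdGr k σ) 𝒩]

omit [DirectSum.Decomposition ℳ] [SetLike.GradedSMul (GrSyz.stdGr k σ) ℳ]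
  [SetLike.GradedSMul (GrSyz.stdGr k σ) 𝒩] in
theorem exists_gr_lift {C F : FC (MvPolynomial σ k)} {dC : ∀ i, C.ι i → ℤ} {dF : ∀ i, F.ι i → ℤ}
    {εC : (C.ι 0 → MvPolynomial σ k) →ₗ[MvPolynomial σ k] M}
    {εF : (F.ι 0 → MvPolynomial σ k) →ₗ[MvPolynomial σ k] N}
    (hC0 : ∀ v, εC (C.d 0 v) = 0) (hC : ∀ i v, C.d i (C.d (i + 1) v) = 0) (hF : F.IsRes εF)
    (hεC : GrLC.IsGrHom (freeGr (dC 0)) ℳ εC) (hεF : GrLC.IsGrHom (freeGr (dF 0)) 𝒩 εF)
    (hCg : ∀ i, GrLC.IsGrHom (freeGr (dC (i + 1))) (freeGr (dC i)) (C.d i))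
    (hFg : ∀ i, GrLC.IsGrHom (freeGr (dF (i + 1))) (freeGr (dF i)) (F.d i))
    (f : M →ₗ[MvPolynomial σ k] N) (hf : GrLC.IsGrHom ℳ 𝒩 f) :
    ∃ φ : ∀ i, (C.ι i → MvPolynomial σ k) →ₗ[MvPolynomial σ k] (F.ι i → MvPolynomial σ k),
      (∀ i, GrLC.IsGrHom (freeGr (dC i)) (freeGr (dF i)) (φ i)) ∧
      (∀ v, εF (φ 0 v) = f (εC v)) ∧ ∀ i v, F.d i (φ (i + 1) v) = φ i (C.d i v) := by
  refine FC.exists_lift_prop hC0 hC hF f
    (fun i φ => GrLC.IsGrHom (freeGr (dC i)) (freeGr (dF i)) φ) ?_ ?_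
  · exact exists_gr_comp_eq (g := f.comp εC) 𝒩 (fun d v hv => hf _ _ (hεC _ _ hv)) hεF
      fun v => by rw [LinearMap.range_eq_top.2 hF.surj]; trivial
  · intro i φ hφ hr
    exact exists_gr_comp_eq (g := φ.comp (C.d i)) (freeGr (dF i))
      (fun d v hv => hφ _ _ (hCg i _ _ hv)) (hFg i) hr

/-- Betti numbers of a retract are bounded by those of any resolution. -/
theorem card_le_of_retract {F C : FC (MvPolynomial σ k)} {dF : ∀ i, F.ι i → ℤ}
    {dC : ∀ i, C.ι i → ℤ}
    {εF : (F.ι 0 → MvPolynomial σ k) →ₗ[MvPolynomial σ k] M}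
    {εC : (C.ι 0 → MvPolynomial σ k) →ₗ[MvPolynomial σ k] N}
    (hF : F.IsRes εF) (hC : C.IsRes εC) (hmin : ∀ i, F.MinAt m₀ i)
    (hεF : GrLC.IsGrHom (freeGr (dF 0)) ℳ εF) (hεC : GrLC.IsGrHom (freeGr (dC 0)) 𝒩 εC)
    (hFg : ∀ i, GrLC.IsGrHom (freeGr (dF (i + 1))) (freeGr (dF i)) (F.d i))
    (hCg : ∀ i, GrLC.IsGrHom (freeGr (dC (i + 1))) (freeGr (dC i)) (C.d i))
    (f : M →ₗ[MvPolynomial σ k] N) (g : N →ₗ[MvPolynomial σ k] M)
    (hf : GrLC.IsGrHom ℳ 𝒩 f) (hg : GrLC.IsGrHom 𝒩 ℳ g) (hgf : ∀ x, g (f x) = x)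
    (i : ℕ) (j : ℤ) :
    Nat.card {b // dF i b = j} ≤ Nat.card {c // dC i c = j} := by
  classical
  obtain ⟨φ, hφg, hφ0, hφc⟩ :=
    exists_gr_lift hF.aug_d hF.exact_succ.d_d hC hεF hεC hFg hCg f hf
  obtain ⟨ψ, hψg, hψ0, hψc⟩ :=
    exists_gr_lift hC.aug_d hC.exact_succ.d_d hF hεC hεF hCg hFg g hg
  let P : Matrix {c // dC i c = j} {b // dF i b = j} k := fun c b =>
    constantCoeff (φ i (Pi.single b.1 1) c.1)
  let Q : Matrix {b // dF i b = j} {c // dC i c = j} k := fun a c =>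
    constantCoeff (ψ i (Pi.single c.1 1) a.1)
  have hQP : Q * P = 1 := by
    ext a b
    have h : constantCoeff (ψ i (φ i (Pi.single b.1 1)) a.1) =
        constantCoeff ((Pi.single b.1 1 : F.ι i → MvPolynomial σ k) a.1) := by
      rw [← sub_eq_zero, ← map_sub]
      exact FC.sub_mem_of_lifts_id hF hmin (fun i => (ψ i).comp (φ i))
        (fun v => by simp [hψ0, hφ0, hgf]) (fun i v => by simp [hψc, hφc]) i _ a.1
    have h1 : constantCoeff ((Pi.single b.1 1 : F.ι i → MvPolynomial σ k) a.1) =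
        (1 : Matrix _ _ k) a b := by
      rcases eq_or_ne a b with rfl | hne
      · simp
      · rw [Pi.single_eq_of_ne (fun e => hne (Subtype.ext e)), map_zero,
          Matrix.one_apply_ne hne]
    rw [← h1, ← h]
    conv_rhs => rw [pi_eq_sum_univ' (φ i (Pi.single b.1 1))]
    rw [map_sum, Finset.sum_apply, map_sum, Matrix.mul_apply]
    refine Finset.sum_bij_ne_zero (fun c _ _ => c.1) (fun _ _ _ => Finset.mem_univ _)
      (fun _ _ _ _ _ _ h => Subtype.ext h) (fun c _ hc => ?_) (fun c _ hc => ?_)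
    · refine ⟨⟨c, ?_⟩, Finset.mem_univ _, ?_, rfl⟩
      · by_contra hne
        refine hc ?_
        rw [map_smul, Pi.smul_apply, smul_eq_mul, map_mul,
          constantCoeff_eq_zero_of_gr (hφg i) (by rw [b.2]; exact Ne.symm hne), zero_mul]
      · simpa [map_smul, Q, P, mul_comm] using hc
    · simp [map_smul, Q, P, mul_comm]
  have hinj : Function.Injective P.mulVec := fun x y h => by
    have := congrArg Q.mulVec h
    rwa [Matrix.mulVec_mulVec, Matrix.mulVec_mulVec, hQP, Matrix.one_mulVec,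
      Matrix.one_mulVec] at this
  have := LinearMap.finrank_le_finrank_of_injective (f := P.mulVecLin) hinj
  simpa [Nat.card_eq_fintype_card, Module.finrank_fintype_fun_eq_card] using this

end Comparison

section Betti

variable {M : Type u} [AddCommGroup M] [Module (MvPolynomial σ k) M] {τ : Type u} [SetLike τ M]
  [AddSubgroupClass τ M] {ℳ : ℤ → τ} [DirectSum.Decomposition ℳ]
  [SetLike.GradedSMul (GrSyz.stdGr k σ) ℳ]

theorem betti_eq_natCard (F : GrSyz.FreeRes (GrSyz.stdGr k σ) ℳ) (i : ℕ) (j : ℤ) :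
    F.betti i j = Nat.card {b // F.deg i b = j} := by
  rw [Nat.card_eq_fintype_card, Fintype.card_subtype]
  rfl

theorem betti_le_of_minimal (F G : GrSyz.FreeRes (GrSyz.stdGr k σ) ℳ)
    (hF : F.IsMinimal (GrSyz.irrel (GrSyz.stdGr k σ)).toIdeal) (i : ℕ) (j : ℤ) :
    F.betti i j ≤ G.betti i j := by
  rw [betti_eq_natCard, betti_eq_natCard]
  have key := card_le_of_retract (ℳ := ℳ) (𝒩 := ℳ) (F := toFC F) (C := toFC G)
    (dF := F.deg) (dC := G.deg) (εF := F.augLin) (εC := G.augLin)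
    (toFC_isRes F) (toFC_isRes G) (minAt_of_isMinimal F hF) (augLin_grHom F) (augLin_grHom G)
    (dLin_grHom F) (dLin_grHom G) LinearMap.id LinearMap.id
  exact key (fun _ _ h => h) (fun _ _ h => h) (fun _ => rfl) i j

theorem betti_eq_of_minimal (F G : GrSyz.FreeRes (GrSyz.stdGr k σ) ℳ)
    (hF : F.IsMinimal (GrSyz.irrel (GrSyz.stdGr k σ)).toIdeal)
    (hG : G.IsMinimal (GrSyz.irrel (GrSyz.stdGr k σ)).toIdeal) (i : ℕ) (j : ℤ) :
    F.betti i j = G.betti i j :=
  le_antisymm (betti_le_of_minimal F G hF i j) (betti_le_of_minimal G F hG i j)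

theorem isGenLE_iff_betti (F : GrSyz.FreeRes (GrSyz.stdGr k σ) ℳ) (r : ℤ) :
    F.IsGenLE r ↔ ∀ (i : ℕ) (j : ℤ), r + i < j → F.betti i j = 0 := by
  constructor
  · intro h i j hj
    rw [GrSyz.FreeRes.betti, Finset.card_eq_zero, Finset.filter_eq_empty_iff]
    intro b _ hb
    have := h i b
    omega
  · intro h i b
    by_contra hb
    have := h i (F.deg i b) (not_le.1 hb)
    rw [GrSyz.FreeRes.betti, Finset.card_eq_zero, Finset.filter_eq_empty_iff] at this
    exact this (Finset.mem_univ b) rfl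

theorem isGenLE_of_isGenLE (F G : GrSyz.FreeRes (GrSyz.stdGr k σ) ℳ)
    (hF : F.IsMinimal (GrSyz.irrel (GrSyz.stdGr k σ)).toIdeal) {r : ℤ} (hG : G.IsGenLE r) :
    F.IsGenLE r := by
  rw [isGenLE_iff_betti] at hG ⊢
  intro i j hj
  have := betti_le_of_minimal F G hF i j
  rw [hG i j hj] at this
  exact Nat.le_zero.1 this

theorem isRegLE_iff_isGenLE (F : GrSyz.FreeRes (GrSyz.stdGr k σ) ℳ)
    (hF : F.IsMinimal (GrSyz.irrel (GrSyz.stdGr k σ)).toIdeal) (r : ℤ) :
    GrSyz.IsRegLE (GrSyz.stdGr k σ) ℳ (GrSyz.irrel (GrSyz.stdGr k σ)).toIdeal r ↔ F.IsGenLE r :=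
  ⟨fun ⟨G, _, hG⟩ => isGenLE_of_isGenLE F G hF hG, fun h => ⟨F, hF, h⟩⟩

/-- A minimal resolution over `k[x_1..x_n]` has length at most `n`. -/
theorem rk_eq_zero_of_minimal {n : ℕ} {M : Type u} [AddCommGroup M]
    [Module (MvPolynomial (Fin n) k) M] {τ : Type u} [SetLike τ M] [AddSubgroupClass τ M]
    {ℳ : ℤ → τ} [DirectSum.Decomposition ℳ] [SetLike.GradedSMul (GrSyz.stdGr k (Fin n)) ℳ]
    (F : GrSyz.FreeRes (GrSyz.stdGr k (Fin n)) ℳ)
    (hF : F.IsMinimal (GrSyz.irrel (GrSyz.stdGr k (Fin n))).toIdeal) : F.HasLengthLE n := by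
  intro i hi
  obtain ⟨m, rfl⟩ := Nat.exists_eq_add_one_of_ne_zero (n := i) (by omega)
  have h := FC.isEmpty_of_minimal n m (by omega) (toFC F) (toFC_isRes F).exact_succ
    (minAt_of_isMinimal F hF m) (minAt_of_isMinimal F hF (m + 1))
  have hc : Fintype.card (Fin (F.rk (m + 1))) = 0 := @Fintype.card_eq_zero _ _ h
  rwa [Fintype.card_fin] at hc

end Betti

end Groth.Agent.GrSyz54
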