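import Groth.Agent.GrSyz54.Res

/-!
Regularity along short exact sequences: mapping cones and horseshoes.
-/

universe u

open MvPolynomial

namespace Groth.Agent.GrSyz54

/-- A map out of a sum of free modules, given on the two summands. -/
noncomputable def sumMap {S : Type u} [CommRing S] {α β : Type} {N : Type*} [AddCommGroup N]
    [Module S N] (p : (α → S) →ₗ[S] N) (q : (β → S) →ₗ[S] N) : (α ⊕ β → S) →ₗ[S] N :=
  p.comp (LinearMap.funLeft S S Sum.inl) + q.comp (LinearMap.funLeft S S Sum.inr)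

theorem sumMap_apply {S : Type u} [CommRing S] {α β : Type} {N : Type*} [AddCommGroup N]
    [Module S N] (p : (α → S) →ₗ[S] N) (q : (β → S) →ₗ[S] N) (w : α ⊕ β → S) :
    sumMap p q w = p (w ∘ Sum.inl) + q (w ∘ Sum.inr) := rfl

/-- A map into a sum of free modules. -/
noncomputable def prodMap' {S : Type u} [CommRing S] {α β : Type} {P : Type*} [AddCommGroup P]
    [Module S P] (p : P →ₗ[S] (α → S)) (q : P →ₗ[S] (β → S)) : P →ₗ[S] (α ⊕ β → S) :=
  (LinearEquiv.sumArrowLequivProdArrow α β S S).symm.toLinearMap.comp (p.prod q)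

theorem prodMap'_apply {S : Type u} [CommRing S] {α β : Type} {P : Type*} [AddCommGroup P]
    [Module S P] (p : P →ₗ[S] (α → S)) (q : P →ₗ[S] (β → S)) (x : P) :
    prodMap' p q x = Sum.elim (p x) (q x) := rfl

variable {k : Type u} [Field k] {σ : Type}

theorem elim_mem_freeGr {α β : Type} {dα : α → ℤ} {dβ : β → ℤ} {d : ℤ}
    {a : α → MvPolynomial σ k} {b : β → MvPolynomial σ k} (ha : a ∈ freeGr dα d)
    (hb : b ∈ freeGr dβ d) : Sum.elim a b ∈ freeGr (Sum.elim dα dβ) d := by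
  rw [mem_freeGr]
  rintro (x | x)
  · exact mem_freeGr.1 ha x
  · exact mem_freeGr.1 hb x

theorem inl_mem_freeGr {α β : Type} {dα : α → ℤ} {dβ : β → ℤ} {d : ℤ}
    {w : α ⊕ β → MvPolynomial σ k} (hw : w ∈ freeGr (Sum.elim dα dβ) d) :
    w ∘ Sum.inl ∈ freeGr dα d := mem_freeGr.2 fun x => mem_freeGr.1 hw (Sum.inl x)

theorem inr_mem_freeGr {α β : Type} {dα : α → ℤ} {dβ : β → ℤ} {d : ℤ}
    {w : α ⊕ β → MvPolynomial σ k} (hw : w ∈ freeGr (Sum.elim dα dβ) d) :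
    w ∘ Sum.inr ∈ freeGr dβ d := mem_freeGr.2 fun x => mem_freeGr.1 hw (Sum.inr x)

variable {M₁ M₂ M₃ : Type u} [AddCommGroup M₁] [Module (MvPolynomial σ k) M₁]
  [AddCommGroup M₂] [Module (MvPolynomial σ k) M₂] [AddCommGroup M₃] [Module (MvPolynomial σ k) M₃]
  {τ₁ τ₂ τ₃ : Type u} [SetLike τ₁ M₁] [AddSubgroupClass τ₁ M₁] [SetLike τ₂ M₂]
  [AddSubgroupClass τ₂ M₂] [SetLike τ₃ M₃] [AddSubgroupClass τ₃ M₃]
  {ℳ₁ : ℤ → τ₁} {ℳ₂ : ℤ → τ₂} {ℳ₃ : ℤ → τ₃}
  [DirectSum.Decomposition ℳ₁] [DirectSum.Decomposition ℳ₂] [DirectSum.Decomposition ℳ₃]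
  [SetLike.GradedSMul (GrSyz.stdGr k σ) ℳ₁] [SetLike.GradedSMul (GrSyz.stdGr k σ) ℳ₂]
  [SetLike.GradedSMul (GrSyz.stdGr k σ) ℳ₃]

/-- A graded resolution, not necessarily minimal, generated in degrees `≤ r + i`. -/
def HasResLE (ℳ : ℤ → τ₁) (r : ℤ) : Prop :=
  ∃ (C : FC (MvPolynomial σ k)) (deg : ∀ i, C.ι i → ℤ)
    (ε : (C.ι 0 → MvPolynomial σ k) →ₗ[MvPolynomial σ k] M₁),
    C.IsRes ε ∧ GrLC.IsGrHom (freeGr (deg 0)) ℳ ε ∧
      (∀ i, GrLC.IsGrHom (freeGr (deg (i + 1))) (freeGr (deg i)) (C.d i)) ∧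
      ∀ i b, deg i b ≤ r + i

theorem HasResLE.of_isRegLE {r : ℤ}
    (h : GrSyz.IsRegLE (GrSyz.stdGr k σ) ℳ₁ (GrSyz.irrel (GrSyz.stdGr k σ)).toIdeal r) :
    HasResLE (σ := σ) (k := k) (M₁ := M₁) ℳ₁ r := by
  obtain ⟨F, -, hF⟩ := h
  exact ⟨toFC F, F.deg, F.augLin, toFC_isRes F, augLin_grHom F, dLin_grHom F, hF⟩

theorem HasResLE.isRegLE [Finite σ] [Module.Finite (MvPolynomial σ k) M₁] {r : ℤ}
    (h : HasResLE (σ := σ) (k := k) (M₁ := M₁) ℳ₁ r) :
    GrSyz.IsRegLE (GrSyz.stdGr k σ) ℳ₁ (GrSyz.irrel (GrSyz.stdGr k σ)).toIdeal r := by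
  obtain ⟨C, deg, ε, hC, hε, hd, hle⟩ := h
  obtain ⟨G, e, he, -⟩ := exists_freeRes_of_FC (ℳ := ℳ₁) C deg ε hC hε hd
  obtain ⟨F, hF⟩ := exists_freeRes_isMinimal (k := k) (σ := σ) M₁ ℳ₁
  exact ⟨F, hF, isGenLE_of_isGenLE F G hF fun i b => by rw [he]; exact hle i _⟩

variable (f : M₁ →ₗ[MvPolynomial σ k] M₂) (g : M₂ →ₗ[MvPolynomial σ k] M₃)
  (hf : Function.Injective f) (hg : Function.Surjective g)
  (hfg : LinearMap.range f = LinearMap.ker g)
  (hfgr : GrLC.IsGrHom ℳ₁ ℳ₂ f) (hggr : GrLC.IsGrHom ℳ₂ ℳ₃ g) (r : ℤ)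

include hf hg hfg hfgr hggr

omit [SetLike.GradedSMul (GrSyz.stdGr k σ) ℳ₁] in
/-- Cone: the quotient of a module with a resolution in degrees `≤ r + i` by one with `≤ r + 1 + i`. -/
theorem HasResLE.quotient (h₁ : HasResLE (σ := σ) (k := k) (M₁ := M₁) ℳ₁ (r + 1))
    (h₂ : HasResLE (σ := σ) (k := k) (M₁ := M₂) ℳ₂ r) :
    HasResLE (σ := σ) (k := k) (M₁ := M₃) ℳ₃ r := by
  obtain ⟨K, dK, εK, hK, hεK, hKd, hKle⟩ := h₁
  obtain ⟨F, dF, εF, hF, hεF, hFd, hFle⟩ := h₂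
  obtain ⟨φ, hφg, hφ0, hφc⟩ :=
    exists_gr_lift hK.aug_d hK.exact_succ.d_d hF hεK hεF hKd hFd f hfgr
  refine ⟨FC.cone K F φ, fun i => match i with
      | 0 => dF 0
      | i + 1 => Sum.elim (dK i) (dF (i + 1)),
    g.comp εF, FC.cone_isRes hK hF φ f g hf hg hfg hφ0 hφc,
    fun d v hv => hggr _ _ (hεF _ _ hv), fun i d w hw => ?_, fun i b => ?_⟩
  · cases i with
    | zero =>
      rw [FC.cone_d_zero]
      exact add_mem (hφg 0 _ _ (inl_mem_freeGr hw)) (hFd 0 _ _ (inr_mem_freeGr hw))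
    | succ i =>
      rw [FC.cone_d_succ]
      exact elim_mem_freeGr (neg_mem (hKd i _ _ (inl_mem_freeGr hw)))
        (add_mem (hφg _ _ _ (inl_mem_freeGr hw)) (hFd _ _ _ (inr_mem_freeGr hw)))
  · cases i with
    | zero => exact hFle 0 b
    | succ i =>
      rcases b with b | b
      · have := hKle i b
        change dK i b ≤ r + (i + 1 : ℕ)
        push_cast
        omega
      · exact hFle (i + 1) b

omit [SetLike.GradedSMul (GrSyz.stdGr k σ) ℳ₃] in
/-- Horseshoe: an extension of modules with resolutions in degrees `≤ r + i`. -/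
theorem HasResLE.middle (h₁ : HasResLE (σ := σ) (k := k) (M₁ := M₁) ℳ₁ r)
    (h₃ : HasResLE (σ := σ) (k := k) (M₁ := M₃) ℳ₃ r) :
    HasResLE (σ := σ) (k := k) (M₁ := M₂) ℳ₂ r := by
  classical
  obtain ⟨A, dA, εA, hA, hεA, hAd, hAle⟩ := h₁
  obtain ⟨C, dC, εC, hC, hεC, hCd, hCle⟩ := h₃
  obtain ⟨s, hsg, hs⟩ := exists_gr_comp_eq (𝒩 := ℳ₂) ℳ₃ hεC hggr (fun v => hg _)
  have gf : ∀ x, g (f x) = 0 := fun x => by
    rw [← LinearMap.mem_ker, ← hfg]; exact LinearMap.mem_range_self _ _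
  have hrange : ∀ v, s (C.d 0 v) ∈ LinearMap.range f := fun v => by
    rw [hfg, LinearMap.mem_ker, hs, hC.aug_d]
  obtain ⟨θ, hθg, hθ⟩ := exists_gr_comp_eq (𝒩 := ℳ₁) (g := (-(s.comp (C.d 0)))) ℳ₂
    (fun d v hv => by exact neg_mem (hsg _ _ (hCd 0 _ _ hv))) hfgr
    (fun v => neg_mem (hrange v))
  let K : FC (MvPolynomial σ k) :=
    { ι := fun i => C.ι (i + 1), fin := fun i => C.fin (i + 1), d := fun i => -(C.d (i + 1)) }
  obtain ⟨τ, hτg, hτ0, hτc⟩ := exists_gr_lift (C := K) (dC := fun i => dC (i + 1)) (F := A)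
    (εC := θ) (ℳ := ℳ₁) (𝒩 := ℳ₁)
    (fun v => hf (by
      rw [map_zero, hθ]
      simp [K, hC.exact_succ.d_d]))
    (fun i v => by simp [K, hC.exact_succ.d_d]) hA hθg hεA
    (fun i d v hv => by exact neg_mem (hCd (i + 1) _ _ hv)) hAd LinearMap.id (fun _ _ h => h)
  have hτ0' : ∀ v, f (εA (τ 0 v)) = -(s (C.d 0 v)) := fun v => by
    rw [hτ0]; exact hθ v
  have hτc' : ∀ i v, A.d i (τ (i + 1) v) = -(τ i (C.d (i + 1) v)) := fun i v => by
    rw [hτc]; simp [K]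
  let D : FC (MvPolynomial σ k) :=
    { ι := fun i => A.ι i ⊕ C.ι i
      fin := fun i => inferInstanceAs (Finite (_ ⊕ _))
      d := fun i => prodMap' (sumMap (A.d i) (τ i)) (sumMap 0 (C.d i)) }
  have hD : ∀ i (w : A.ι (i + 1) ⊕ C.ι (i + 1) → MvPolynomial σ k),
      D.d i w = Sum.elim (A.d i (w ∘ Sum.inl) + τ i (w ∘ Sum.inr)) (C.d i (w ∘ Sum.inr)) :=
    fun i w => by
      change prodMap' _ _ w = _
      rw [prodMap'_apply, sumMap_apply, sumMap_apply, LinearMap.zero_apply, zero_add]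
  refine ⟨D, fun i => Sum.elim (dA i) (dC i), sumMap (f.comp εA) s, ⟨?_, ?_, fun i => ?_⟩,
    fun d w hw => ?_, fun i d w hw => ?_, fun i b => ?_⟩
  · intro y
    obtain ⟨v, hv⟩ := hC.surj (g y)
    obtain ⟨m, hm⟩ : y - s v ∈ LinearMap.range f := by
      rw [hfg, LinearMap.mem_ker, map_sub, hs, hv, sub_self]
    obtain ⟨u, hu⟩ := hA.surj m
    exact ⟨Sum.elim u v, by
      rw [sumMap_apply, Sum.elim_comp_inl, Sum.elim_comp_inr, LinearMap.comp_apply, hu, hm,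
        sub_add_cancel]⟩
  · refine le_antisymm (fun w hw => ?_) ?_
    · rw [LinearMap.mem_ker, sumMap_apply, LinearMap.comp_apply] at hw
      have h2 := congrArg g hw
      rw [map_add, gf, zero_add, hs, map_zero] at h2
      obtain ⟨v, hv⟩ := hC.exists_of_ker h2
      obtain ⟨u, hu⟩ := hA.exists_of_ker (v := w ∘ Sum.inl - τ 0 v) (hf (by
        rw [map_sub, map_sub, hτ0', hv, sub_neg_eq_add, hw, map_zero]))
      refine ⟨Sum.elim u v, ?_⟩
      rw [hD, Sum.elim_comp_inl, Sum.elim_comp_inr, hu, hv, sub_add_cancel]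
      exact Sum.elim_comp_inl_inr w
    · rintro x ⟨w, rfl⟩
      rw [LinearMap.mem_ker, hD, sumMap_apply, Sum.elim_comp_inl, Sum.elim_comp_inr,
        LinearMap.comp_apply, map_add, map_add, hA.aug_d, map_zero, zero_add, hτ0', neg_add_cancel]
  · refine le_antisymm (fun w hw => ?_) ?_
    · rw [LinearMap.mem_ker, hD] at hw
      have h1 : A.d i (w ∘ Sum.inl) + τ i (w ∘ Sum.inr) = 0 :=
        funext fun a => congr_fun hw (Sum.inl a)
      have h2 : C.d i (w ∘ Sum.inr) = 0 := funext fun a => congr_fun hw (Sum.inr a)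
      obtain ⟨v, hv⟩ := hC.exact_succ.exists_of_ker h2
      obtain ⟨u, hu⟩ := hA.exact_succ.exists_of_ker (v := w ∘ Sum.inl - τ (i + 1) v) (by
        rw [map_sub, hτc', hv, sub_neg_eq_add, h1])
      refine ⟨Sum.elim u v, ?_⟩
      rw [hD, Sum.elim_comp_inl, Sum.elim_comp_inr, hu, hv, sub_add_cancel]
      exact Sum.elim_comp_inl_inr w
    · rintro x ⟨w, rfl⟩
      rw [LinearMap.mem_ker, hD, hD, Sum.elim_comp_inl, Sum.elim_comp_inr, map_add,
        hA.exact_succ.d_d, zero_add, hτc', hC.exact_succ.d_d, neg_add_cancel]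
      exact Sum.elim_zero_zero
  · exact add_mem (hfgr _ _ (hεA _ _ (inl_mem_freeGr hw))) (hsg _ _ (inr_mem_freeGr hw))
  · rw [hD]
    exact elim_mem_freeGr (add_mem (hAd i _ _ (inl_mem_freeGr hw)) (hτg i _ _ (inr_mem_freeGr hw)))
      (hCd i _ _ (inr_mem_freeGr hw))
  · rcases b with b | b
    · exact hAle i b
    · exact hCle i b

/-- Shifted cone: a submodule, from the ambient module and the quotient. -/
theorem HasResLE.sub (h₂ : HasResLE (σ := σ) (k := k) (M₁ := M₂) ℳ₂ r)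
    (h₃ : HasResLE (σ := σ) (k := k) (M₁ := M₃) ℳ₃ (r - 1)) :
    HasResLE (σ := σ) (k := k) (M₁ := M₁) ℳ₁ r := by
  classical
  obtain ⟨A, dA, εA, hA, hεA, hAd, hAle⟩ := h₂
  obtain ⟨C, dC, εC, hC, hεC, hCd, hCle⟩ := h₃
  obtain ⟨φ, hφg, hφ0, hφc⟩ :=
    exists_gr_lift hA.aug_d hA.exact_succ.d_d hC hεA hεC hAd hCd g hggr
  have gf : ∀ x, g (f x) = 0 := fun x => by
    rw [← LinearMap.mem_ker, ← hfg]; exact LinearMap.mem_range_self _ _
  -- the first two terms of the cone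
  let T₀ : (A.ι 0 ⊕ C.ι 1 → MvPolynomial σ k) →ₗ[MvPolynomial σ k] (C.ι 0 → MvPolynomial σ k) :=
    sumMap (φ 0) (C.d 0)
  have hT₀g : GrLC.IsGrHom (freeGr (Sum.elim (dA 0) (dC 1))) (freeGr (dC 0)) T₀ :=
    fun d w hw => add_mem (hφg 0 _ _ (inl_mem_freeGr hw)) (hCd 0 _ _ (inr_mem_freeGr hw))
  have hT₀surj : ∀ v, v ∈ LinearMap.range T₀ := fun v => by
    obtain ⟨y, hy⟩ := hg (εC v)
    obtain ⟨u, rfl⟩ := hA.surj y
    obtain ⟨w, hw⟩ := hC.exists_of_ker (v := v - φ 0 u) (by rw [map_sub, hφ0, hy, sub_self])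
    exact ⟨Sum.elim u w, by
      simp only [T₀, sumMap_apply, Sum.elim_comp_inl, Sum.elim_comp_inr, hw, add_sub_cancel]⟩
  obtain ⟨sec, hsecg, hsec⟩ := exists_gr_comp_eq (g := LinearMap.id) (freeGr (dC 0))
    (fun _ _ h => h) hT₀g hT₀surj
  -- the augmentation
  let q : (A.ι 0 ⊕ C.ι 1 → MvPolynomial σ k) →ₗ[MvPolynomial σ k] M₂ :=
    (εA.comp (LinearMap.funLeft _ _ Sum.inl)).comp (LinearMap.id - sec.comp T₀)
  have hq : ∀ w, q w = εA ((w - sec (T₀ w)) ∘ Sum.inl) := fun w => rfl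
  have hqr : ∀ w, q w ∈ LinearMap.range f := fun w => by
    rw [hfg, LinearMap.mem_ker, hq, ← hφ0]
    have h0 : T₀ (w - sec (T₀ w)) = 0 := by rw [map_sub, hsec]; exact sub_self _
    have h1 : φ 0 ((w - sec (T₀ w)) ∘ Sum.inl) = -C.d 0 ((w - sec (T₀ w)) ∘ Sum.inr) :=
      eq_neg_of_add_eq_zero_left h0
    rw [h1, map_neg, hC.aug_d, neg_zero]
  have hqg : GrLC.IsGrHom (freeGr (Sum.elim (dA 0) (dC 1))) ℳ₂ q := fun d w hw => by
    rw [hq]
    exact hεA _ _ (inl_mem_freeGr (sub_mem hw (hsecg _ _ (hT₀g _ _ hw))))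
  obtain ⟨π, hπg, hπ⟩ := exists_gr_comp_eq (g := q) (𝒩 := ℳ₁) ℳ₂ hqg hfgr hqr
  -- the higher terms
  let T : ∀ i, (A.ι (i + 1) ⊕ C.ι (i + 2) → MvPolynomial σ k) →ₗ[MvPolynomial σ k]
      (A.ι i ⊕ C.ι (i + 1) → MvPolynomial σ k) := fun i =>
    prodMap' (sumMap (-(A.d i)) 0) (sumMap (φ (i + 1)) (C.d (i + 1)))
  have hT : ∀ i w, T i w = Sum.elim (-(A.d i (w ∘ Sum.inl)))
      (φ (i + 1) (w ∘ Sum.inl) + C.d (i + 1) (w ∘ Sum.inr)) := fun i w => by
    change prodMap' _ _ w = _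
    rw [prodMap'_apply, sumMap_apply, sumMap_apply, LinearMap.zero_apply, add_zero,
      LinearMap.neg_apply]
  have hT₀T : ∀ w, T₀ (T 0 w) = 0 := fun w => by
    simp only [T₀, hT, sumMap_apply, Sum.elim_comp_inl, Sum.elim_comp_inr, map_neg, map_add, hφc,
      hC.exact_succ.d_d, add_zero, neg_add_cancel]
  have hTT : ∀ i w, T i (T (i + 1) w) = 0 := fun i w => by
    rw [hT, hT, Sum.elim_comp_inl, Sum.elim_comp_inr, map_neg, hA.exact_succ.d_d, neg_zero,
      neg_zero, map_neg, map_add, hφc, hC.exact_succ.d_d, add_zero, neg_add_cancel]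
    exact Sum.elim_zero_zero
  have hTker : ∀ i w, T i w = 0 → ∃ x, T (i + 1) x = w := fun i w hw => by
    rw [hT] at hw
    have h1 : A.d i (w ∘ Sum.inl) = 0 :=
      neg_eq_zero.1 (funext fun a => congr_fun hw (Sum.inl a))
    have h2 : φ (i + 1) (w ∘ Sum.inl) + C.d (i + 1) (w ∘ Sum.inr) = 0 :=
      funext fun a => congr_fun hw (Sum.inr a)
    obtain ⟨u, hu⟩ := hA.exact_succ.exists_of_ker h1
    obtain ⟨v, hv⟩ := hC.exact_succ.exists_of_ker (i := i + 1)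
      (v := φ (i + 2) u + w ∘ Sum.inr) (by rw [map_add, hφc, hu, h2])
    refine ⟨Sum.elim (-u) v, ?_⟩
    rw [hT, Sum.elim_comp_inl, Sum.elim_comp_inr, map_neg, map_neg, neg_neg, hu, hv,
      neg_add_cancel_left]
    exact Sum.elim_comp_inl_inr w
  let D : FC (MvPolynomial σ k) :=
    { ι := fun i => match i with
        | 0 => A.ι 0 ⊕ C.ι 1
        | 1 => (A.ι 1 ⊕ C.ι 2) ⊕ C.ι 0
        | j + 2 => A.ι (j + 2) ⊕ C.ι (j + 3)
      fin := fun i => match i with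
        | 0 => inferInstanceAs (Finite (_ ⊕ _))
        | 1 => inferInstanceAs (Finite (_ ⊕ _))
        | _ + 2 => inferInstanceAs (Finite (_ ⊕ _))
      d := fun i => match i with
        | 0 => sumMap (T 0) sec
        | 1 => prodMap' (T 1) 0
        | j + 2 => T (j + 2) }
  refine ⟨D, fun i => match i with
      | 0 => Sum.elim (dA 0) (dC 1)
      | 1 => Sum.elim (Sum.elim (dA 1) (dC 2)) (dC 0)
      | j + 2 => Sum.elim (dA (j + 2)) (dC (j + 3)),
    π, ⟨?_, ?_, fun i => ?_⟩, hπg, fun i d w hw => ?_, fun i b => ?_⟩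
  · intro m
    obtain ⟨u, hu⟩ := hA.surj (f m)
    obtain ⟨v, hv⟩ := hC.exists_of_ker (v := -(φ 0 u)) (by rw [map_neg, hφ0, hu, gf, neg_zero])
    refine ⟨Sum.elim u v, hf ?_⟩
    rw [hπ, hq]
    have : T₀ (Sum.elim u v) = 0 := by
      simp only [T₀, sumMap_apply, Sum.elim_comp_inl, Sum.elim_comp_inr, hv, add_neg_cancel]
    rw [this, map_zero, sub_zero, Sum.elim_comp_inl, hu]
  · refine le_antisymm (fun w hw => ?_) ?_
    · rw [LinearMap.mem_ker] at hw
      have h1 : q w = 0 := by rw [← hπ, hw, map_zero]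
      rw [hq] at h1
      obtain ⟨u, hu⟩ := hA.exists_of_ker h1
      have h0 : T₀ (w - sec (T₀ w)) = 0 := by rw [map_sub, hsec]; exact sub_self _
      set c := w - sec (T₀ w) with hc
      have h3 : C.d 0 (c ∘ Sum.inr + φ 1 u) = 0 := by
        rw [map_add, hφc, hu, add_comm]; exact h0
      obtain ⟨v, hv⟩ := hC.exact_succ.exists_of_ker h3
      refine ⟨Sum.elim (Sum.elim (-u) v) (T₀ w), ?_⟩
      change sumMap (T 0) sec _ = w
      rw [sumMap_apply, Sum.elim_comp_inl, Sum.elim_comp_inr, hT, Sum.elim_comp_inl,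
        Sum.elim_comp_inr, map_neg, map_neg, neg_neg, hu, hv, add_comm (c ∘ Sum.inr),
        neg_add_cancel_left, Sum.elim_comp_inl_inr, hc, sub_add_cancel]
    · rintro x ⟨w, rfl⟩
      rw [LinearMap.mem_ker]
      refine hf ?_
      rw [hπ, map_zero]
      change q (sumMap (T 0) sec w) = 0
      have e : T₀ (T 0 (w ∘ Sum.inl) + sec (w ∘ Sum.inr)) = w ∘ Sum.inr := by
        rw [map_add T₀, hT₀T, hsec, LinearMap.id_apply]; exact zero_add _
      rw [sumMap_apply (T 0) sec, hq, e, add_sub_cancel_right, hT, Sum.elim_comp_inl, map_neg,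
        hA.aug_d, neg_zero]
  · cases i with
    | zero =>
      refine le_antisymm (fun w hw => ?_) ?_
      · rw [LinearMap.mem_ker] at hw
        change sumMap (T 0) sec w = 0 at hw
        rw [sumMap_apply] at hw
        have hb := congrArg T₀ hw
        rw [map_add, hT₀T, zero_add, hsec, map_zero, LinearMap.id_apply] at hb
        rw [hb, map_zero, add_zero] at hw
        obtain ⟨x, hx⟩ := hTker 0 _ hw
        refine ⟨x, ?_⟩
        change prodMap' (T 1) 0 x = w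
        rw [prodMap'_apply, hx, LinearMap.zero_apply, ← hb]
        exact Sum.elim_comp_inl_inr w
      · rintro x ⟨w, rfl⟩
        rw [LinearMap.mem_ker]
        change sumMap (T 0) sec (Sum.elim (T 1 w) 0) = 0
        rw [sumMap_apply (T 0) sec, Sum.elim_comp_inl, Sum.elim_comp_inr, hTT, map_zero, add_zero]
    | succ i =>
      cases i with
      | zero =>
        refine le_antisymm (fun w hw => ?_) ?_
        · rw [LinearMap.mem_ker] at hw
          change prodMap' (T 1) 0 w = 0 at hw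
          rw [prodMap'_apply] at hw
          exact hTker 1 w (funext fun a => congr_fun hw (Sum.inl a))
        · rintro x ⟨w, rfl⟩
          rw [LinearMap.mem_ker]
          change prodMap' (T 1) 0 (T 2 w) = 0
          rw [prodMap'_apply, hTT, LinearMap.zero_apply]
          exact Sum.elim_zero_zero
      | succ i =>
        refine le_antisymm (fun w hw => hTker (i + 2) w hw) ?_
        rintro x ⟨w, rfl⟩
        exact hTT (i + 2) w
  · have hTg : ∀ j (v : A.ι (j + 1) ⊕ C.ι (j + 2) → MvPolynomial σ k),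
        v ∈ freeGr (Sum.elim (dA (j + 1)) (dC (j + 2))) d →
          T j v ∈ freeGr (Sum.elim (dA j) (dC (j + 1))) d := fun j v hv => by
      rw [hT]
      exact elim_mem_freeGr (neg_mem (hAd j _ _ (inl_mem_freeGr hv)))
        (add_mem (hφg _ _ _ (inl_mem_freeGr hv)) (hCd _ _ _ (inr_mem_freeGr hv)))
    match i with
    | 0 => exact add_mem (hTg 0 _ (inl_mem_freeGr hw)) (hsecg _ _ (inr_mem_freeGr hw))
    | 1 => exact elim_mem_freeGr (hTg 1 _ hw) (zero_mem _)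
    | j + 2 => exact hTg (j + 2) _ hw
  · match i, b with
    | 0, Sum.inl b => exact hAle 0 b
    | 0, Sum.inr b =>
      have := hCle 1 b
      change dC 1 b ≤ r + (0 : ℕ)
      push_cast at this ⊢
      omega
    | 1, Sum.inl (Sum.inl b) => exact hAle 1 b
    | 1, Sum.inl (Sum.inr b) =>
      have := hCle 2 b
      change dC 2 b ≤ r + (1 : ℕ)
      push_cast at this ⊢
      omega
    | 1, Sum.inr b =>
      have := hCle 0 b
      change dC 0 b ≤ r + (1 : ℕ)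
      push_cast at this ⊢
      omega
    | j + 2, Sum.inl b => exact hAle (j + 2) b
    | j + 2, Sum.inr b =>
      have := hCle (j + 3) b
      change dC (j + 3) b ≤ r + (j + 2 : ℕ)
      push_cast at this ⊢
      omega

end Groth.Agent.GrSyz54
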