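import Groth.Agent.GrSyz54.AB
import Groth.Agent.GrSyz54.Hilbert
import Groth.Agent.LC15.Artin
import Groth.Agent.LC15.Dim
import Groth.Agent.GrMod19.Res

/-!
The last step of the resolution of a Cohen–Macaulay module.
-/

universe u

open DirectSum MvPolynomial

namespace Groth.Agent.GrSyz54

variable {k : Type u} [Field k] {n : ℕ}

theorem vanH_of_subsingleton_H {M : Type u} [AddCommGroup M] [Module (MvPolynomial (Fin n) k) M]
    {τ : Type u} [SetLike τ M] [AddSubgroupClass τ M] (ℳ : ℤ → τ) [Decomposition ℳ]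
    [SetLike.GradedSMul (GrSyz.stdGr k (Fin n)) ℳ] {i : ℕ}
    (h : Subsingleton (LocCoh.H (GrSyz.irrel (GrSyz.stdGr k (Fin n))).toIdeal i M)) (m : ℤ) :
    GrMod19.VanH (GrSyz.irrel (GrSyz.stdGr k (Fin n))) ℳ i m := fun E => by
  obtain ⟨e⟩ := GrMod19.nonempty_H_equiv E (GrSyz.irrel (GrSyz.stdGr k (Fin n))) i
  have := e.toEquiv.subsingleton
  exact (Submodule.eq_bot_iff _).2 fun y _ => Subsingleton.elim _ _

theorem vanH_of_top_degrees (L : ℕ) :
    ∀ (C : FC (MvPolynomial (Fin n) k)) (deg : ∀ i, C.ι i → ℤ) {M : Type u} [AddCommGroup M]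
      [Module (MvPolynomial (Fin n) k) M] {τ : Type u} [SetLike τ M] [AddSubgroupClass τ M]
      (ℳ : ℤ → τ) [Decomposition ℳ] [SetLike.GradedSMul (GrSyz.stdGr k (Fin n)) ℳ]
      (ε : (C.ι 0 → MvPolynomial (Fin n) k) →ₗ[MvPolynomial (Fin n) k] M),
      C.IsRes ε → GrLC.IsGrHom (freeGr (deg 0)) ℳ ε →
      (∀ i, GrLC.IsGrHom (freeGr (deg (i + 1))) (freeGr (deg i)) (C.d i)) →
      (∀ i, L < i → IsEmpty (C.ι i)) → ∀ e : ℤ, (∀ b, deg L b ≤ e) → ∀ (i : ℕ) (m : ℤ),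
        i + L = n → e < m + n → GrMod19.VanH (GrSyz.irrel (GrSyz.stdGr k (Fin n))) ℳ i m := by
  induction L with
  | zero =>
    intro C deg M _ _ τ _ _ ℳ _ _ ε hC hε hd hL e he i m hi hm
    refine lReg_of_res 1 C deg ℳ ε hC hε hd (fun j hj => hL j hj) e (fun j b => ?_) i m (by omega)
    cases j with
    | zero => simpa using he b
    | succ j => exact (hL (j + 1) j.succ_pos).elim b
  | succ L ih =>
    intro C deg M _ _ τ _ _ ℳ _ _ ε hC hε hd hL e he i m hi hm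
    let : Decomposition (GrInj18.subGr (freeGr (deg 0)) (LinearMap.ker ε)) :=
      (GrInj18.subGr_isInternal _ (GrInj18.isHomogeneous_ker _ _ hε)).chooseDecomposition
    refine GrMod19.vanH_right _ (ses_aug ℳ hC.surj hε)
      (vanH_of_subsingleton_H _ (subsingleton_H_free (by omega)) m) ?_
    rw [sub_zero]
    exact ih C.tail (fun j => deg (j + 1)) (GrInj18.subGr (freeGr (deg 0)) (LinearMap.ker ε)) _
      (FC.tail_isRes hC) (fun e v hv => hd 0 e v hv) (fun j => hd (j + 1))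
      (fun j hj => hL (j + 1) (by omega)) e he (i + 1) m (by omega) hm

theorem exists_deg_last_eq {M : Type u} [AddCommGroup M] [Module (MvPolynomial (Fin n) k) M]
    [Module.Finite (MvPolynomial (Fin n) k) M]
    {τ : Type u} [SetLike τ M] [AddSubgroupClass τ M] {ℳ : ℤ → τ} [Decomposition ℳ]
    [SetLike.GradedSMul (GrSyz.stdGr k (Fin n)) ℳ]
    (hCM : Module.supportDim (MvPolynomial (Fin n) k) M =
      ((LocCoh.idealDepth (GrSyz.irrel (GrSyz.stdGr k (Fin n))).toIdeal M : ℕ∞) : WithBot ℕ∞))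
    (F : GrSyz.FreeRes (GrSyz.stdGr k (Fin n)) ℳ)
    (hF : F.IsMinimal (GrSyz.irrel (GrSyz.stdGr k (Fin n))).toIdeal)
    (ℓ : ℕ) (hℓ : F.HasLengthLE ℓ) (hℓ' : F.rk ℓ ≠ 0) (ρ : ℤ) (hρ : F.IsGenLE ρ)
    (hρ' : ∃ (i : ℕ) (b : Fin (F.rk i)), F.deg i b = ρ + i) :
    ∃ b : Fin (F.rk ℓ), F.deg ℓ b = ρ + ℓ := by
  have hemp : ∀ i, ℓ < i → IsEmpty ((toFC F).ι i) := fun i hi => by
    change IsEmpty (Fin (F.rk i))
    rw [hℓ i hi]
    infer_instance
  have hmin : ∀ i, (toFC F).MinAt (GrSyz.irrel (GrSyz.stdGr k (Fin n))).toIdeal i := fun i v a =>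
    irrel_eq_ker (k := k) (σ := Fin n) ▸ minAt_of_isMinimal F hF i v a
  have hne : Nonempty ((toFC F).ι ℓ) := ⟨⟨0, Nat.pos_of_ne_zero hℓ'⟩⟩
  have hℓn : ℓ ≤ n := by
    simpa using (natCast_le_idealDepth_iff_of_res (toFC_isRes F) hmin hemp hne 0).1 (by simp)
  by_contra hall
  push Not at hall
  have hreg : LReg (k := k) (n := n) ℳ (ρ - 1) := by
    intro i m hm
    rcases lt_trichotomy i (n - ℓ) with h | h | h
    · exact vanH_of_subsingleton_H ℳ (subsingleton_H_of_length (ℓ + 1) (toFC F) F.augLin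
        (toFC_isRes F) (fun j hj => hemp j (by omega)) i (by omega)) m
    · refine vanH_of_top_degrees ℓ (toFC F) F.deg ℳ F.augLin (toFC_isRes F) (augLin_grHom F)
        (dLin_grHom F) hemp (ρ + ℓ - 1) (fun b => ?_) i m (by omega) (by omega)
      have := hρ ℓ b
      have := hall b
      omega
    · refine vanH_of_subsingleton_H ℳ (LC15.subsingleton_H_of_coheightLT (i) ?_ i le_rfl) m
      obtain ⟨j, rfl⟩ : ∃ j, i = j + 1 := ⟨i - 1, by omega⟩
      refine LC15.coheightLT_of_supportDim ?_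
      rw [hCM]
      refine WithBot.coe_le_coe.2 (ENat.forall_natCast_le_iff_le.mp fun a ha => ?_)
      have := (natCast_le_idealDepth_iff_of_res (toFC_isRes F) hmin hemp hne a).1 ha
      exact_mod_cast (show a ≤ j by omega)
  obtain ⟨i, b, hb⟩ := hρ'
  have := (lReg_iff_isGenLE F hF (ρ - 1)).1 hreg i b
  omega

end Groth.Agent.GrSyz54
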