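import Groth.Agent.EGA73.TildeQCoh
import Groth.Agent.EGAProj74.TildeRows
import Groth.Prelude.Def_GrMod2

/-!
`M(n)~` for modules whose homogeneous elements are killed by components of their killers, and its functoriality in `M`.
-/

universe u

open CategoryTheory CategoryTheory.Limits AlgebraicGeometry TopologicalSpace Opposite GrTilde

noncomputable section

namespace Groth.Agent.GrSyz54

open EGA73 (frac frac_eq_iff frac_eq_zero_iff frac_congr frac_smul_left pow_notMem mul_notMem frac_mem_tildeAt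
  fracSect sect_ext exists_local_frac gsmul_mem mem_radical_of_forall_mem exists_away_value proj_basicOpen_eq
  smul_pow_frac exists_pos_notMem isQuasicoherent_of_affine_cover isQuasicoherent_restrict_fromSpec)

variable {R A : Type u} [CommRing R] [CommRing A] [Algebra R A] {𝒜 : ℕ → Submodule R A} [GradedAlgebra 𝒜]
variable {M : Type u} [AddCommGroup M] [Module R M] [Module A M] {ℳ : ℕ → Submodule R M}

variable (𝒜 ℳ) in
/-- Components of an annihilator of a homogeneous element annihilate it. -/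
def CompKills : Prop :=
  ∀ (j : ℕ), ∀ z ∈ ℳ j, ∀ a : A, a • z = 0 → ∀ i, (DirectSum.decompose 𝒜 a i : A) • z = 0

theorem exists_homogeneous_killer (H : CompKills 𝒜 ℳ) {j : ℕ} {z : M} (hz : z ∈ ℳ j)
    (x : ProjectiveSpectrum 𝒜) {a : A} (ha : a ∉ x.asHomogeneousIdeal) (h : a • z = 0) :
    ∃ (i : ℕ) (c : A), c ∈ 𝒜 i ∧ c ∉ x.asHomogeneousIdeal ∧ c • z = 0 := by
  by_contra H'
  push Not at H'
  refine ha ((x.asHomogeneousIdeal.isHomogeneous.mem_iff).mpr fun i => ?_)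
  by_contra hi
  exact H' i _ (SetLike.coe_mem _) hi (H j z hz a h i)

theorem exists_pow_smul_eq_zero (H : CompKills 𝒜 ℳ) {d : ℕ} (hd : 0 < d) {f : A} (hf : f ∈ 𝒜 d) {j : ℕ} {z : M}
    (hz : z ∈ ℳ j)
    (h : ∀ x : ProjectiveSpectrum 𝒜, f ∉ x.asHomogeneousIdeal → ∃ a : A, a ∉ x.asHomogeneousIdeal ∧ a • z = 0) :
    ∃ N : ℕ, f ^ N • z = 0 := by
  let I : Ideal A := LinearMap.ker (LinearMap.toSpanSingleton A M z)
  have hI : I.IsHomogeneous 𝒜 := fun i a (ha : a • z = 0) => H j z hz a ha i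
  obtain ⟨N, hN⟩ := mem_radical_of_forall_mem 𝒜 hI hd hf fun x hx => by
    by_contra hfx
    obtain ⟨a, ha, haz⟩ := h x hfx
    exact ha (hx haz)
  exact ⟨N, hN⟩

theorem exists_pow_smul_eq_zero_of_frac (H : CompKills 𝒜 ℳ) {d : ℕ} (hd : 0 < d) {f : A} (hf : f ∈ 𝒜 d) {i : ℕ}
    {m : M} (hm : m ∈ ℳ i) {h : A} (hU : ∀ x : ProjectiveSpectrum.basicOpen 𝒜 f, h ∉ x.1.asHomogeneousIdeal)
    (hz : ∀ x : ProjectiveSpectrum.basicOpen 𝒜 f, frac x.1 m h (hU x) = 0) :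
    ∃ N : ℕ, f ^ N • m = 0 :=
  exists_pow_smul_eq_zero H hd hf hm fun x hx => frac_eq_zero_iff.mp (hz ⟨x, hx⟩)

variable [SetLike.GradedSMul 𝒜 ℳ]

theorem exists_frac_eq (H : CompKills 𝒜 ℳ) {n : ℤ} {d : ℕ} (hd : 0 < d) {f : A} (hf : f ∈ 𝒜 d)
    (s : sect 𝒜 ℳ n (op (ProjectiveSpectrum.basicOpen 𝒜 f))) :
    ∃ (k i : ℕ) (m : M), m ∈ ℳ i ∧ (i : ℤ) = k * d + n ∧
      ∀ x : ProjectiveSpectrum.basicOpen 𝒜 f, (s.1 x).1 = frac x.1 m (f ^ k) (pow_notMem x.2 k) := by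
  classical
  choose e j h m he hh hm hj hle hmem hs using exists_local_frac s
  -- finitely many charts suffice
  have hcpt : IsCompact (SetLike.coe (ProjectiveSpectrum.basicOpen 𝒜 f)) :=
    (Proj.isAffineOpen_basicOpen 𝒜 f hf hd).isCompact
  obtain ⟨t, ht⟩ := hcpt.elim_finite_subcover
    (fun x => SetLike.coe (ProjectiveSpectrum.basicOpen 𝒜 (h x)))
    (fun x => (ProjectiveSpectrum.basicOpen 𝒜 (h x)).isOpen)
    (fun x hx => Set.mem_iUnion.mpr ⟨⟨x, hx⟩, hmem ⟨x, hx⟩⟩)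
  -- uniform exponent for the overlaps
  have hN : ∀ p q : t, ∃ N : ℕ, (h p.1 * h q.1) ^ N • (h q.1 • m p.1 - h p.1 • m q.1) = 0 := fun p q => by
    have hdeg : h q.1 • m p.1 - h p.1 • m q.1 ∈ ℳ (e q.1 + j p.1) := by
      refine sub_mem (gsmul_mem 𝒜 ℳ (hh _) (hm _)) ?_
      have : e q.1 + j p.1 = e p.1 + j q.1 := by have := hj p.1; have := hj q.1; omega
      rw [this]
      exact gsmul_mem 𝒜 ℳ (hh _) (hm _)
    refine exists_pow_smul_eq_zero H (Nat.add_pos_left (he p.1) (e q.1))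
      (SetLike.mul_mem_graded (hh _) (hh _)) hdeg fun x hx => ?_
    have hp : h p.1 ∉ x.asHomogeneousIdeal := fun e => hx (Ideal.mul_mem_right _ _ e)
    have hq : h q.1 ∉ x.asHomogeneousIdeal := fun e => hx (Ideal.mul_mem_left _ _ e)
    exact frac_eq_iff.mp ((hs p.1 ⟨x, hp⟩).symm.trans (hs q.1 ⟨x, hq⟩))
  choose Nf hNf using hN
  obtain ⟨N, hNle⟩ : ∃ N, ∀ p q : t, Nf p q ≤ N :=
    ⟨Finset.univ.sup fun pq : t × t => Nf pq.1 pq.2,
      fun p q => Finset.le_sup (f := fun pq : t × t => Nf pq.1 pq.2) (Finset.mem_univ (p, q))⟩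
  have hNN : ∀ p q : t, (h p.1 * h q.1) ^ N • (h q.1 • m p.1 - h p.1 • m q.1) = 0 := fun p q => by
    rw [← Nat.sub_add_cancel (hNle p q), pow_add, mul_smul, hNf, smul_zero]
  let H : t → A := fun p => h p.1 ^ (N + 1)
  let E : t → ℕ := fun p => (N + 1) * e p.1
  let m' : t → M := fun p => h p.1 ^ N • m p.1
  have hH : ∀ p, H p ∈ 𝒜 (E p) := fun p => by simpa [H, E] using SetLike.pow_mem_graded (N + 1) (hh p.1)
  have hcompat : ∀ p q, H q • m' p = H p • m' q := fun p q => by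
    have := hNN p q
    rw [smul_sub, sub_eq_zero, smul_smul, smul_smul, mul_pow] at this
    simp only [H, m', smul_smul]
    convert this using 2 <;> ring
  -- the `H p` generate a homogeneous ideal whose radical contains `f`
  have hhom : (Ideal.span (Set.range H)).IsHomogeneous 𝒜 := by
    refine Ideal.homogeneous_span 𝒜 _ ?_
    rintro _ ⟨p, rfl⟩
    exact ⟨_, hH p⟩
  obtain ⟨K₀, hK₀⟩ := mem_radical_of_forall_mem 𝒜 hhom hd hf fun x hx => by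
    by_contra hfx
    obtain ⟨p, hp⟩ := Set.mem_iUnion.mp (ht hfx)
    obtain ⟨hpt, hxp⟩ := Set.mem_iUnion.mp hp
    exact pow_notMem (hxp : h p ∉ x.asHomogeneousIdeal) (N + 1)
      (hx (Ideal.subset_span ⟨⟨p, hpt⟩, rfl⟩))
  -- enlarge the exponent
  let K := K₀ + n.natAbs
  have hK : f ^ K ∈ Ideal.span (Set.range H) := by
    rw [pow_add]
    exact Ideal.mul_mem_right _ _ hK₀
  obtain ⟨a, ha⟩ := (Ideal.mem_span_range_iff_exists_fun).mp hK
  let b : t → A := fun p => if E p ≤ K * d then (DirectSum.decompose 𝒜 (a p) (K * d - E p) : A) else 0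
  have hb : ∑ p, b p * H p = f ^ K := by
    have hfK : f ^ K ∈ 𝒜 (K * d) := by simpa using SetLike.pow_mem_graded K hf
    conv_rhs => rw [← DirectSum.decompose_of_mem_same 𝒜 hfK, ← ha]
    rw [DirectSum.decompose_sum, DFinsupp.finsetSum_apply, AddSubmonoidClass.coe_finsetSum]
    refine Finset.sum_congr rfl fun p _ => ?_
    rw [DirectSum.coe_decompose_mul_of_right_mem 𝒜 _ (hH p)]
    by_cases hp : E p ≤ K * d <;> simp [b, hp]
  obtain ⟨i₀, hi₀⟩ : ∃ i₀ : ℕ, (i₀ : ℤ) = K * d + n := by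
    refine ⟨((K : ℤ) * d + n).toNat, Int.toNat_of_nonneg ?_⟩
    have h1 : n.natAbs ≤ K * d := (Nat.le_add_left _ _).trans (Nat.le_mul_of_pos_right _ hd)
    have h2 : (n.natAbs : ℤ) ≤ (K : ℤ) * d := by exact_mod_cast h1
    have h3 : -n ≤ (n.natAbs : ℤ) := by omega
    linarith
  refine ⟨K, i₀, ∑ p, b p • m' p, ?_, hi₀, fun x => ?_⟩
  · refine Submodule.sum_mem _ fun p _ => ?_
    by_cases hp : E p ≤ K * d
    · have hdeg : i₀ = (K * d - E p) + (N * e p.1 + j p.1) := by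
        have h1 := hj p.1
        have h2 : E p = N * e p.1 + e p.1 := by simp [E, Nat.succ_mul]
        have h3 : ((K * d : ℕ) : ℤ) = (K : ℤ) * d := by push_cast; ring
        omega
      rw [hdeg]
      refine gsmul_mem 𝒜 ℳ ?_ (gsmul_mem 𝒜 ℳ ?_ (hm _))
      · simp [b, hp]
      · simpa using SetLike.pow_mem_graded N (hh p.1)
    · simp [b, hp]
  · obtain ⟨p, hp⟩ := Set.mem_iUnion.mp (ht x.2)
    obtain ⟨hpt, hxp⟩ := Set.mem_iUnion.mp hp
    replace hxp : h p ∉ x.1.asHomogeneousIdeal := hxp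
    refine ((hs p ⟨x.1, hxp⟩).trans (frac_smul_left (c := h p ^ N)
      (hx' := mul_notMem (pow_notMem hxp N) hxp)).symm).trans (frac_congr ?_)
    calc f ^ K • h p ^ N • m p = (∑ q, b q * H q) • m' ⟨p, hpt⟩ := by rw [hb]
      _ = ∑ q, b q • H q • m' ⟨p, hpt⟩ := by simp [Finset.sum_smul, mul_smul]
      _ = ∑ q, b q • H ⟨p, hpt⟩ • m' q := Finset.sum_congr rfl fun q _ => by rw [hcompat]
      _ = (h p ^ N * h p) • ∑ q, b q • m' q := by
        rw [Finset.smul_sum, ← pow_succ]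
        exact Finset.sum_congr rfl fun q _ => smul_comm _ _ _

theorem isQCoh_tilde (H : CompKills 𝒜 ℳ) (n : ℤ) : Coh.IsQCoh (GrTilde.tilde 𝒜 ℳ n) := by
  let ι := Σ e : {e : ℕ // 0 < e}, 𝒜 e.1
  refine isQuasicoherent_of_affine_cover _ (fun i : ι => Proj.basicOpen 𝒜 (i.2 : A))
    (fun i => Proj.isAffineOpen_basicOpen 𝒜 _ i.2.2 i.1.2) ?_ fun i => ?_
  · refine eq_top_iff.mpr fun x _ => Opens.mem_iSup.mpr ?_
    obtain ⟨e, f, he, hf, hfx⟩ := exists_pos_notMem 𝒜 x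
    exact ⟨⟨⟨e, he⟩, ⟨f, hf⟩⟩, hfx⟩
  obtain ⟨⟨d, hd⟩, ⟨f, hf⟩⟩ := i
  refine isQuasicoherent_restrict_fromSpec _ _ (fun r s => ?_) (fun r t ht => ?_)
  · obtain ⟨l, a, ha, hfl, hr⟩ := exists_away_value hd hf r
    have hopen := proj_basicOpen_eq r ha hfl hr
    have hfa : f * a ∈ 𝒜 (d + l * d) := SetLike.mul_mem_graded hf ha
    let s' := (GrTilde.tilde 𝒜 ℳ n).presheaf.map (eqToHom hopen.symm).op s
    obtain ⟨k, i, m, hm, hi, hs'⟩ := exists_frac_eq H (Nat.add_pos_left hd _) hfa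
      (s' : sect 𝒜 ℳ n (op (ProjectiveSpectrum.basicOpen 𝒜 (f * a))))
    have hden : f ^ (l * k + k) ∈ 𝒜 ((l * k + k) * d) := by simpa using SetLike.pow_mem_graded _ hf
    have hij : (i : ℤ) = ((l * k + k) * d : ℕ) + n := by rw [hi]; push_cast; ring
    refine ⟨k, fracSect (U := ProjectiveSpectrum.basicOpen 𝒜 f) hm hden (fun x => pow_notMem x.2 _) hij,
      sect_ext fun x => ?_⟩
    have hx' : x.1 ∈ Proj.basicOpen 𝒜 (f * a) := hopen.le x.2
    have hxf : f ∉ x.1.asHomogeneousIdeal := fun e => hx' (Ideal.mul_mem_right _ _ e)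
    show frac x.1 m (f ^ (l * k + k)) _ = (r.1 ⟨x.1, hxf⟩ ^ k : Twist.A0 𝒜 x.1) • (s.1 x).1
    have hsx : (s.1 x).1 = frac x.1 m ((f * a) ^ k) (pow_notMem hx' k) := hs' ⟨x.1, hx'⟩
    rw [hsx, hr, smul_pow_frac]
    refine frac_congr ?_
    rw [smul_smul]
    congr 1
    ring
  · obtain ⟨l, a, ha, hfl, hr⟩ := exists_away_value hd hf r
    have hopen := proj_basicOpen_eq r ha hfl hr
    obtain ⟨k, i, m, hm, hi, hts⟩ :=
      exists_frac_eq H hd hf (t : sect 𝒜 ℳ n (op (ProjectiveSpectrum.basicOpen 𝒜 f)))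
    have hzero : ∀ x : ProjectiveSpectrum.basicOpen 𝒜 (f * a),
        frac x.1 m (f ^ k) (pow_notMem (fun e => x.2 (Ideal.mul_mem_right _ _ e)) k) = 0 := fun x =>
      (hts ⟨x.1, fun e => x.2 (Ideal.mul_mem_right _ _ e)⟩).symm.trans
        (congrArg (fun q => (q.1 ⟨x.1, hopen.ge x.2⟩).1) ht)
    obtain ⟨N, hN⟩ := exists_pow_smul_eq_zero_of_frac H (Nat.add_pos_left hd (l * d))
      (SetLike.mul_mem_graded hf ha) hm _ hzero
    refine ⟨N, sect_ext fun x => ?_⟩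
    show (r.1 x ^ N : Twist.A0 𝒜 x.1) • (t.1 x).1 = 0
    rw [hts, hr, smul_pow_frac, frac_eq_zero_iff]
    exact ⟨f ^ N, pow_notMem x.2 N, by rw [smul_smul, ← mul_pow]; exact hN⟩


section Map

variable {N : Type u} [AddCommGroup N] [Module R N] [Module A N] {𝒩 : ℕ → Submodule R N} [SetLike.GradedSMul 𝒜 𝒩]
  (u : M →ₗ[A] N) (hu : ∀ i, ∀ m ∈ ℳ i, u m ∈ 𝒩 i) (n : ℤ)

/-- The map of localized modules at a point. -/
def locMap (x : ProjectiveSpectrum 𝒜) :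
    LocMod 𝒜 (M := M) x →ₗ[Twist.Loc 𝒜 x] LocMod 𝒜 (M := N) x :=
  LocalizedModule.map _ u

omit [Module R M] [Module R N] [SetLike.GradedSMul 𝒜 ℳ] [SetLike.GradedSMul 𝒜 𝒩] in
theorem locMap_mk (x : ProjectiveSpectrum 𝒜) (m : M) (s : x.asHomogeneousIdeal.toIdeal.primeCompl) :
    locMap u x (LocalizedModule.mk m s) = LocalizedModule.mk (u m) s :=
  LocalizedModule.map_mk _ u m s

omit [SetLike.GradedSMul 𝒜 ℳ] [SetLike.GradedSMul 𝒜 𝒩] in
include hu in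
theorem locMap_mem (x : ProjectiveSpectrum 𝒜) {q : LocMod 𝒜 (M := M) x} (hq : q ∈ tildeAt 𝒜 ℳ n x) :
    locMap u x q ∈ tildeAt 𝒜 𝒩 n x := by
  induction hq using Submodule.span_induction with
  | mem q h =>
    obtain ⟨i, j, m, s, hs, hij, rfl⟩ := h
    rw [locMap_mk]
    exact Submodule.subset_span ⟨i, j, ⟨u m, hu i m m.2⟩, s, hs, hij, rfl⟩
  | zero => rw [map_zero]; exact zero_mem _
  | add q q' _ _ h h' => rw [map_add]; exact add_mem h h'
  | smul c q _ h =>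
    rw [a0_smul_def, LinearMap.map_smul, ← a0_smul_def]
    exact Submodule.smul_mem _ c h

/-- The map on sections. -/
def mapApp (U : (Opens (ProjectiveSpectrum.top 𝒜))ᵒᵖ) : sect 𝒜 ℳ n U →+ sect 𝒜 𝒩 n U where
  toFun f := ⟨fun x => ⟨locMap u x.1 (f.1 x).1, locMap_mem u hu n x.1 (f.1 x).2⟩, fun x => by
    obtain ⟨V, mV, iV, i, j, m, s, nin, c, w⟩ := f.2 x
    refine ⟨V, mV, iV, i, j, ⟨u m, hu i m m.2⟩, s, nin, ?_, fun y => ?_⟩
    · rcases c with c | c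
      · exact Or.inl c
      · exact Or.inr (show u (m : M) = 0 by rw [c, map_zero])
    · change locMap u y.1 (f.1 (iV y)).1 = _
      rw [w y, locMap_mk]⟩
  map_zero' := sect_ext fun x => map_zero (locMap u x.1)
  map_add' f g := sect_ext fun x => map_add (locMap u x.1) (f.1 x).1 (g.1 x).1

theorem mapApp_smul (U : (Opens (ProjectiveSpectrum.top 𝒜))ᵒᵖ) (r : Twist.O (𝒜 := 𝒜) U) (f : sect 𝒜 ℳ n U) :
    mapApp u hu n U (r • f) = r • mapApp u hu n U f :=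
  sect_ext fun x => LinearMap.map_smul (locMap u x.1) (r.1 x).val (f.1 x).1

variable (𝒜) in
/-- The morphism `M(n)~ ⟶ N(n)~` of a degree-preserving linear map. -/
def tmap : tilde 𝒜 ℳ n ⟶ tilde 𝒜 𝒩 n :=
  ⟨PresheafOfModules.homMk
    { app := fun U => AddCommGrpCat.ofHom (mapApp u hu n U)
      naturality := fun _ _ _ => rfl }
    fun U r s => mapApp_smul u hu n U r s⟩

theorem tmap_app_apply (V : (Proj 𝒜).Opens) (s : Γ(tilde 𝒜 ℳ n, V)) (y : V) :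
    (((tmap 𝒜 u hu n).app V s : sect 𝒜 𝒩 n (op V)).1 y).1 = locMap u y.1 ((s : sect 𝒜 ℳ n (op V)).1 y).1 := rfl

theorem tmap_app_fracSect {V : Opens (ProjectiveSpectrum.top 𝒜)} {i j : ℕ} {m : M} (hm : m ∈ ℳ i) {h : A}
    (hh : h ∈ 𝒜 j) (hU : ∀ x : V, h ∉ x.1.asHomogeneousIdeal) (hij : (i : ℤ) = j + n) :
    ((tmap 𝒜 u hu n).app V (fracSect hm hh hU hij) : sect 𝒜 𝒩 n (op V)) = fracSect (hu i m hm) hh hU hij :=
  sect_ext fun x => locMap_mk u x.1 m ⟨h, hU x⟩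

omit [SetLike.GradedSMul 𝒜 ℳ] [SetLike.GradedSMul 𝒜 𝒩] [Module R M] [Module R N] in
theorem locMap_injective (x : ProjectiveSpectrum 𝒜) (h : Function.Injective u) : Function.Injective (locMap u x) :=
  LocalizedModule.map_injective _ u h

theorem mono_tmap (h : Function.Injective u) : Mono (tmap 𝒜 u hu n) :=
  EGAProj74.mono_of_app_injective _ fun W s t e =>
    (sect_ext fun x => locMap_injective u x.1 h (congrArg (fun z => ((z : sect 𝒜 𝒩 n (op W)).1 x).1) e) :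
      (s : sect 𝒜 ℳ n (op W)) = t)

theorem exists_lift_of_surj (h : ∀ i, ∀ z ∈ 𝒩 i, ∃ m ∈ ℳ i, u m = z) (W : (Proj 𝒜).Opens)
    (t : Γ(tilde 𝒜 𝒩 n, W)) (y : W) :
    ∃ (O : (Proj 𝒜).Opens) (i : O ≤ W) (_ : y.1 ∈ O) (s : Γ(tilde 𝒜 ℳ n, O)),
      (tmap 𝒜 u hu n).app O s = EGAProj74.mres (tilde 𝒜 𝒩 n) i t := by
  obtain ⟨e, j, g, z, he, hg, hz, hj, hle, hy, hs⟩ := exists_local_frac (t : sect 𝒜 𝒩 n (op W)) y
  obtain ⟨m, hm, hmz⟩ := h j z hz
  refine ⟨ProjectiveSpectrum.basicOpen 𝒜 g, hle, hy,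
    fracSect (U := ProjectiveSpectrum.basicOpen 𝒜 g) hm hg (fun x => x.2) hj, ?_⟩
  refine (tmap_app_fracSect u hu n hm hg (fun x => x.2) hj).trans (sect_ext fun x => ?_)
  refine Eq.trans ?_ (hs x).symm
  subst hmz
  rfl

theorem epi_tmap (h : ∀ i, ∀ z ∈ 𝒩 i, ∃ m ∈ ℳ i, u m = z) : Epi (tmap 𝒜 u hu n) :=
  EGAProj74.epi_of_locally_surjective _ (exists_lift_of_surj u hu n h)

theorem isIso_tmap (hinj : Function.Injective u) (hsurj : ∀ i, ∀ z ∈ 𝒩 i, ∃ m ∈ ℳ i, u m = z) :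
    IsIso (tmap 𝒜 u hu n) := by
  have := mono_tmap (𝒜 := 𝒜) u hu n hinj
  have := epi_tmap (𝒜 := 𝒜) u hu n hsurj
  exact isIso_of_mono_of_epi _

variable {P : Type u} [AddCommGroup P] [Module R P] [Module A P] {𝒬 : ℕ → Submodule R P} [SetLike.GradedSMul 𝒜 𝒬]
  (g : N →ₗ[A] P) (hg : ∀ i, ∀ m ∈ 𝒩 i, g m ∈ 𝒬 i)

theorem tmap_comp_zero (hgu : ∀ m, g (u m) = 0) : tmap 𝒜 u hu n ≫ tmap 𝒜 g hg n = 0 := by
  ext W s
  refine (sect_ext fun x => ?_ : (_ : sect 𝒜 𝒬 n (op W)) = _)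
  show locMap g x.1 (locMap u x.1 ((s : sect 𝒜 ℳ n (op W)).1 x).1) = 0
  generalize ((s : sect 𝒜 ℳ n (op W)).1 x).1 = q
  induction q using LocalizedModule.induction_on with
  | h m a => rw [locMap_mk, locMap_mk, hgu, LocalizedModule.zero_mk]

theorem exact_tmap (hgu : ∀ m, g (u m) = 0) (hP : CompKills 𝒜 𝒬)
    (hex : ∀ i, ∀ m ∈ 𝒩 i, g m = 0 → ∃ x ∈ ℳ i, u x = m) :
    (ShortComplex.mk _ _ (tmap_comp_zero (𝒜 := 𝒜) u hu n g hg hgu)).Exact := by
  refine EGAProj74.exact_of_locally _ _ _ fun W t ht y => ?_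
  obtain ⟨e, j, h, z, he, hh, hz, hj, hle, hy, hs⟩ := exists_local_frac (t : sect 𝒜 𝒩 n (op W)) y
  have h0 : locMap g y.1 (frac y.1 z h hy) = 0 := by
    rw [← hs ⟨y.1, hy⟩]
    exact congrArg (fun q => ((q : sect 𝒜 𝒬 n (op W)).1 y).1) ht
  rw [frac, locMap_mk] at h0
  obtain ⟨a, ha, haz⟩ := frac_eq_zero_iff.mp h0
  obtain ⟨i, c, hc, hcy, hcz⟩ := exists_homogeneous_killer hP (hg j z hz) y.1 ha haz
  obtain ⟨x, hx, hxz⟩ := hex (i + j) (c • z) (gsmul_mem 𝒜 𝒩 hc hz) (by rw [map_smul]; exact hcz)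
  let O : (Proj 𝒜).Opens := ProjectiveSpectrum.basicOpen 𝒜 (c * h)
  have hO : ∀ q : O, c * h ∉ q.1.asHomogeneousIdeal := fun q => q.2
  have hOh : O ≤ ProjectiveSpectrum.basicOpen 𝒜 h := fun q hq e => hq (Ideal.mul_mem_left _ _ e)
  refine ⟨O, hOh.trans hle, mul_notMem hcy hy,
    fracSect (U := O) hx (SetLike.mul_mem_graded hc hh) hO (by push_cast; omega), ?_⟩
  refine (tmap_app_fracSect u hu n hx (SetLike.mul_mem_graded hc hh) hO (by push_cast; omega)).trans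
    (sect_ext fun q => ?_)
  refine Eq.trans ?_ (hs ⟨q.1, hOh q.2⟩).symm
  show frac q.1 (u x) (c * h) _ = frac q.1 z h _
  rw [hxz]
  exact frac_smul_left

end Map

omit [SetLike.GradedSMul 𝒜 ℳ] in
/-- A torsion module has zero fractions at every point. -/
theorem frac_eq_zero_of_killed {x : ProjectiveSpectrum 𝒜} {m : M} {h c : A} {hx : h ∉ x.asHomogeneousIdeal}
    (hc : c ∉ x.asHomogeneousIdeal) (hcm : c • m = 0) : frac x m h hx = 0 :=
  frac_eq_zero_iff.mpr ⟨c, hc, hcm⟩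

theorem sect_eq_zero_of_torsion (h : ∀ i, ∀ m ∈ ℳ i, ∀ x : ProjectiveSpectrum 𝒜, ∃ c : A,
    c ∉ x.asHomogeneousIdeal ∧ c • m = 0) {n : ℤ} {U : (Proj 𝒜).Opens} (s : sect 𝒜 ℳ n (op U)) : s = 0 := by
  refine sect_ext fun y => ?_
  obtain ⟨e, j, g, z, he, hg, hz, hj, hle, hy, hs⟩ := exists_local_frac s y
  obtain ⟨c, hc, hcz⟩ := h j z hz y.1
  exact (hs ⟨y.1, hy⟩).trans (frac_eq_zero_of_killed hc hcz)

theorem isZero_tilde_of_torsion (h : ∀ i, ∀ m ∈ ℳ i, ∀ x : ProjectiveSpectrum 𝒜, ∃ c : A,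
    c ∉ x.asHomogeneousIdeal ∧ c • m = 0) (n : ℤ) : IsZero (tilde 𝒜 ℳ n) := by
  rw [IsZero.iff_id_eq_zero]
  ext W s
  exact sect_eq_zero_of_torsion h (s : sect 𝒜 ℳ n (op W))

end Groth.Agent.GrSyz54

end
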