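import Groth.Agent.GrSyz54.TildeRes
import Groth.Agent.GrSyz54.Cone
import Groth.Agent.GrSyz54.LCReg
import Groth.Agent.GrSeg54.SegBij
import Groth.Agent.Pn71.Cohomology
import Groth.Agent.Var76.RegBasic

/-!
The sheaves `X(n)~` on projective space of a `ℤ`-graded module `X` over the polynomial ring.
-/

set_option autoImplicit false
set_option maxSynthPendingDepth 6

universe u

open CategoryTheory CategoryTheory.Limits AlgebraicGeometry TopologicalSpace Opposite GrTilde GrLC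

noncomputable section

namespace Groth.Agent.GrSyz54

open GrSeg54 (pieceK)
open EGA73 (frac frac_eq_iff frac_eq_zero_iff frac_congr frac_smul_left pow_notMem mul_notMem fracSect sect_ext
  frac_mem_tildeAt)

variable {k : Type u} [Field k] {r : ℕ}

local notation "𝔾" => GrSyz.stdGr k (Fin (r + 1))
local notation "𝔄" => CohB1.polyGrading r k
local notation "𝔪" => GrSyz.irrel (GrSyz.stdGr k (Fin (r + 1)))

theorem mem_stdGr_of_mem {i : ℕ} {a : MvPolynomial (Fin (r + 1)) k} (h : a ∈ 𝔄 i) : a ∈ 𝔾 (i : ℤ) := by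
  rw [stdGr_natCast]
  exact h

variable (X : GMod.{u} (GrSyz.stdGr k (Fin (r + 1))))

/-- The pieces of non-negative degree. -/
abbrev nP (i : ℕ) : Submodule k X.carrier := pieceK X (i : ℤ)

instance gsmul_nP : SetLike.GradedSMul 𝔄 (nP X) :=
  ⟨fun {i j} a x ha hx => by
    show a • x ∈ X.gr ((i + j : ℕ) : ℤ)
    rw [Nat.cast_add]
    exact smul_mem_add 𝔾 X.gr (mem_stdGr_of_mem ha) hx⟩

/-- `X(n)~`. -/
abbrev shf (n : ℤ) : (CohB1.ProjSpace r k).Modules := GrTilde.tilde 𝔄 (nP X) n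

theorem compKills : CompKills 𝔄 (nP X) := by
  classical
  intro j z hz a h i
  rw [← DirectSum.sum_support_decompose 𝔄 a, Finset.sum_smul] at h
  have key := congrArg (cmp X.gr ((i + j : ℕ) : ℤ)) h
  have hmem : ∀ b : ℕ, (DirectSum.decompose 𝔄 a b : MvPolynomial (Fin (r + 1)) k) • z ∈ X.gr ((b + j : ℕ) : ℤ) :=
    fun b => SetLike.GradedSMul.smul_mem (A := 𝔄) (B := nP X) (SetLike.coe_mem _) hz
  rw [map_sum, map_zero, Finset.sum_eq_single i] at key
  · rwa [cmp_of_mem X.gr (hmem i)] at key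
  · intro b _ hbi
    exact cmp_of_ne X.gr (hmem b) (fun q => hbi (by omega))
  · intro hi
    simp only [DFinsupp.notMem_support_iff] at hi
    rw [hi, ZeroMemClass.coe_zero, zero_smul, map_zero]

theorem isQCoh_shf (n : ℤ) : Coh.IsQCoh (shf X n) := isQCoh_tilde (compKills X) n

theorem X_mem_polyGrading (l : Fin (r + 1)) : (MvPolynomial.X l : MvPolynomial (Fin (r + 1)) k) ∈ 𝔄 1 :=
  MvPolynomial.isHomogeneous_X k l

theorem X_pow_mem_polyGrading (l : Fin (r + 1)) (K : ℕ) :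
    (MvPolynomial.X l : MvPolynomial (Fin (r + 1)) k) ^ K ∈ 𝔄 K := by
  simpa using SetLike.pow_mem_graded K (X_mem_polyGrading (k := k) l)

theorem exists_X_notMem (y : ProjectiveSpectrum 𝔄) :
    ∃ l : Fin (r + 1), (MvPolynomial.X l : MvPolynomial (Fin (r + 1)) k) ∉ y.asHomogeneousIdeal :=
  Var76.Reg.exists_mem_xOpen r k y

theorem one_notMem (y : ProjectiveSpectrum 𝔄) : (1 : MvPolynomial (Fin (r + 1)) k) ∉ y.asHomogeneousIdeal :=
  (Ideal.ne_top_iff_one _).mp y.isPrime.ne_top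

variable {X}

theorem exists_shift_piece {n : ℤ} {m : X.carrier} (hm : m ∈ X.gr n) (l : Fin (r + 1)) :
    ∃ K i : ℕ, (i : ℤ) = K + n ∧ (MvPolynomial.X l : MvPolynomial (Fin (r + 1)) k) ^ K • m ∈ nP X i := by
  obtain ⟨i, hi⟩ : ∃ i : ℕ, (i : ℤ) = n.natAbs + n := ⟨((n.natAbs : ℤ) + n).toNat, by omega⟩
  refine ⟨n.natAbs, i, hi, ?_⟩
  show _ ∈ X.gr (i : ℤ)
  rw [hi]
  exact smul_mem_add 𝔾 X.gr (mem_stdGr_of_mem (X_pow_mem_polyGrading l n.natAbs)) hm

variable (X) in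
theorem frac_one_mem (n : ℤ) {m : X.carrier} (hm : m ∈ X.gr n) (y : ProjectiveSpectrum 𝔄) :
    frac y m 1 (one_notMem y) ∈ tildeAt 𝔄 (nP X) n y := by
  obtain ⟨l, hl⟩ := exists_X_notMem (k := k) y
  obtain ⟨K, i, hi, hmem⟩ := exists_shift_piece hm l
  have e := frac_mem_tildeAt (𝒜 := 𝔄) (ℳ := nP X) y hmem (X_pow_mem_polyGrading l K) (pow_notMem hl K) hi
  rwa [show frac y ((MvPolynomial.X l : MvPolynomial (Fin (r + 1)) k) ^ K • m) _ (pow_notMem hl K) =
    frac y m 1 (one_notMem y) from frac_congr (one_smul _ _)] at e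

variable (X) in
/-- The global section `m / 1` of `X(n)~`. -/
def etaSect (n : ℤ) (m : X.gr n) : sect 𝔄 (nP X) n (op ⊤) :=
  ⟨fun y => ⟨frac y.1 m.1 1 (one_notMem y.1), frac_one_mem X n m.2 y.1⟩, fun y => by
    obtain ⟨l, hl⟩ := exists_X_notMem (k := k) y.1
    obtain ⟨K, i, hi, hmem⟩ := exists_shift_piece m.2 l
    exact ⟨ProjectiveSpectrum.basicOpen 𝔄 (MvPolynomial.X l), hl, homOfLE le_top, i, K, ⟨_, hmem⟩,
      ⟨_, X_pow_mem_polyGrading l K⟩, fun q => pow_notMem q.2 K, Or.inl hi,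
      fun q => frac_congr (one_smul _ _).symm⟩⟩

theorem etaSect_apply (n : ℤ) (m : X.gr n) (y : (⊤ : Opens (ProjectiveSpectrum.top 𝔄))) :
    ((etaSect X n m).1 y).1 = frac y.1 m.1 1 (one_notMem y.1) := rfl

variable (X) in
/-- The canonical map `X_n → Γ(P, X(n)~)`. -/
def eta (n : ℤ) : X.gr n →+ Γ(shf X n, ⊤) :=
  AddMonoidHom.mk' (fun m => (etaSect X n m : sect 𝔄 (nP X) n (op ⊤))) fun a b =>
    (sect_ext fun y => by
      show frac y.1 (a.1 + b.1) 1 _ = frac y.1 a.1 1 _ + frac y.1 b.1 1 _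
      rw [frac, frac, frac, LocalizedModule.mk_add_mk]
      exact frac_congr (by simp [Submonoid.smul_def]) : etaSect X n (a + b) = etaSect X n a + etaSect X n b)

theorem eta_eq_zero_iff (n : ℤ) (m : X.gr n) : eta X n m = 0 ↔ (m : X.carrier) ∈ gam (𝔪).toIdeal X.carrier := by
  constructor
  · intro h
    let J : Ideal (MvPolynomial (Fin (r + 1)) k) :=
      LinearMap.ker (LinearMap.toSpanSingleton (MvPolynomial (Fin (r + 1)) k) X.carrier (m : X.carrier))
    have hle : (𝔪).toIdeal ≤ J.radical := by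
      rw [irrel_eq_span_X, Ideal.span_le]
      rintro _ ⟨l, rfl⟩
      obtain ⟨K, i, hi, hmem⟩ := exists_shift_piece m.2 l
      obtain ⟨N, hN⟩ := exists_pow_smul_eq_zero (compKills X) Nat.one_pos (X_mem_polyGrading l) hmem
        fun y _ => by
          obtain ⟨a, ha, ham⟩ := frac_eq_zero_iff.mp
            (congrArg (fun q => ((q : sect 𝔄 (nP X) n (op ⊤)).1 ⟨y, trivial⟩).1) h)
          exact ⟨a, ha, by rw [smul_comm, ham, smul_zero]⟩
      exact ⟨N + K, LinearMap.mem_ker.2 (show (MvPolynomial.X l : MvPolynomial (Fin (r + 1)) k) ^ (N + K) • (m : X.carrier) = 0 by rw [pow_add, mul_smul]; exact hN)⟩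
    obtain ⟨c, hc⟩ := Ideal.exists_pow_le_of_le_radical_of_fg hle (IsNoetherian.noetherian _)
    exact ⟨c, fun a ha => hc ha⟩
  · rintro ⟨c, hc⟩
    refine (sect_ext fun y => ?_ : etaSect X n m = 0)
    obtain ⟨l, hl⟩ := exists_X_notMem (k := k) y.1
    exact frac_eq_zero_iff.mpr ⟨_, pow_notMem hl c, hc _ (Ideal.pow_mem_pow
      (by rw [irrel_eq_span_X]; exact Ideal.subset_span ⟨l, rfl⟩) c)⟩

variable {Y : GMod.{u} (GrSyz.stdGr k (Fin (r + 1)))}

/-- The morphism of sheaves of a graded map. -/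
abbrev shfMap (f : X.carrier →ₗ[MvPolynomial (Fin (r + 1)) k] Y.carrier) (hf : IsGrHom X.gr Y.gr f) (n : ℤ) :
    shf X n ⟶ shf Y n :=
  tmap 𝔄 (ℳ := nP X) (𝒩 := nP Y) f (fun i => hf (i : ℤ)) n

theorem shfMap_eta (f : X.carrier →ₗ[MvPolynomial (Fin (r + 1)) k] Y.carrier) (hf : IsGrHom X.gr Y.gr f) (n : ℤ)
    (m : X.gr n) : (shfMap f hf n).app ⊤ (eta X n m) = eta Y n ⟨f m, hf n m m.2⟩ :=
  (sect_ext fun y => locMap_mk f y.1 m.1 ⟨1, one_notMem y.1⟩ :
    (_ : sect 𝔄 (nP Y) n (op ⊤)) = etaSect Y n ⟨f m, hf n m m.2⟩)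

/-- The intersection of the standard cover and one more basic open. -/
theorem cOpen_basicOpen {ι : Type u} (g : ι → MvPolynomial (Fin (r + 1)) k) {p : ℕ} (i : Fin p → ι) :
    Coh69.cOpen (fun j => (Proj.basicOpen 𝔄 (g j) : (CohB1.ProjSpace r k).Opens)) i =
      Proj.basicOpen 𝔄 (∏ j, g (i j)) := by
  refine TopologicalSpace.Opens.ext (Set.ext fun x => ?_)
  refine (Coh69.mem_cOpen _ i x).trans ⟨fun h hx => ?_, fun h j hx => h ?_⟩
  · obtain ⟨j, -, hj⟩ := (x.isPrime.prod_mem_iff).1 hx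
    exact h j hj
  · exact (x.isPrime.prod_mem_iff).2 ⟨j, Finset.mem_univ _, hx⟩

section Bij

variable {δ : ℤ} {f : MvPolynomial (Fin (r + 1)) k} (hδ : 0 < δ) (hf : f ∈ GrSyz.stdGr k (Fin (r + 1)) δ)
  (hbij : Function.Bijective fun y : X.carrier => f • y)

include hδ hf in
theorem exists_deg_of_mem : ∃ d : ℕ, 0 < d ∧ (d : ℤ) = δ ∧ f ∈ 𝔄 d := by
  obtain ⟨d, rfl⟩ : ∃ d : ℕ, (d : ℤ) = δ := ⟨δ.toNat, by omega⟩
  rw [stdGr_natCast] at hf
  exact ⟨d, by omega, rfl, hf⟩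

include hf hbij in
theorem exists_div_mem {i : ℤ} {m : X.carrier} (hm : m ∈ X.gr (i + δ)) : ∃ m' ∈ X.gr i, f • m' = m := by
  obtain ⟨m', rfl⟩ := hbij.2 m
  refine ⟨cmp X.gr i m', cmp_mem X.gr i m', ?_⟩
  have := cmp_smul_homog_left 𝔾 X.gr (i + δ) hf m'
  rw [add_sub_cancel_right, cmp_of_mem X.gr hm] at this
  exact this.symm

include hδ hf hbij in
theorem res_shf_bijective (n : ℤ) {e : ℕ} (he : 0 < e) {g : MvPolynomial (Fin (r + 1)) k} (hg : g ∈ 𝔄 e)
    {V W : (CohB1.ProjSpace r k).Opens} (h : V ≤ W) (hW : W = Proj.basicOpen 𝔄 g)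
    (hV : V = Proj.basicOpen 𝔄 (g * f)) :
    Function.Bijective (Coh69.res (shf X n).presheaf h) := by
  obtain ⟨d, hd, hdδ, hfd⟩ := exists_deg_of_mem hδ hf
  refine res_bijective (compKills X) he hg hd hfd
    (fun i z _ hz => hbij.1 (hz.trans (smul_zero f).symm)) (fun i m hm => ?_) n h hW hV
  refine exists_div_mem hf hbij (i := (i : ℤ)) ?_
  have : m ∈ X.gr ((i + d : ℕ) : ℤ) := hm
  rwa [Nat.cast_add, hdδ] at this

include hδ hf hbij in
theorem subsingleton_hh_of_bij (n : ℤ) (p : ℕ) :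
    Subsingleton (Coh.HH (CohB1.ProjSpace r k) (shf X n) (p + 1)) := by
  obtain ⟨d, hd, hdδ, hfd⟩ := exists_deg_of_mem hδ hf
  let g : Option (ULift.{u} (Fin (r + 1))) → MvPolynomial (Fin (r + 1)) k :=
    fun o => o.elim f fun l => MvPolynomial.X l.down
  let deg : Option (ULift.{u} (Fin (r + 1))) → ℕ := fun o => o.elim d fun _ => 1
  have hg : ∀ o, g o ∈ 𝔄 (deg o) := fun o => by
    cases o with
    | none => exact hfd
    | some l => exact X_mem_polyGrading l.down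
  have hdeg : ∀ o, 0 < deg o := fun o => by
    cases o with
    | none => exact hd
    | some l => exact Nat.one_pos
  have hprod : ∀ {q : ℕ} (i : Fin (q + 1) → Option (ULift.{u} (Fin (r + 1)))),
      ∏ j, g (i j) ∈ 𝔄 (∑ j, deg (i j)) ∧ 0 < ∑ j, deg (i j) := fun i =>
    ⟨SetLike.prod_mem_graded 𝔄 _ _ fun j _ => hg (i j),
      Finset.sum_pos (fun j _ => hdeg (i j)) Finset.univ_nonempty⟩
  have hU : (⨆ o, (Proj.basicOpen 𝔄 (g o) : (CohB1.ProjSpace r k).Opens)) = ⊤ :=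
    eq_top_iff.2 fun y _ => by
      obtain ⟨l, hl⟩ := exists_X_notMem (k := k) y
      exact Opens.mem_iSup.2 ⟨some ⟨l⟩, hl⟩
  refine subsingleton_hh_of_cone (fun o => (Proj.basicOpen 𝔄 (g o) : (CohB1.ProjSpace r k).Opens)) hU (shf X n)
    (@CechComp71.acyclicOn_of_isAffineOpen _ _ _ (shf X n) (isQCoh_shf X n) fun q i => ?_) none (fun q i => ?_) p
  · exact (congrArg IsAffineOpen (cOpen_basicOpen g i)).mpr
      (Proj.isAffineOpen_basicOpen 𝔄 _ (hprod i).1 (hprod i).2)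
  · refine res_shf_bijective hδ hf hbij n (hprod i).2 (hprod i).1 _ (cOpen_basicOpen g i) ?_
    refine (cOpen_basicOpen g (Fin.cons none i)).trans (congrArg (Proj.basicOpen 𝔄) ?_)
    rw [Fin.prod_univ_succ, mul_comm]
    simp [g]

include hδ hf hbij in
theorem eta_bijective_of_bij (n : ℤ) : Function.Bijective (eta X n) := by
  obtain ⟨d, hd, hdδ, hfd⟩ := exists_deg_of_mem hδ hf
  have hres : Function.Injective (Coh69.res (shf X n).presheaf
      (le_top : (Proj.basicOpen 𝔄 f : (CohB1.ProjSpace r k).Opens) ≤ ⊤)) := by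
    refine (injective_iff_map_eq_zero _).2 fun s hs => ?_
    refine (sect_ext fun y => ?_ : (s : sect 𝔄 (nP X) n (op ⊤)) = 0)
    obtain ⟨l, hl⟩ := exists_X_notMem (k := k) y.1
    have h0 : Coh69.res (shf X n).presheaf
        (le_top : (Proj.basicOpen 𝔄 (MvPolynomial.X l) : (CohB1.ProjSpace r k).Opens) ≤ ⊤) s = 0 := by
      have h1 : (Proj.basicOpen 𝔄 (MvPolynomial.X l * f) : (CohB1.ProjSpace r k).Opens) ≤
          Proj.basicOpen 𝔄 (MvPolynomial.X l) := fun x hx q => hx (Ideal.mul_mem_right _ _ q)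
      have h2 : (Proj.basicOpen 𝔄 (MvPolynomial.X l * f) : (CohB1.ProjSpace r k).Opens) ≤
          Proj.basicOpen 𝔄 f := fun x hx q => hx (Ideal.mul_mem_left _ _ q)
      refine (res_shf_bijective hδ hf hbij n Nat.one_pos (X_mem_polyGrading l) h1 rfl rfl).1
        (Eq.trans ?_ (map_zero _).symm)
      refine (Coh69.res_res (shf X n).presheaf h1 le_top s).trans ?_
      refine (Coh69.res_res (shf X n).presheaf h2 le_top s).symm.trans ?_
      exact (congrArg (Coh69.res (shf X n).presheaf h2) hs).trans (map_zero _)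
    exact congrArg (fun q => ((q : sect 𝔄 (nP X) n
      (op (ProjectiveSpectrum.basicOpen 𝔄 (MvPolynomial.X l)))).1 ⟨y.1, hl⟩).1) h0
  refine ⟨(injective_iff_map_eq_zero _).2 fun m hm => ?_, fun s => ?_⟩
  · obtain ⟨c, hc⟩ := (eta_eq_zero_iff n m).1 hm
    refine Subtype.ext ?_
    have hfc : f ^ c • (m : X.carrier) = 0 := hc _ (Ideal.pow_mem_pow (GrMod19.mem_plus_of_mem isPlus hδ hf) c)
    clear hc
    induction c with
    | zero => simpa using hfc
    | succ c ih =>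
      refine ih (hbij.1 ?_)
      show f • f ^ c • (m : X.carrier) = f • (0 : X.carrier)
      rw [smul_zero, smul_smul, ← pow_succ', hfc]
  · obtain ⟨K, i, z, hz, hi, hs⟩ := exists_frac_eq (compKills X) hd hfd
      (Coh69.res (shf X n).presheaf (le_top : (Proj.basicOpen 𝔄 f : (CohB1.ProjSpace r k).Opens) ≤ ⊤) s :
        sect 𝔄 (nP X) n (op (ProjectiveSpectrum.basicOpen 𝔄 f)))
    have key : ∀ (K : ℕ) (z : X.carrier), z ∈ X.gr (n + (K * d : ℕ)) → ∃ m ∈ X.gr n, f ^ K • m = z := by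
      intro K
      induction K with
      | zero => exact fun z hz => ⟨z, by simpa using hz, by simp⟩
      | succ K ih =>
        intro z hz
        obtain ⟨z₁, hz₁, e₁⟩ := exists_div_mem hf hbij (i := n + (K * d : ℕ))
          (by rw [← hdδ]; push_cast at hz ⊢; rwa [add_mul, one_mul, ← add_assoc] at hz)
        obtain ⟨m, hm, e⟩ := ih z₁ hz₁
        exact ⟨m, hm, by rw [pow_succ', mul_smul, e, e₁]⟩
    obtain ⟨m, hm, hmz⟩ := key K z (by
      have : z ∈ X.gr (i : ℤ) := hz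
      rwa [show n + ((K * d : ℕ) : ℤ) = i by rw [hi]; push_cast; ring])
    refine ⟨⟨m, hm⟩, hres ?_⟩
    refine (sect_ext fun y => ?_ : (_ : sect 𝔄 (nP X) n (op (ProjectiveSpectrum.basicOpen 𝔄 f))) = _)
    refine Eq.trans ?_ (hs y).symm
    show frac y.1 m 1 _ = frac y.1 z (f ^ K) _
    exact frac_congr (by rw [one_smul, hmz])

end Bij

end Groth.Agent.GrSyz54

end
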