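import Groth.Agent.GrSyz54.TildeGMod
import Groth.Agent.Var76.RegTools
import Groth.Agent.ValVan29.Vanish
import Groth.Agent.Coh69.Sections

/-!
Graded local cohomology and the cohomology of the sheaves `X(n)~`.
-/

set_option autoImplicit false
set_option maxSynthPendingDepth 6

universe u

open CategoryTheory CategoryTheory.Limits AlgebraicGeometry TopologicalSpace Opposite GrTilde GrLC

noncomputable section

namespace Groth.Agent.GrSyz54

variable {k : Type u} [Field k] {r : ℕ}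

local notation "𝔾" => GrSyz.stdGr k (Fin (r + 1))
local notation "𝔄" => CohB1.polyGrading r k
local notation "𝔪" => GrSyz.irrel (GrSyz.stdGr k (Fin (r + 1)))
local notation "𝔛" => CohB1.ProjSpace r k

section Ses

variable {X Y Z : GMod.{u} (GrSyz.stdGr k (Fin (r + 1)))}
  {f : X.carrier →ₗ[MvPolynomial (Fin (r + 1)) k] Y.carrier}
  {g : Y.carrier →ₗ[MvPolynomial (Fin (r + 1)) k] Z.carrier}
  (S : GrMod19.Ses X.gr Y.gr Z.gr f g 0)

include S in
theorem ses_isGrHom : IsGrHom X.gr Y.gr f ∧ IsGrHom Y.gr Z.gr g :=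
  ⟨GrMod19.isGrHomDeg_zero_iff.1 S.hf, S.hg⟩

/-- The sequence of sheaves of a short exact sequence of graded modules. -/
abbrev shfSES (n : ℤ) : ShortComplex (CohB1.ProjSpace r k).Modules :=
  ShortComplex.mk (shfMap f (ses_isGrHom S).1 n) (shfMap g (ses_isGrHom S).2 n)
    (tmap_comp_zero f _ n g _ fun m => S.exact.apply_apply_eq_zero m)

include S in
theorem exists_piece_preimage {n : ℤ} {m : Y.carrier} (hm : m ∈ Y.gr n) (h : g m = 0) :
    ∃ x ∈ X.gr n, f x = m := by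
  obtain ⟨x, rfl⟩ := (S.exact m).1 h
  refine ⟨cmp X.gr n x, cmp_mem X.gr n x, ?_⟩
  rw [map_cmp X.gr Y.gr (ses_isGrHom S).1 n x, cmp_of_mem Y.gr hm]

include S in
theorem exists_piece_lift {n : ℤ} {z : Z.carrier} (hz : z ∈ Z.gr n) : ∃ m ∈ Y.gr n, g m = z := by
  obtain ⟨m, rfl⟩ := S.surj z
  refine ⟨cmp Y.gr n m, cmp_mem Y.gr n m, ?_⟩
  rw [map_cmp Y.gr Z.gr (ses_isGrHom S).2 n m, cmp_of_mem Z.gr hz]

theorem shfSES_shortExact (n : ℤ) : (shfSES S n).ShortExact :=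
  { exact := exact_tmap f _ n g _ (fun m => S.exact.apply_apply_eq_zero m) (compKills Z)
      fun i m hm h => exists_piece_preimage S hm h
    mono_f := mono_tmap f _ n S.inj
    epi_g := epi_tmap g _ n fun i z hz => exists_piece_lift S hz }

theorem shfSES_f_injective (n : ℤ) : Function.Injective ((shfSES S n).f.app ⊤) :=
  Coh69.sect_injective (Crv77.abComplex_shortExact (shfSES_shortExact S n)) ⊤

theorem shfSES_exact_top (n : ℤ) (s : Γ(shf Y n, ⊤)) (h : (shfSES S n).g.app ⊤ s = 0) :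
    ∃ t : Γ(shf X n, ⊤), (shfSES S n).f.app ⊤ t = s :=
  Coh69.sect_exact (Crv77.abComplex_shortExact (shfSES_shortExact S n)) ⊤ s h

theorem eta_f (n : ℤ) (x : X.gr n) :
    (shfSES S n).f.app ⊤ (eta X n x) = eta Y n ⟨f x, (ses_isGrHom S).1 n x x.2⟩ := shfMap_eta _ _ n x

theorem eta_g (n : ℤ) (m : Y.gr n) :
    (shfSES S n).g.app ⊤ (eta Y n m) = eta Z n ⟨g m, (ses_isGrHom S).2 n m m.2⟩ := shfMap_eta _ _ n m

theorem shfSES_g_surjective (n : ℤ) (h : Subsingleton (Coh.HH 𝔛 (shf X n) 1)) (s : Γ(shf Z n, ⊤)) :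
    ∃ t : Γ(shf Y n, ⊤), (shfSES S n).g.app ⊤ t = s :=
  have : Subsingleton (Coh69.HE (Crv77.abComplex (shfSES S n)).X₁ 1 (⊤ : (CohB1.ProjSpace r k).Opens)) :=
    (Coh69.hhEquiv (shf X n) 1).symm.toEquiv.subsingleton
  Coh69.surjective_of_subsingleton_H1 (Crv77.abComplex_shortExact (shfSES_shortExact S n)) ⊤ s

theorem subsingleton_hh_one_of_surjective (n : ℤ) (h : Subsingleton (Coh.HH 𝔛 (shf Y n) 1))
    (hg : ∀ s : Γ(shf Z n, ⊤), ∃ t : Γ(shf Y n, ⊤), (shfSES S n).g.app ⊤ t = s) :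
    Subsingleton (Coh.HH 𝔛 (shf X n) 1) :=
  have : Subsingleton (Coh69.HE (Crv77.abComplex (shfSES S n)).X₂ 1 (⊤ : (CohB1.ProjSpace r k).Opens)) :=
    (Coh69.hhEquiv (shf Y n) 1).symm.toEquiv.subsingleton
  have := Coh69.subsingleton_H1_of_surjective (Crv77.abComplex_shortExact (shfSES_shortExact S n))
    (⊤ : (CohB1.ProjSpace r k).Opens) hg
  (Coh69.hhEquiv (shf X n) 1).toEquiv.subsingleton

include S in
theorem eta_bijective_ext (n : ℤ) (hX : Function.Bijective (eta X n)) (hZ : Function.Bijective (eta Z n)) :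
    Function.Bijective (eta Y n) := by
  refine ⟨(injective_iff_map_eq_zero _).2 fun m hm => ?_, fun s => ?_⟩
  · have h1 := eta_g S n m
    rw [hm, map_zero, eq_comm, map_eq_zero_iff _ hZ.1] at h1
    obtain ⟨x, hx, hxm⟩ := exists_piece_preimage S m.2 (congrArg Subtype.val h1)
    have h2 := eta_f S n ⟨x, hx⟩
    rw [show (⟨f x, _⟩ : Y.gr n) = m from Subtype.ext hxm, hm] at h2
    have h3 := (map_eq_zero_iff _ hX.1).1 (shfSES_f_injective S n (h2.trans (map_zero _).symm))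
    refine Subtype.ext (hxm.symm.trans ?_)
    rw [show x = 0 from congrArg Subtype.val h3, map_zero]
    rfl
  · obtain ⟨z, hz⟩ := hZ.2 ((shfSES S n).g.app ⊤ s)
    obtain ⟨m, hm, hmz⟩ := exists_piece_lift S z.2
    obtain ⟨t, ht⟩ := shfSES_exact_top S n (s - eta Y n ⟨m, hm⟩) (by
      refine (map_sub _ _ _).trans (sub_eq_zero.2 ?_)
      rw [eta_g, ← hz]
      exact congrArg _ (Subtype.ext hmz.symm))
    obtain ⟨x, rfl⟩ := hX.2 t
    refine ⟨⟨f x, (ses_isGrHom S).1 n x x.2⟩ + ⟨m, hm⟩, ?_⟩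
    rw [map_add, ← eta_f S n x, ht, sub_add_cancel]

end Ses

/-- All sheaves of the module are cohomologically trivial and equal to the module. -/
def Affinish (X : GMod.{u} (GrSyz.stdGr k (Fin (r + 1)))) : Prop :=
  ∀ n : ℤ, Function.Bijective (eta X n) ∧ ∀ p : ℕ, Subsingleton (Coh.HH 𝔛 (shf X n) (p + 1))

section Torsion

variable {X : GMod.{u} (GrSyz.stdGr k (Fin (r + 1)))} (hX : LocCoh.IsPowerTorsion (GrSyz.irrel (GrSyz.stdGr k (Fin (r + 1)))).toIdeal X.carrier)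

include hX in
theorem exists_killer_of_torsion (i : ℕ) (m : X.carrier) (_ : m ∈ nP X i) (y : ProjectiveSpectrum 𝔄) :
    ∃ c : MvPolynomial (Fin (r + 1)) k, c ∉ y.asHomogeneousIdeal ∧ c • m = 0 := by
  obtain ⟨l, hl⟩ := exists_X_notMem (k := k) y
  obtain ⟨c, hc⟩ := hX m
  exact ⟨_, EGA73.pow_notMem hl c, hc _ (Ideal.pow_mem_pow (by rw [irrel_eq_span_X]; exact Ideal.subset_span ⟨l, rfl⟩) c)⟩

include hX in
theorem sections_eq_zero_of_torsion (n : ℤ) (U : (CohB1.ProjSpace r k).Opens) (s : Γ(shf X n, U)) : s = 0 :=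
  sect_eq_zero_of_torsion (exists_killer_of_torsion hX) (s : sect 𝔄 (nP X) n (op U))

include hX in
theorem subsingleton_hh_of_torsion (n : ℤ) (p : ℕ) : Subsingleton (Coh.HH 𝔛 (shf X n) p) :=
  ValVan29.subsingleton_hh_of_isZero (isZero_tilde_of_torsion (exists_killer_of_torsion hX) n) p

end Torsion

theorem affinish_quotGam (I : GMod.{u} (GrSyz.stdGr k (Fin (r + 1)))) (hI : IsStarInj (GrSyz.stdGr k (Fin (r + 1))) I.gr) :
    Affinish (GrSeg54.quotGam I 𝔪) := by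
  obtain ⟨l, deg, g, hdeg, hg, hgen⟩ := GrMod19.exists_plus_gens (nonnegGr (k := k) (n := r + 1)) isPlus
  refine GrSeg54.quot_gam_induction Affinish (fun X hX n => ?_) (fun X Y Z f g S h1 h3 n => ?_)
    (fun X δ x hδ hx hbij n => ⟨eta_bijective_of_bij hδ hx hbij n, subsingleton_hh_of_bij hδ hx hbij n⟩)
    hdeg hg 𝔪 hgen I hI
  · have hT := GrMod19.isPowerTorsion_of_subsingleton (M := X.carrier) (𝔪).toIdeal
    exact ⟨⟨fun a b _ => Subtype.ext (Subsingleton.elim _ _), fun s => ⟨0, by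
      rw [map_zero, sections_eq_zero_of_torsion hT n ⊤ s]⟩⟩, fun p => subsingleton_hh_of_torsion hT n _⟩
  · exact ⟨eta_bijective_ext S n (h1 n).1 (h3 n).1, fun p =>
      ValVan29.subsingleton_hh_X₂ (shfSES_shortExact S n) _ ((h1 n).2 p) ((h3 n).2 p)⟩

section Compare

variable {X : GMod.{u} (GrSyz.stdGr k (Fin (r + 1)))} (E : StarInjRes (GrSyz.stdGr k (Fin (r + 1))) X.gr) (n : ℤ)

theorem vanH_zero_iff_eta_injective (Y : GMod.{u} (GrSyz.stdGr k (Fin (r + 1)))) :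
    GrMod19.VanH 𝔪 Y.gr 0 n ↔ Function.Injective (eta Y n) := by
  refine ⟨fun h => (injective_iff_map_eq_zero _).2 fun m hm =>
    Subtype.ext (GrMod19.eq_zero_of_vanH_zero 𝔪 h ((eta_eq_zero_iff n m).1 hm) m.2),
    fun h => GrMod19.vanH_zero_of_forall 𝔪 fun m hm hmn => ?_⟩
  exact congrArg Subtype.val (h (a₁ := ⟨m, hmn⟩) (a₂ := 0) (((eta_eq_zero_iff n _).2 hm).trans (map_zero _).symm))

theorem tor_torsion : LocCoh.IsPowerTorsion (𝔪).toIdeal (GrSeg54.torM E 𝔪).carrier :=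
  GrSeg54.isPowerTorsion_torM E 𝔪

theorem tf_affinish : Affinish (GrSeg54.quotGam (E.X 0) 𝔪) := affinish_quotGam (E.X 0) (E.starInj 0)

theorem tf_vanH (i : ℕ) (e : ℤ) : GrMod19.VanH 𝔪 (GrSeg54.quotGam (E.X 0) 𝔪).gr i e :=
  GrSeg54.vanH_of_allVan (GrSeg54.allVan_quotGam 𝔪 nonnegGr isPlus _ (E.starInj 0)) i e

theorem vanH_succ_tf_iff (i : ℕ) :
    GrMod19.VanH 𝔪 X.gr (i + 1) n ↔ GrMod19.VanH 𝔪 (GrSeg54.tfM E 𝔪).gr (i + 1) n :=
  ⟨fun h => GrMod19.vanH_right 𝔪 (GrSeg54.ses_tor E 𝔪) h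
      (GrMod19.vanH_of_torsion 𝔪 (tor_torsion E) (Nat.succ_pos _) _),
    fun h => GrMod19.vanH_mid 𝔪 (GrSeg54.ses_tor E 𝔪)
      (GrMod19.vanH_of_torsion 𝔪 (tor_torsion E) (Nat.succ_pos _) _) h⟩

theorem vanH_tf_cok_iff (i : ℕ) :
    GrMod19.VanH 𝔪 (GrSeg54.tfM E 𝔪).gr (i + 1) n ↔ GrMod19.VanH 𝔪 (GrSeg54.cokM E 𝔪).gr i n :=
  ⟨fun h => GrMod19.vanH_right 𝔪 (GrSeg54.ses_tf E 𝔪) (tf_vanH E i n) (by rwa [sub_zero]),
    fun h => GrMod19.vanH_left 𝔪 (GrSeg54.ses_tf E 𝔪) (by rwa [add_zero]) (tf_vanH E _ _)⟩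

theorem eta_surjective_tf_iff :
    Function.Surjective (eta X n) ↔ Function.Surjective (eta (GrSeg54.tfM E 𝔪) n) := by
  let S := GrSeg54.ses_tor E 𝔪
  constructor
  · intro h s
    obtain ⟨t, rfl⟩ := shfSES_g_surjective S n (subsingleton_hh_of_torsion (tor_torsion E) n 1) s
    obtain ⟨m, rfl⟩ := h t
    exact ⟨_, (eta_g S n m).symm⟩
  · intro h s
    obtain ⟨b, hb⟩ := h ((shfSES S n).g.app ⊤ s)
    obtain ⟨m, hm, hmb⟩ := exists_piece_lift S b.2
    obtain ⟨t, ht⟩ := shfSES_exact_top S n (s - eta X n ⟨m, hm⟩) (by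
      refine (map_sub _ _ _).trans (sub_eq_zero.2 ?_)
      rw [eta_g, ← hb]
      exact congrArg _ (Subtype.ext hmb.symm))
    rw [sections_eq_zero_of_torsion (tor_torsion E) n ⊤ t, map_zero, eq_comm, sub_eq_zero] at ht
    exact ⟨_, ht.symm⟩

theorem eta_surjective_cok_iff :
    Function.Surjective (eta (GrSeg54.tfM E 𝔪) n) ↔ Function.Injective (eta (GrSeg54.cokM E 𝔪) n) := by
  let S := GrSeg54.ses_tf E 𝔪
  have hI := (tf_affinish E n).1
  constructor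
  · refine fun h => (injective_iff_map_eq_zero _).2 fun c hc => ?_
    obtain ⟨m, hm, hmc⟩ := exists_piece_lift S c.2
    obtain ⟨s, hs⟩ := shfSES_exact_top S n (eta _ n ⟨m, hm⟩) (by
      rw [eta_g, ← hc]
      exact congrArg _ (Subtype.ext hmc))
    obtain ⟨b, rfl⟩ := h s
    have hb := hI.1 ((eta_f S n b).symm.trans hs)
    refine Subtype.ext (hmc.symm.trans ?_)
    refine (congrArg _ (congrArg Subtype.val hb).symm).trans ?_
    exact S.exact.apply_apply_eq_zero _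
  · intro h s
    obtain ⟨m, hm⟩ := hI.2 ((shfSES S n).f.app ⊤ s)
    have h0 : (shfSES S n).g.app ⊤ ((shfSES S n).f.app ⊤ s) = 0 :=
      Coh69.sect_f_g (Crv77.abComplex (shfSES S n)) ⊤ s
    rw [← hm, eta_g] at h0
    obtain ⟨b, hb, hbm⟩ := exists_piece_preimage S m.2
      (congrArg Subtype.val (h (h0.trans (map_zero _).symm)))
    refine ⟨⟨b, hb⟩, shfSES_f_injective S n ?_⟩
    rw [eta_f, ← hm]
    exact congrArg _ (Subtype.ext hbm)

/-- Surjectivity of `X_n → Γ(P, X(n)~)` is the vanishing of `H^1_𝔪(X)_n`. -/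
theorem eta_surjective_iff (Y : GMod.{u} (GrSyz.stdGr k (Fin (r + 1)))) :
    Function.Surjective (eta Y n) ↔ GrMod19.VanH 𝔪 Y.gr 1 n := by
  obtain ⟨F⟩ := GrInj18.nonempty_starInjRes (GrSyz.stdGr k (Fin (r + 1))) Y.gr
  rw [eta_surjective_tf_iff F, eta_surjective_cok_iff F, vanH_succ_tf_iff F n 0, vanH_tf_cok_iff F n 0,
    vanH_zero_iff_eta_injective]

theorem subsingleton_hh_tf_iff (i : ℕ) :
    Subsingleton (Coh.HH 𝔛 (shf X n) (i + 1)) ↔ Subsingleton (Coh.HH 𝔛 (shf (GrSeg54.tfM E 𝔪) n) (i + 1)) := by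
  have hS := shfSES_shortExact (GrSeg54.ses_tor E 𝔪) n
  exact ⟨fun h => ValVan29.subsingleton_hh_X₃ hS _ h (subsingleton_hh_of_torsion (tor_torsion E) n _),
    fun h => ValVan29.subsingleton_hh_X₂ hS _ (subsingleton_hh_of_torsion (tor_torsion E) n _) h⟩

theorem subsingleton_hh_one_cok_iff :
    Subsingleton (Coh.HH 𝔛 (shf (GrSeg54.tfM E 𝔪) n) 1) ↔ Function.Surjective (eta (GrSeg54.cokM E 𝔪) n) := by
  let S := GrSeg54.ses_tf E 𝔪
  have hI := tf_affinish E n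
  constructor
  · intro h s
    obtain ⟨t, rfl⟩ := shfSES_g_surjective S n h s
    obtain ⟨m, rfl⟩ := hI.1.2 t
    exact ⟨_, (eta_g S n m).symm⟩
  · refine fun h => subsingleton_hh_one_of_surjective S n (hI.2 0) fun s => ?_
    obtain ⟨c, rfl⟩ := h s
    obtain ⟨m, hm, hmc⟩ := exists_piece_lift S c.2
    exact ⟨eta _ n ⟨m, hm⟩, (eta_g S n _).trans (congrArg _ (Subtype.ext hmc))⟩

theorem subsingleton_hh_succ_cok_iff (i : ℕ) :
    Subsingleton (Coh.HH 𝔛 (shf (GrSeg54.tfM E 𝔪) n) (i + 2)) ↔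
      Subsingleton (Coh.HH 𝔛 (shf (GrSeg54.cokM E 𝔪) n) (i + 1)) := by
  have hS := shfSES_shortExact (GrSeg54.ses_tf E 𝔪) n
  have hI := (tf_affinish E n).2
  exact ⟨fun h => ValVan29.subsingleton_hh_X₃ hS _ (hI i) h,
    fun h => Var76.Reg.subsingleton_hh_X₁ (R := k) hS _ h (hI (i + 1))⟩

/-- `H^{i}(P, X(n)~)` vanishes exactly when `H^{i+1}_𝔪(X)_n` does, for positive `i`. -/
theorem subsingleton_hh_iff : ∀ (i : ℕ) (Y : GMod.{u} (GrSyz.stdGr k (Fin (r + 1)))),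
    Subsingleton (Coh.HH 𝔛 (shf Y n) (i + 1)) ↔ GrMod19.VanH 𝔪 Y.gr (i + 2) n := by
  intro i
  induction i with
  | zero =>
    intro Y
    obtain ⟨F⟩ := GrInj18.nonempty_starInjRes (GrSyz.stdGr k (Fin (r + 1))) Y.gr
    rw [subsingleton_hh_tf_iff F, subsingleton_hh_one_cok_iff F, vanH_succ_tf_iff F n 1, vanH_tf_cok_iff F n 1,
      eta_surjective_iff]
  | succ i ih =>
    intro Y
    obtain ⟨F⟩ := GrInj18.nonempty_starInjRes (GrSyz.stdGr k (Fin (r + 1))) Y.gr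
    rw [subsingleton_hh_tf_iff F, subsingleton_hh_succ_cok_iff F, vanH_succ_tf_iff F n (i + 2),
      vanH_tf_cok_iff F n (i + 2), ih]

end Compare

end Groth.Agent.GrSyz54

end
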