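import Groth.Agent.GrSyz54.TildeLC
import Groth.Agent.GrSeg54.SegIso
import Groth.Agent.GrMod19.Reg
import Groth.Agent.EGA73.TwistInvertible

/-!
Regularity of the sheaf of a graded module.
-/

set_option autoImplicit false
set_option maxSynthPendingDepth 6

universe u

open CategoryTheory CategoryTheory.Limits AlgebraicGeometry TopologicalSpace Opposite GrTilde GrLC

noncomputable section

namespace Groth.Agent.GrSyz54

variable {k : Type u} [Field k] {r : ℕ}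
  {M : Type u} [AddCommGroup M] [Module k M] [Module (MvPolynomial (Fin (r + 1)) k) M]
  (ℳ : ℤ → Submodule k M) [DirectSum.Decomposition ℳ] [SetLike.GradedSMul (GrSyz.stdGr k (Fin (r + 1))) ℳ]
  [SetLike.GradedSMul (CohB1.polyGrading r k) (fun n : ℕ => ℳ (n : ℤ))]

local notation "𝔾" => GrSyz.stdGr k (Fin (r + 1))
local notation "𝔄" => CohB1.polyGrading r k
local notation "𝔪" => GrSyz.irrel (GrSyz.stdGr k (Fin (r + 1)))

/-- the module as a bundled graded module -/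
abbrev bdl : GMod.{u} (GrSyz.stdGr k (Fin (r + 1))) := GrSeg54.gN (GrSyz.stdGr k (Fin (r + 1))) ℳ

/-- the identity -/
def toBdl : M →ₗ[MvPolynomial (Fin (r + 1)) k] (bdl (k := k) (r := r) ℳ).carrier where
  toFun m := m
  map_add' _ _ := rfl
  map_smul' _ _ := rfl

/-- `M(n)~` against the bundled module -/
abbrev toShf (n : ℤ) : GrTilde.tilde 𝔄 (fun i : ℕ => ℳ (i : ℤ)) n ⟶ shf (bdl (k := k) (r := r) ℳ) n :=
  tmap 𝔄 (ℳ := fun i : ℕ => ℳ (i : ℤ)) (𝒩 := nP (bdl (k := k) (r := r) ℳ)) (toBdl (k := k) (r := r) ℳ)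
    (fun _ _ h => h) n

theorem isIso_toShf (n : ℤ) : IsIso (toShf (k := k) (r := r) ℳ n) :=
  isIso_tmap (𝒜 := 𝔄) (N := (bdl (k := k) (r := r) ℳ).carrier) (ℳ := fun i : ℕ => ℳ (i : ℤ))
    (𝒩 := nP (bdl (k := k) (r := r) ℳ)) (toBdl (k := k) (r := r) ℳ)
    (fun _ _ h => h) n Function.injective_id fun _ z hz => ⟨z, hz, rfl⟩

theorem vanH_bdl {i : ℕ} {n : ℤ} :
    GrMod19.VanH 𝔪 (bdl (k := k) (r := r) ℳ).gr i n ↔ GrMod19.VanH 𝔪 ℳ i n :=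
  GrMod19.vanH_selfN (𝒜 := GrSyz.stdGr k (Fin (r + 1))) ℳ 𝔪

theorem isQCoh_tilde_self (n : ℤ) : Coh.IsQCoh (GrTilde.tilde 𝔄 (fun i : ℕ => ℳ (i : ℤ)) n) :=
  have := isIso_toShf (k := k) (r := r) ℳ n
  (SheafOfModules.isQuasicoherent (Proj 𝔄).ringCatSheaf).prop_of_iso (asIso (toShf (k := k) (r := r) ℳ n)).symm
    (isQCoh_shf _ n)

theorem subsingleton_hh_twist_iff (e : ℤ) (i : ℕ) :
    Subsingleton (Coh.HH (CohB1.ProjSpace r k)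
      (CohB1.tensorMod (GrTilde.tilde 𝔄 (fun i : ℕ => ℳ (i : ℤ)) 0) (Twist.twistProjSpace r k e)) (i + 1)) ↔
      GrMod19.VanH 𝔪 ℳ (i + 2) e := by
  obtain ⟨c⟩ := EGA73.nonempty_tilde_shift_iso (ℳ := fun i : ℕ => ℳ (i : ℤ)) (Var76.Reg.hgen r k) e
  have := isIso_toShf (k := k) (r := r) ℳ e
  let c' := c.symm ≪≫ asIso (toShf (k := k) (r := r) ℳ e)
  rw [← vanH_bdl, ← subsingleton_hh_iff]
  exact ⟨fun h => ValVan29.subsingleton_hh_of_iso c' _ h, fun h => ValVan29.subsingleton_hh_of_iso c'.symm _ h⟩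

theorem globalOf_surjective_iff (d : ℕ) :
    Function.Surjective (fun m : ↥(ℳ (d : ℤ)) => GrTilde.globalOf 𝔄 (fun i : ℕ => ℳ (i : ℤ)) m) ↔
      GrMod19.VanH 𝔪 ℳ 1 (d : ℤ) := by
  rw [← vanH_bdl, ← eta_surjective_iff]
  have := isIso_toShf (k := k) (r := r) ℳ (d : ℤ)
  let e := toShf (k := k) (r := r) ℳ (d : ℤ)
  have hb : Function.Bijective (e.app ⊤) :=
    (ConcreteCategory.isIso_iff_bijective _).1 (Scheme.Modules.Hom.isIso_iff_isIso_app.1 this ⊤)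
  have key : ∀ m : ℳ (d : ℤ), e.app ⊤ (GrTilde.globalOf 𝔄 (fun i : ℕ => ℳ (i : ℤ)) m) =
      eta (bdl (k := k) (r := r) ℳ) (d : ℤ) ⟨m.1, m.2⟩ := fun m =>
    (EGA73.sect_ext fun y => locMap_mk (toBdl (k := k) (r := r) ℳ) y.1 m.1 ⟨1, one_notMem y.1⟩ :
      (_ : sect 𝔄 (nP (bdl (k := k) (r := r) ℳ)) (d : ℤ) (op ⊤)) = etaSect (bdl (k := k) (r := r) ℳ) (d : ℤ) ⟨m.1, m.2⟩)
  constructor
  · intro h s
    obtain ⟨t, rfl⟩ := hb.2 s
    obtain ⟨m, rfl⟩ := h t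
    exact ⟨⟨m.1, m.2⟩, (key m).symm⟩
  · intro h t
    obtain ⟨m, hm⟩ := h (e.app ⊤ t)
    exact ⟨⟨m.1, m.2⟩, hb.1 ((key ⟨m.1, m.2⟩).trans hm)⟩

theorem isMRegular_iff_vanH (d : ℤ) :
    Curv2.IsMRegular k r (GrTilde.tilde 𝔄 (fun i : ℕ => ℳ (i : ℤ)) 0) d ↔
      ∀ i : ℕ, GrMod19.VanH 𝔪 ℳ (i + 2) (d - (i + 1 : ℕ)) := by
  rw [Var76.Reg.isMRegular_iff (n := r) (isQCoh_tilde_self (k := k) (r := r) ℳ 0)]
  refine ⟨fun h i => (subsingleton_hh_twist_iff ℳ _ i).1 (h (i + 1) (Nat.le_add_left 1 i)), fun h i hi => ?_⟩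
  obtain ⟨i, rfl⟩ : ∃ j, i = j + 1 := ⟨i - 1, by omega⟩
  exact (subsingleton_hh_twist_iff ℳ _ i).2 (h i)

end Groth.Agent.GrSyz54

end
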