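import Groth.Agent.GrSyz54.Tilde
import Groth.Agent.Coh69.Cech

/-!
Restriction of sections of `M(n)~` to the locus of a bijectively acting element.
-/

set_option autoImplicit false

universe u

open CategoryTheory CategoryTheory.Limits AlgebraicGeometry TopologicalSpace Opposite GrTilde

noncomputable section

namespace Groth.Agent.GrSyz54

open EGA73 (frac frac_eq_zero_iff frac_congr frac_smul_left pow_notMem mul_notMem fracSect sect_ext gsmul_mem)

variable {R A : Type u} [CommRing R] [CommRing A] [Algebra R A] {𝒜 : ℕ → Submodule R A} [GradedAlgebra 𝒜]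
variable {M : Type u} [AddCommGroup M] [Module R M] [Module A M] {ℳ : ℕ → Submodule R M}
  [SetLike.GradedSMul 𝒜 ℳ]

omit [SetLike.GradedSMul 𝒜 ℳ] in
theorem exists_pow_div {d : ℕ} {f : A} (hdiv : ∀ i, ∀ m ∈ ℳ (i + d), ∃ m' ∈ ℳ i, f • m' = m) :
    ∀ (k i : ℕ), ∀ m ∈ ℳ (i + k * d), ∃ m' ∈ ℳ i, f ^ k • m' = m := by
  intro k
  induction k with
  | zero =>
    intro i m hm
    exact ⟨m, by simpa using hm, by simp⟩
  | succ k ih =>
    intro i m hm
    obtain ⟨m₁, hm₁, e⟩ := hdiv (i + k * d) m (by rwa [show i + k * d + d = i + (k + 1) * d by ring])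
    obtain ⟨m₂, hm₂, e₂⟩ := ih i m₁ hm₁
    exact ⟨m₂, hm₂, by rw [pow_succ', mul_smul, e₂, e]⟩

theorem eq_zero_of_pow_smul {f : A} (hinj : ∀ i, ∀ z ∈ ℳ i, f • z = 0 → z = 0) {d : ℕ} (hf : f ∈ 𝒜 d) :
    ∀ (k i : ℕ), ∀ z ∈ ℳ i, f ^ k • z = 0 → z = 0 := by
  intro k
  induction k with
  | zero =>
    intro i z _ h
    simpa using h
  | succ k ih =>
    intro i z hz h
    refine hinj i z hz (ih (d + i) _ (gsmul_mem 𝒜 ℳ hf hz) ?_)
    rwa [smul_smul, ← pow_succ]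

variable {e d : ℕ} {g f : A}

theorem res_bijective (H : CompKills 𝒜 ℳ) (he : 0 < e) (hg : g ∈ 𝒜 e) (hd : 0 < d) (hf : f ∈ 𝒜 d)
    (hinj : ∀ i, ∀ z ∈ ℳ i, f • z = 0 → z = 0) (hdiv : ∀ i, ∀ m ∈ ℳ (i + d), ∃ m' ∈ ℳ i, f • m' = m)
    (n : ℤ) {V W : (Proj 𝒜).Opens} (h : V ≤ W) (hW : W = Proj.basicOpen 𝒜 g)
    (hV : V = Proj.basicOpen 𝒜 (g * f)) :
    Function.Bijective (Coh69.res (tilde 𝒜 ℳ n).presheaf h) := by
  subst hW hV
  have hgf : g * f ∈ 𝒜 (e + d) := SetLike.mul_mem_graded hg hf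
  refine ⟨(injective_iff_map_eq_zero _).2 fun s hs => ?_, fun s => ?_⟩
  · obtain ⟨k, i, m, hm, hi, hsm⟩ :=
      exists_frac_eq H he hg (s : sect 𝒜 ℳ n (op (ProjectiveSpectrum.basicOpen 𝒜 g)))
    have hzero : ∀ x : ProjectiveSpectrum.basicOpen 𝒜 (g * f),
        frac x.1 m (g ^ k) (pow_notMem (fun q => x.2 (Ideal.mul_mem_right _ _ q)) k) = 0 := fun x =>
      (hsm ⟨x.1, fun q => x.2 (Ideal.mul_mem_right _ _ q)⟩).symm.trans
        (congrArg (fun q => ((q : sect 𝒜 ℳ n (op (ProjectiveSpectrum.basicOpen 𝒜 (g * f)))).1 x).1) hs)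
    obtain ⟨N, hN⟩ := exists_pow_smul_eq_zero_of_frac H (Nat.add_pos_left he d) hgf hm _ hzero
    rw [mul_pow, mul_comm, mul_smul] at hN
    have h0 : g ^ N • m = 0 :=
      eq_zero_of_pow_smul hinj hf N (N * e + i) _
        (gsmul_mem 𝒜 ℳ (by simpa using SetLike.pow_mem_graded N hg) hm) hN
    refine (sect_ext fun x => ?_ : (s : sect 𝒜 ℳ n (op (ProjectiveSpectrum.basicOpen 𝒜 g))) = 0)
    exact (hsm x).trans (frac_eq_zero_iff.mpr ⟨g ^ N, pow_notMem x.2 N, h0⟩)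
  · obtain ⟨k, i, m, hm, hi, hsm⟩ :=
      exists_frac_eq H (Nat.add_pos_left he d) hgf (s : sect 𝒜 ℳ n (op (ProjectiveSpectrum.basicOpen 𝒜 (g * f))))
    let K := n.natAbs
    obtain ⟨i', hi'⟩ : ∃ i' : ℕ, (i' : ℤ) = ((K + k) * e : ℕ) + n := by
      refine ⟨((((K + k) * e : ℕ) : ℤ) + n).toNat, Int.toNat_of_nonneg ?_⟩
      have h1 : K ≤ (K + k) * e := le_trans (Nat.le_add_right K k) (Nat.le_mul_of_pos_right _ he)
      omega
    have hdeg : K * e + i = i' + k * d := by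
      push_cast at hi hi'
      zify
      linarith
    obtain ⟨m', hm', hmm⟩ := exists_pow_div hdiv k i' (g ^ K • m) (by
      rw [← hdeg]
      exact gsmul_mem 𝒜 ℳ (by simpa using SetLike.pow_mem_graded K hg) hm)
    refine ⟨fracSect (U := ProjectiveSpectrum.basicOpen 𝒜 g) hm'
      (show g ^ (K + k) ∈ 𝒜 ((K + k) * e) by simpa using SetLike.pow_mem_graded (K + k) hg)
      (fun x => pow_notMem x.2 _) hi', ?_⟩
    refine (sect_ext fun x => ?_ : (_ : sect 𝒜 ℳ n (op (ProjectiveSpectrum.basicOpen 𝒜 (g * f)))) = _)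
    refine Eq.trans ?_ (hsm x).symm
    show frac x.1 m' (g ^ (K + k)) _ = frac x.1 m ((g * f) ^ k) _
    refine frac_congr ?_
    rw [mul_pow, mul_smul, hmm, smul_smul, ← pow_add, add_comm k K]

end Groth.Agent.GrSyz54

end
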